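import Mathlib
import Cfsg.Agent.H533.T5.SporDefs_m3
import Cfsg.Agent.H596.OneCtx
import Cfsg.Agent.ChevalleyStructure.SL2Hom
import Cfsg.Agent.H14.CycNode
import Cfsg.Agent.H106.MTwD4_m3
import Cfsg.Agent.H862.T5.OBase
import Cfsg.Agent.H957.T5RowPSL_m3
import Cfsg.Agent.H862.T5.OBlock
import Cfsg.Agent.H755.CC.HNThree
import Cfsg.Agent.H478.HN3D
import Cfsg.Agent.H555.Hall.HNThree
import Cfsg.Agent.H897.T5Conn
import Cfsg.Agent.H897.T5Inn
import Cfsg.Agent.GenExc.Data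
import Cfsg.Agent.S1064
import Cfsg.Agent.S1065
import Cfsg.Agent.H994.KE.Base_m3
import Cfsg.Agent.S1055
import Cfsg.Agent.S1059
import Cfsg.Agent.S1062
import Cfsg.Agent.CpAutHN.Main
import Cfsg.Agent.Involutions.BaerSuzuki
import Cfsg.Agent.Mrg.Omega.ML.LieRow.Bld
import Cfsg.Agent.H969.Rot.Three
import Cfsg.Agent.H523.DspRgd
import Cfsg.Agent.Nodes.RGDChev
import Cfsg.Agent.S1082
import Cfsg.Agent.FastGrp
import Cfsg.Agent.Prune
set_option linter.all false

section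
prune_inst 0x7fbcfafaabb8b9deffff7e7fa698cffc29d09fffa6dff9437fe0e3ef03df030005e1aba50de090fc1ec3621400b87853f97eca3fe26bd87ffffd1df41ffbee0fb5e7b50851d688340fb80ff603f0778a7f3fffffffffffffffffffffffffffbeffbdffffffff

-- part: H897/WfBase
section
set_option linter.all false
open scoped Cfsg.Agent.FastGrp

/-!
# Rows of S3826 from common components (S3826)

* `qs_range` : the image of a perfect group whose proper normal subgroups are central is `QS`;
* `wf_of_red` : `Red p L`, `L` a proper `QS` subgroup, gives `WfRow p`.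
-/

set_option autoImplicit false

namespace Cfsg.Agent.H897.WfBase

open Subgroup Cfsg Cfsg.Agent.H533.T5 Cfsg.Agent.H533.Wf Cfsg.Agent.H897.T5Sub
open scoped commutatorElement

universe u v

section QS

variable {X Y : Type*} [Group X] [Group Y]

/-- the image of a perfect group whose proper normal subgroups are central -/
theorem qs_range (hperf : commutator X = ⊤) (hX : ∀ N : Subgroup X, N.Normal → N = ⊤ ∨ N ≤ center X)
    (f : X →* Y) (hne : f.range ≠ ⊥) : QS f.range where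
  perfect := by
    have h1 : Subgroup.map f ⁅(⊤ : Subgroup X), (⊤ : Subgroup X)⁆ =
        ⁅(⊤ : Subgroup X).map f, (⊤ : Subgroup X).map f⁆ := Subgroup.map_commutator _ _ _
    have h2 : ⁅(⊤ : Subgroup X), (⊤ : Subgroup X)⁆ = ⊤ := hperf
    rw [h2, ← MonoidHom.range_eq_map] at h1
    exact h1.symm
  ne := hne
  norm := by
    intro N hN hNn
    have hn : (N.comap f).Normal := by
      refine ⟨fun n hn g => ?_⟩
      rw [mem_comap] at hn ⊢
      rw [map_mul, map_mul, map_inv]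
      exact (mem_normalizer_iff.1 (hNn ⟨g, rfl⟩) (f n)).1 hn
    rcases hX _ hn with h | h
    · left
      refine le_antisymm hN ?_
      rintro _ ⟨g, rfl⟩
      have : g ∈ N.comap f := by rw [h]; exact mem_top g
      exact this
    · right
      intro y hy
      obtain ⟨g, rfl⟩ := hN hy
      have h1 : g ∈ center X := h hy
      rw [mem_centralizer_iff]
      rintro _ ⟨x, rfl⟩
      rw [← map_mul, ← map_mul, mem_center_iff.1 h1 x]

/-- `QS` passes to images under injective homomorphisms -/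
theorem qs_map {L : Subgroup X} (hL : QS L) (f : X →* Y) (hf : Function.Injective f) : QS (L.map f) where
  perfect := by
    rw [← Subgroup.map_commutator, hL.perfect]
  ne := by
    intro h
    exact hL.ne ((Subgroup.map_eq_bot_iff_of_injective _ hf).1 h)
  norm := by
    intro N hN hNn
    have e1 : (N.comap f).map f = N := by
      rw [Subgroup.map_comap_eq]
      exact inf_eq_right.2 (hN.trans (Subgroup.map_le_range _ _))
    have h1 : N.comap f ≤ L := by
      intro x hx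
      obtain ⟨y, hy, hyx⟩ := hN hx
      rwa [← hf hyx]
    rcases hL.norm (N.comap f) h1 (by
      intro x hx
      rw [mem_normalizer_iff]
      intro y
      rw [mem_comap, mem_comap, map_mul, map_mul, map_inv]
      exact mem_normalizer_iff.1 (hNn ⟨x, hx, rfl⟩) (f y)) with h | h
    · left
      rw [← e1, h]
    · right
      rw [← e1]
      rintro _ ⟨x, hx, rfl⟩
      rw [mem_centralizer_iff]
      rintro _ ⟨y, hy, rfl⟩
      rw [← map_mul, ← map_mul, mem_centralizer_iff.1 (h hx) y hy]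

end QS

section Row

variable {p : ℕ} [Fact p.Prime] {K : Type v} [Group K]

/-- **Common components.** -/
theorem wf_of_red {L : Subgroup K} (hL : QS L) (hne : L ≠ ⊤) (h : Red p L) : WfRow.{u, v} p K := by
  rintro G _ _ S C D hC ⟨e⟩
  have hn := hC.normal
  have hs := hC.simple
  let f : K →* G := S.subtype.comp e.symm.toMonoidHom
  have hf : Function.Injective f := S.subtype_injective.comp e.symm.injective
  have hfe : ∀ s : S, f (e s) = s := fun s => by
    show ((e.symm (e s) : S) : G) = s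
    rw [e.symm_apply_apply]
  have hfS : ∀ k : K, f k ∈ S := fun k => (e.symm k).2
  have hQ := qs_map hL f hf
  -- the automorphism of `K` induced by `g`
  let ψ : G →* MulAut K := (MulAut.congr e).toMonoidHom.comp MulAut.conjNormal
  have hψ : ∀ (g : G) (k : K), f (ψ g k) = g * f k * g⁻¹ := by
    intro g k
    show ((e.symm (e (MulAut.conjNormal g (e.symm k))) : S) : G) = _
    rw [e.symm_apply_apply, MulAut.conjNormal_apply]
    rfl
  have hinj : Function.Injective ψ := by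
    rw [injective_iff_map_eq_one]
    intro g hg
    have h1 : g ∈ centralizer (S : Set G) := by
      rw [mem_centralizer_iff]
      intro s hs
      have h2 := hψ g (e ⟨s, hs⟩)
      rw [hg, MulAut.one_apply, hfe] at h2
      have h3 : s = g * s * g⁻¹ := h2
      calc s * g = g * s * g⁻¹ * g := by rw [← h3]
        _ = g * s := by group
    rw [hC.cent, mem_bot] at h1
    exact h1
  -- the conjugates
  have key : ∀ c : G, orderOf c = p → ∃ s : G, s * c * s⁻¹ ∈ normalizer ((L.map f : Subgroup G) : Set G) ∧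
      s * c * s⁻¹ ∉ centralizer ((L.map f : Subgroup G) : Set G) := by
    intro c hc
    obtain ⟨g, ⟨k, rfl⟩, h1, y, hy, hy1⟩ := h (ψ c) (by rw [orderOf_injective ψ hinj, hc])
    have h2 : (MulAut.conj k : MulAut K) = ψ (f k) := by
      ext x
      apply hf
      rw [hψ, MulAut.conj_apply, map_mul, map_mul, map_inv]
    rw [h2, ← map_mul, ← map_inv, ← map_mul] at h1 hy1
    refine ⟨f k, ?_, ?_⟩
    · rw [mem_normalizer_iff]
      intro x
      constructor
      · rintro ⟨z, hz, rfl⟩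
        exact ⟨_, (h1 z).2 hz, hψ _ _⟩
      · rintro ⟨z, hz, hzx⟩
        obtain ⟨w, rfl⟩ : ∃ w, z = ψ (f k * c * (f k)⁻¹) w := ⟨(ψ (f k * c * (f k)⁻¹)).symm z, by simp⟩
        have h3 := (h1 w).1 hz
        refine ⟨w, h3, ?_⟩
        rw [hψ] at hzx
        exact mul_left_cancel (mul_right_cancel hzx)
    · intro hcon
      apply hy1
      apply hf
      rw [hψ]
      have h3 := mem_centralizer_iff.1 hcon (f y) ⟨y, hy, rfl⟩
      rw [← h3]
      group
  obtain ⟨c, hc⟩ := hC.neC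
  obtain ⟨d, hd⟩ := hC.neD
  obtain ⟨s, hs1, hs2⟩ := key c (hC.ordC c hc)
  obtain ⟨t, ht1, ht2⟩ := key d (hC.ordD d hd)
  refine hC.false_of_component ?_ hQ (hC.conjC s c hc) (hC.conjD t d hd) hs1 ht1 hs2 ht2
  intro htop
  have hLS : L.map f ≤ S := by
    rintro _ ⟨z, _, rfl⟩
    exact hfS z
  have hLn : ((L.map f).subgroupOf S).Normal := by
    refine ⟨fun n hn' g => ?_⟩
    rw [mem_subgroupOf] at hn' ⊢
    have h3 : (g : G) ∈ normalizer ((L.map f : Subgroup G) : Set G) := by rw [htop]; exact mem_top _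
    exact (mem_normalizer_iff.1 h3 (n : G)).1 hn'
  rcases hs.eq_bot_or_eq_top_of_normal _ hLn with h3 | h3
  · apply hQ.ne
    have h4 := Subgroup.subgroupOf_eq_bot.1 h3
    exact (disjoint_self.1 (h4.mono_right hLS)) 
  · apply hne
    rw [eq_top_iff]
    intro k _
    have h4 : e.symm k ∈ (L.map f).subgroupOf S := by rw [h3]; exact mem_top _
    rw [mem_subgroupOf] at h4
    obtain ⟨z, hz, hzk⟩ := h4
    have h5 : z = k := hf hzk
    rwa [← h5]

end Row

section SL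

variable {F : Type} [Field F] [Fintype F]

/-- the proper normal subgroups of `SL₂(F)` are central -/
theorem sl_normal (h4 : 4 ≤ Fintype.card F) (N : Subgroup (Matrix.SpecialLinearGroup (Fin 2) F)) (hN : N.Normal) :
    N = ⊤ ∨ N ≤ center (Matrix.SpecialLinearGroup (Fin 2) F) := by
  have hs : IsSimpleGroup (Matrix.ProjectiveSpecialLinearGroup (Fin 2) F) :=
    Cfsg.Agent.TwoFusion.SLTwoFacts.isSimpleGroup_psl (by omega)
  have hp := H596.OneCtx.perfect_SL h4
  let q : Matrix.SpecialLinearGroup (Fin 2) F →* Matrix.ProjectiveSpecialLinearGroup (Fin 2) F :=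
    QuotientGroup.mk' (center (Matrix.SpecialLinearGroup (Fin 2) F))
  have hq : Function.Surjective q := QuotientGroup.mk'_surjective _
  rcases hs.eq_bot_or_eq_top_of_normal (N.map q) (hN.map q hq) with h | h
  · right
    intro x hx
    have h1 : q x ∈ N.map q := ⟨x, hx, rfl⟩
    rw [h, mem_bot] at h1
    exact (QuotientGroup.eq_one_iff x).1 h1
  · left
    have h1 : ∀ x : Matrix.SpecialLinearGroup (Fin 2) F, ∃ n ∈ N, ∃ z ∈ center (Matrix.SpecialLinearGroup (Fin 2) F),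
        x = n * z := by
      intro x
      have h2 : q x ∈ N.map q := by rw [h]; exact mem_top _
      obtain ⟨n, hn, hnx⟩ := h2
      refine ⟨n, hn, n⁻¹ * x, ?_, by group⟩
      exact QuotientGroup.eq.1 hnx
    rw [eq_top_iff, ← hp, commutator_def, Subgroup.commutator_le]
    intro a _ b _
    obtain ⟨n, hn, z, hz, rfl⟩ := h1 a
    obtain ⟨m, hm, w, hw, rfl⟩ := h1 b
    have e1 : ⁅n * z, m * w⁆ = ⁅n, m⁆ := by
      have hz' := fun g => mem_center_iff.1 hz g
      have hw' := fun g => mem_center_iff.1 hw g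
      rw [commutatorElement_def, commutatorElement_def]
      have e2 : n * z * (m * w) * (n * z)⁻¹ * (m * w)⁻¹ = n * (z * (m * w) * z⁻¹) * n⁻¹ * w⁻¹ * m⁻¹ := by group
      have e3 : z * (m * w) * z⁻¹ = m * w := by rw [← hz' (m * w)]; group
      have e4 : n * (m * w) * n⁻¹ * w⁻¹ * m⁻¹ = n * m * (w * n⁻¹) * w⁻¹ * m⁻¹ := by group
      rw [e2, e3, e4, ← hw' n⁻¹]
      group
    rw [e1]
    rw [commutatorElement_def]
    exact mul_mem (mul_mem (mul_mem hn hm) (inv_mem hn)) (inv_mem hm)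

/-- the images of `SL₂(F)` -/
theorem qs_sl (h4 : 4 ≤ Fintype.card F) {Y : Type*} [Group Y] (κ : Matrix.SpecialLinearGroup (Fin 2) F →* Y)
    (hker : ∀ C, κ C = 1 → C ∈ center (Matrix.SpecialLinearGroup (Fin 2) F)) : QS κ.range := by
  refine qs_range (H596.OneCtx.perfect_SL h4) (sl_normal h4) κ fun h => ?_
  have h1 : center (Matrix.SpecialLinearGroup (Fin 2) F) = ⊤ := by
    rw [eq_top_iff]
    intro C _
    refine hker C ?_
    have h2 : κ C ∈ κ.range := ⟨C, rfl⟩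
    rwa [h, mem_bot] at h2
  have h2 := H596.OneCtx.perfect_SL h4
  have h3 : commutator (Matrix.SpecialLinearGroup (Fin 2) F) = ⊥ := by
    rw [commutator_def, Subgroup.commutator_eq_bot_iff_le_centralizer, Subgroup.centralizer_eq_top_iff_subset.2]
    · intro x _
      have : x ∈ (⊤ : Subgroup (Matrix.SpecialLinearGroup (Fin 2) F)) := mem_top _
      rw [← h1] at this
      exact this
  rw [h2] at h3
  have h4' : Cfsg.Agent.ChevalleyStructure.SL2Hom.up (1 : F) = 1 := by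
    have h5 : Cfsg.Agent.ChevalleyStructure.SL2Hom.up (1 : F) ∈
      (⊤ : Subgroup (Matrix.SpecialLinearGroup (Fin 2) F)) := mem_top _
    rw [h3, mem_bot] at h5
    exact h5
  have h6 := congrArg (fun A : Matrix.SpecialLinearGroup (Fin 2) F => A.1 0 1) h4'
  simp [Cfsg.Agent.ChevalleyStructure.SL2Hom.up] at h6

/-- the order of `SL₂(F)` is small -/
theorem card_sl : Nat.card (Matrix.SpecialLinearGroup (Fin 2) F) ≤ Fintype.card F ^ 4 := by
  classical
  rw [Nat.card_eq_fintype_card]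
  have h1 : Fintype.card (Matrix (Fin 2) (Fin 2) F) = Fintype.card F ^ 4 := by
    have h2 : Fintype.card (Matrix (Fin 2) (Fin 2) F) = Fintype.card (Fin 2 → Fin 2 → F) := rfl
    rw [h2, Fintype.card_fun, Fintype.card_fun, Fintype.card_fin, ← pow_mul]
  rw [← h1]
  exact Fintype.card_le_of_injective (fun A : Matrix.SpecialLinearGroup (Fin 2) F => A.1) Subtype.val_injective

theorem range_ne_top {S : Type*} [Group S] (κ : Matrix.SpecialLinearGroup (Fin 2) F →* S) {d N X : ℕ}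
    (hd : d ≤ Fintype.card F) (h : d * Nat.card S = Fintype.card F ^ N * X) (hN : 6 ≤ N) (hX : 0 < X) :
    κ.range ≠ ⊤ := by
  intro htop
  have hq : 1 < Fintype.card F := Fintype.one_lt_card
  have h1 : Nat.card S ≤ Fintype.card F ^ 4 := by
    refine le_trans ?_ (card_sl (F := F))
    have hs : Function.Surjective κ := MonoidHom.range_eq_top.1 htop
    exact Nat.card_le_card_of_surjective κ hs
  have h2 : Fintype.card F ^ 6 ≤ Fintype.card F ^ N * X := by
    calc Fintype.card F ^ 6 ≤ Fintype.card F ^ N := Nat.pow_le_pow_right (by omega) hN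
      _ ≤ _ := Nat.le_mul_of_pos_right _ hX
  have h3 : d * Nat.card S ≤ Fintype.card F ^ 5 := by
    calc d * Nat.card S ≤ Fintype.card F * Fintype.card F ^ 4 := Nat.mul_le_mul hd h1
      _ = Fintype.card F ^ 5 := by ring
  have h4 : Fintype.card F ^ 5 < Fintype.card F ^ 6 := Nat.pow_lt_pow_right hq (by norm_num)
  omega

end SL

end Cfsg.Agent.H897.WfBase
end

-- part: H491/Wf/Asm
section
prune_inst 0x4005014440062100000000596310021404400059200408800c0c10b420a006300000089010480001340082a8000000028134c0080424000000e200400000004010080100090480000400096000000400000000000000000000000000000000004200000000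
set_option linter.all false
open scoped Cfsg.Agent.FastGrp

-- part: H491/Wf/Line
section
/-!
# The projective line in defining characteristic: pairs of permutations of order `p` (S3826)

* `exists_disjoint` : averaging over a transitive group;
* `card_fix_lt` : a semilinear permutation of order `p` of the projective line over a field of odd characteristic `p`
  with `q` elements has less than `√(q + 1)` fixed points;
* `wpair_line` : two such permutations are a pair.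
-/

set_option autoImplicit false
set_option linter.unusedSectionVars false

namespace Cfsg.Agent.H491.Wf.Line

open Cfsg.Agent.FixBN Cfsg.Agent.FixBN.RankOneL2 Cfsg.Agent.H14.CycLine Cfsg.Agent.H533.T5

section Avg

variable {G X : Type*} [Group G] [MulAction G X] [Finite G] [Finite X] [MulAction.IsPretransitive G X]

/-- **Averaging.** -/
theorem exists_disjoint (A B : Set X) (h : Nat.card A * Nat.card B < Nat.card X) :
    ∃ g : G, ∀ b ∈ B, g • b ∉ A := by
  classical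
  by_contra hcon
  push Not at hcon
  have hne : Nonempty X := by
    rw [← not_isEmpty_iff]
    intro h1
    have h2 : Nat.card X = 0 := Nat.card_of_isEmpty
    rw [h2] at h
    exact absurd h (Nat.not_lt_zero _)
  have x0 : X := Classical.choice hne
  -- cardinality of the transporters
  have hst : ∀ b : X, Nat.card X * Nat.card (MulAction.stabilizer G b) = Nat.card G := by
    intro b
    have h1 := Nat.card_congr (MulAction.orbitProdStabilizerEquivGroup G b)
    rw [Nat.card_prod, MulAction.orbit_eq_univ] at h1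
    rwa [Nat.card_congr (Equiv.Set.univ X)] at h1
  have hX : 0 < Nat.card X := Nat.card_pos
  have hG : 0 < Nat.card G := Nat.card_pos
  set s := Nat.card (MulAction.stabilizer G x0) with hs
  have hs' : ∀ b : X, Nat.card (MulAction.stabilizer G b) = s := fun b =>
    Nat.eq_of_mul_eq_mul_left hX (by rw [hst b, hst x0])
  -- an injection of `G` into `A × B × stab`
  choose t ht using fun (p : X × X) => MulAction.exists_smul_eq G p.2 p.1
  have hinj : ∃ f : G → (A × B) × MulAction.stabilizer G x0, Function.Injective f := by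
    choose b hb hba using hcon
    choose r hr using fun b : X => MulAction.exists_smul_eq G x0 b
    refine ⟨fun g => ((⟨g • b g, hba g⟩, ⟨b g, hb g⟩), ⟨(r (g • b g))⁻¹ * g * r (b g), ?_⟩), ?_⟩
    · rw [MulAction.mem_stabilizer_iff, mul_smul, mul_smul, hr, inv_smul_eq_iff, hr]
    · intro g g' hgg
      simp only [Prod.mk.injEq, Subtype.mk.injEq] at hgg
      obtain ⟨⟨h1, h2⟩, h3⟩ := hgg
      rw [h1, h2] at h3
      exact mul_left_cancel (mul_right_cancel h3)
  obtain ⟨f, hf⟩ := hinj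
  have h1 := Nat.card_le_card_of_injective f hf
  rw [Nat.card_prod, Nat.card_prod, ← hst x0] at h1
  have hspos : 0 < s := Nat.card_pos
  have h2 := Nat.le_of_mul_le_mul_right h1 hspos
  omega

end Avg

section Field

variable {F : Type*} [Field F]

/-- A permutation of the root groups fixing `0`, `∞` is `t ↦ m φ(t)`. -/
theorem exists_semi (h2 : (2 : F) ≠ 0) {c : Equiv.Perm (Option F)} (hc : c ∈ famStab (lineFam F))
    (h0 : c none = none) (h1 : c (some 0) = some 0) :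
    ∃ (φ : F ≃+* F) (m : F), m ≠ 0 ∧ ∀ t, c (some t) = some (m * φ t) := by
  obtain ⟨φ, T, hT⟩ := exists_lift_fix h2 hc h0 h1
  have e1 : ((1, 0) : F × F) ≠ 0 := by simp
  have e2 : ((0, 1) : F × F) ≠ 0 := by simp
  have h3 : (T (1, 0)).2 = 0 := by
    have h4 := hT.act _ e1
    rw [pt_zero, h0] at h4
    by_contra h5
    have h6 : pt (T (1, 0)) = some ((T (1, 0)).1 / (T (1, 0)).2) := pt_ne _ h5
    rw [h6] at h4
    exact Option.some_ne_none _ h4.symm
  have h4 : (T (0, 1)).1 = 0 ∧ (T (0, 1)).2 ≠ 0 := by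
    have h4 := hT.act _ e2
    rw [pt_ne _ one_ne_zero, zero_div, h1] at h4
    by_cases h5 : (T (0, 1)).2 = 0
    · exfalso
      have h6 : pt (T (0, 1)) = none := by
        have h7 : T (0, 1) = ((T (0, 1)).1, 0) := Prod.ext rfl h5
        rw [h7, pt_zero]
      rw [h6] at h4
      exact Option.some_ne_none _ h4
    · have h6 : pt (T (0, 1)) = some ((T (0, 1)).1 / (T (0, 1)).2) := pt_ne _ h5
      rw [h6] at h4
      have h7 := Option.some_injective _ h4
      exact ⟨by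
        rcases div_eq_zero_iff.1 h7.symm with h8 | h8
        · exact h8
        · exact absurd h8 h5, h5⟩
  set a := (T (1, 0)).1 with ha
  set r := (T (0, 1)).2 with hr
  have ha0 : a ≠ 0 := by
    intro h5
    apply map_ne_zero' T e1
    exact Prod.ext h5 h3
  refine ⟨φ, a / r, div_ne_zero ha0 h4.2, fun t => ?_⟩
  have h5 : ((t, 1) : F × F) ≠ 0 := by simp
  have h6 := hT.act _ h5
  rw [pt_ne _ one_ne_zero, div_one] at h6
  have h7 : T (t, 1) = (φ t * a, r) := by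
    have h8 : ((t, 1) : F × F) = t • ((1, 0) : F × F) + ((0, 1) : F × F) := by simp
    rw [h8, map_add, hT.semi]
    refine Prod.ext ?_ ?_
    · show φ t * (T (1, 0)).1 + (T (0, 1)).1 = φ t * a
      rw [h4.1, add_zero]
    · show φ t * (T (1, 0)).2 + (T (0, 1)).2 = r
      rw [h3, mul_zero, zero_add]
  rw [h6, h7, pt_ne _ h4.2]
  congr 1
  ring

/-- The degree of the fixed field. -/
theorem card_eq_pow [Finite F] {p : ℕ} [hp : Fact p.Prime] {φ : F ≃+* F} (hφ : φ ^ p = 1) (h1 : φ ≠ 1) :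
    Nat.card F = Nat.card {t : F // φ t = t} ^ p := by
  classical
  have : Fintype F := Fintype.ofFinite F
  have hfin : Finite (F ≃+* F) := Finite.of_injective (fun e => (e : F → F)) DFunLike.coe_injective
  let G := Subgroup.zpowers φ
  have hFG : Fintype G := Fintype.ofFinite G
  have h2 := FixedPoints.finrank_eq_card G F
  have h3 : Fintype.card G = p := by
    rw [← Nat.card_eq_fintype_card, Nat.card_zpowers, orderOf_eq_prime hφ h1]
  have h4 : Nat.card F = Nat.card (FixedPoints.subfield G F) ^ p := by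
    rw [Module.natCard_eq_pow_finrank (K := FixedPoints.subfield G F) (V := F), h2, h3]
  rw [h4]
  congr 1
  refine Nat.card_congr (Equiv.subtypeEquivRight fun t => ?_)
  show (∀ g : G, g • t = t) ↔ φ t = t
  constructor
  · intro h
    exact h ⟨φ, Subgroup.mem_zpowers φ⟩
  · rintro h ⟨g, hg⟩
    have h5 : φ ∈ MulAction.stabilizer (F ≃+* F) t := h
    exact (Subgroup.zpowers_le.2 h5) hg

theorem arith {a q p : ℕ} (ha : 2 ≤ a) (hp : 3 ≤ p) (hq : q = a ^ p) (h3 : a ≠ 2) : (a + 1) * (a + 1) < q + 1 := by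
  have h1 : a ^ 3 ≤ a ^ p := Nat.pow_le_pow_right (by omega) hp
  have h2 : 3 ≤ a := by omega
  have h4 : a ^ 3 = a * a * a := by ring
  rw [hq]
  nlinarith

/-- **The number of fixed points.** -/
theorem card_fix_lt [Finite F] {p : ℕ} [hp : Fact p.Prime] [CharP F p] (hp2 : p ≠ 2) {f : Equiv.Perm (Option F)}
    (hf : f ∈ famStab (lineFam F)) (ho : f ^ p = 1) (hne : f ≠ 1) :
    Nat.card {y : Option F // f y = y} * Nat.card {y : Option F // f y = y} < Nat.card F + 1 := by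
  classical
  have h2 : (2 : F) ≠ 0 := by
    intro h
    have h3 : ((2 : ℕ) : F) = 0 := by exact_mod_cast h
    rw [CharP.cast_eq_zero_iff F p] at h3
    have := (Nat.prime_dvd_prime_iff_eq hp.out Nat.prime_two).1 h3
    exact hp2 this
  have hF : 0 < Nat.card F := Nat.card_pos
  by_cases hsub : Subsingleton {y : Option F // f y = y}
  · have h3 : Nat.card {y : Option F // f y = y} ≤ 1 := Finite.card_le_one_iff_subsingleton.2 hsub
    calc _ ≤ 1 * 1 := Nat.mul_le_mul h3 h3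
      _ < Nat.card F + 1 := by omega
  rw [not_subsingleton_iff_nontrivial] at hsub
  obtain ⟨⟨y0, hy0⟩, ⟨y1, hy1⟩, hy⟩ := hsub
  have hy01 : y0 ≠ y1 := fun h => hy (Subtype.ext h)
  obtain ⟨k, hk, hk0, hk1⟩ := exists_psl2 hy01
  set c := k⁻¹ * f * k with hc
  have hkk : ∀ y, k⁻¹ (k y) = y := fun y => k.symm_apply_apply y
  have hkk' : ∀ y, k (k⁻¹ y) = y := fun y => k.apply_symm_apply y
  have hc0 : c none = none := by
    show k⁻¹ (f (k none)) = none
    rw [hk0, hy0, ← hk0, hkk]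
  have hc1 : c (some 0) = some 0 := by
    show k⁻¹ (f (k (some 0))) = some 0
    rw [hk1, hy1, ← hk1, hkk]
  have hcf : c ∈ famStab (lineFam F) :=
    mul_mem (mul_mem (inv_mem (psl2_le_famStab hk)) hf) (psl2_le_famStab hk)
  have hcp : c ^ p = 1 := by
    have := conj_pow (i := p) (a := k⁻¹) (b := f)
    rw [inv_inv] at this
    rw [hc, this, ho]; group
  have hcne : c ≠ 1 := by
    intro h
    apply hne
    have : f = k * c * k⁻¹ := by rw [hc]; group
    rw [this, h]; group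
  have hcard : Nat.card {y : Option F // f y = y} = Nat.card {y : Option F // c y = y} := by
    refine Nat.card_congr (Equiv.subtypeEquiv (k⁻¹ : Equiv.Perm (Option F)) fun y => ?_)
    show f y = y ↔ k⁻¹ (f (k (k⁻¹ y))) = k⁻¹ y
    rw [hkk', k⁻¹.injective.eq_iff]
  rw [hcard]
  obtain ⟨φ, m, hm, hφ⟩ := exists_semi h2 hcf hc0 hc1
  -- powers
  have hpow : ∀ n : ℕ, ∃ m' : F, m' ≠ 0 ∧ ∀ t, (c ^ n) (some t) = some (m' * (φ ^ n) t) := by
    intro n
    induction n with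
    | zero => exact ⟨1, one_ne_zero, fun t => by simp⟩
    | succ n ih =>
      obtain ⟨m', hm', h3⟩ := ih
      refine ⟨m' * (φ ^ n) m, mul_ne_zero hm' ((map_ne_zero (φ ^ n)).2 hm), fun t => ?_⟩
      rw [pow_succ, Equiv.Perm.mul_apply, hφ, h3, pow_succ, map_mul]
      show some (m' * ((φ ^ n) m * (φ ^ n) (φ t))) = _
      rw [mul_assoc]
      rfl
  have hφp : φ ^ p = 1 := by
    obtain ⟨m', hm', h3⟩ := hpow p
    rw [hcp] at h3
    have h4 : m' = 1 := by
      have := h3 1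
      rw [map_one, mul_one] at this
      exact (Option.some_injective _ this).symm
    ext t
    have := h3 t
    rw [h4, one_mul] at this
    exact (Option.some_injective _ this).symm
  have hφ1 : φ ≠ 1 := by
    rintro rfl
    have hpow' : ∀ n : ℕ, ∀ t, (c ^ n) (some t) = some (m ^ n * t) := by
      intro n
      induction n with
      | zero => intro t; simp
      | succ n ih =>
        intro t
        rw [pow_succ, Equiv.Perm.mul_apply, hφ, ih, pow_succ, mul_assoc]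
        rfl
    have h3 := hpow' p 1
    rw [hcp, mul_one] at h3
    have h4 : m ^ p = 1 := (Option.some_injective _ h3).symm
    have h5 : (m - 1) ^ p = 0 := by
      rw [sub_pow_char, one_pow, h4, sub_self]
    have h6 : m = 1 := sub_eq_zero.1 (pow_eq_zero_iff hp.out.ne_zero |>.1 h5)
    apply hcne
    ext1 y
    rcases y with _ | t
    · exact hc0
    · rw [hφ, h6, one_mul]; rfl
  have hq := card_eq_pow (F := F) (p := p) hφp hφ1
  set a := Nat.card {t : F // φ t = t} with ha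
  have ha2 : 2 ≤ a := by
    have : Nontrivial {t : F // φ t = t} := ⟨⟨0, map_zero φ⟩, ⟨1, map_one φ⟩, fun h => zero_ne_one (congrArg Subtype.val h)⟩
    exact Finite.one_lt_card
  have ha2' : a ≠ 2 := by
    intro h
    apply h2
    -- `q = 2 ^ p`, so `2 = 0`
    have h3 : Nat.card F = 2 ^ p := by rw [hq, h]
    have : Fintype F := Fintype.ofFinite F
    have h4 : ((Nat.card F : ℕ) : F) = 0 := by
      rw [Nat.card_eq_fintype_card, FiniteField.cast_card_eq_zero]
    rw [h3] at h4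
    push_cast at h4
    exact pow_eq_zero_iff hp.out.ne_zero |>.1 h4
  have hp3 : 3 ≤ p := by
    have := hp.out.two_le
    omega
  -- the fixed points of `c`
  have hle : Nat.card {y : Option F // c y = y} ≤ a + 1 := by
    by_cases hx : ∃ x0 : F, x0 ≠ 0 ∧ m * φ x0 = x0
    · obtain ⟨x0, hx0, hmx⟩ := hx
      have hinj : ∃ g : {y : Option F // c y = y} → Option {t : F // φ t = t}, Function.Injective g := by
        refine ⟨fun y => match y with
          | ⟨none, _⟩ => none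
          | ⟨some t, ht⟩ => some ⟨t / x0, ?_⟩, ?_⟩
        · have h3 : m * φ t = t := by
            rw [hφ] at ht
            exact Option.some_injective _ ht
          rw [map_div₀]
          have h4 : φ x0 ≠ 0 := by simpa using hx0
          rw [div_eq_div_iff h4 hx0]
          have : m * (φ t * x0) = m * (t * φ x0) := by
            calc m * (φ t * x0) = (m * φ t) * x0 := by ring
              _ = t * x0 := by rw [h3]
              _ = t * (m * φ x0) := by rw [hmx]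
              _ = m * (t * φ x0) := by ring
          exact mul_left_cancel₀ hm this
        · rintro ⟨_ | t, ht⟩ ⟨_ | s, hs⟩ hts
          · rfl
          · simp at hts
          · simp at hts
          · simp only [Option.some.injEq, Subtype.mk.injEq] at hts
            have : t = s := by
              rwa [div_left_inj' hx0] at hts
            subst this
            rfl
      obtain ⟨g, hg⟩ := hinj
      have h3 := Nat.card_le_card_of_injective g hg
      rwa [Finite.card_option] at h3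
    · push Not at hx
      have hinj : ∃ g : {y : Option F // c y = y} → Option Unit, Function.Injective g := by
        refine ⟨fun y => y.1.map fun _ => (), ?_⟩
        rintro ⟨_ | t, ht⟩ ⟨_ | s, hs⟩ hts
        · rfl
        · simp at hts
        · simp at hts
        · have h0 : ∀ t : F, c (some t) = some t → t = 0 := by
            intro t ht
            by_contra h5
            rw [hφ] at ht
            exact hx t h5 (Option.some_injective _ ht)
          have h1 := h0 t ht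
          have h2 := h0 s hs
          subst h1
          subst h2
          rfl
      obtain ⟨g, hg⟩ := hinj
      have h3 := Nat.card_le_card_of_injective g hg
      have h4 : Nat.card (Option Unit) = 2 := by simp
      omega
  calc _ ≤ (a + 1) * (a + 1) := Nat.mul_le_mul hle hle
    _ < Nat.card F + 1 := arith ha2 hp3 hq ha2'

/-- `a² < n`, `b² < n` ⟹ `a b < n` -/
theorem mul_lt_of_sq {a b n : ℕ} (ha : a * a < n) (hb : b * b < n) : a * b < n := by
  rcases le_total a b with h | h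
  · exact lt_of_le_of_lt (Nat.mul_le_mul_right b h) hb
  · exact lt_of_le_of_lt (Nat.mul_le_mul_left a h) ha

/-- **The rank one row, weak form**, own odd characteristic. -/
theorem wpair_line [Finite F] {p : ℕ} [hp : Fact p.Prime] [CharP F p] (hp2 : p ≠ 2) {f₁ f₂ : Equiv.Perm (Option F)}
    (h₁ : f₁ ∈ famStab (lineFam F)) (h₂ : f₂ ∈ famStab (lineFam F)) (o₁ : f₁ ^ p = 1) (o₂ : f₂ ^ p = 1)
    (n₁ : f₁ ≠ 1) (n₂ : f₂ ≠ 1) : WPair p (⨆ y, lineFam F y) f₁ f₂ := by
  classical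
  rw [iSup_lineFam]
  have : Fintype F := Fintype.ofFinite F
  have hfin : Finite (psl2 F) := inferInstance
  have htr : MulAction.IsPretransitive (psl2 F) (Option F) := by
    refine ⟨fun x y => ?_⟩
    have key : ∀ y : Option F, ∃ g : psl2 F, g • (none : Option F) = y := fun y =>
      ⟨⟨toPt y, toPt_mem y⟩, toPt_apply y⟩
    obtain ⟨g, rfl⟩ := key x
    obtain ⟨g', rfl⟩ := key y
    exact ⟨g' * g⁻¹, by rw [mul_smul, inv_smul_smul]⟩
  have hX : Nat.card (Option F) = Nat.card F + 1 := Finite.card_option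
  obtain ⟨g, hg⟩ := exists_disjoint (G := psl2 F) (X := Option F) {y | f₁ y = y} {y | f₂ y = y} (by
    rw [hX]
    exact mul_lt_of_sq (card_fix_lt hp2 h₁ o₁ n₁) (card_fix_lt hp2 h₂ o₂ n₂))
  refine ⟨g, g.2, fun hP => ?_⟩
  set H := Subgroup.closure ({f₁, (g : Equiv.Perm (Option F)) * f₂ * (g : Equiv.Perm (Option F))⁻¹} :
    Set (Equiv.Perm (Option F))) with hH
  have h3 := hP.card_modEq_card_fixedPoints (Option F)
  have h4 : (MulAction.fixedPoints H (Option F)).Nonempty := by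
    rw [← Set.nonempty_coe_sort, ← Finite.card_pos_iff]
    by_contra h5
    have h6 : Nat.card (MulAction.fixedPoints H (Option F)) = 0 := by omega
    rw [h6, hX] at h3
    have h7 : p ∣ Nat.card F + 1 := (Nat.modEq_zero_iff_dvd).1 h3
    have h8 : p ∣ Nat.card F := by
      rw [Nat.card_eq_fintype_card, ← CharP.cast_eq_zero_iff F p, FiniteField.cast_card_eq_zero]
    have h9 : p ∣ 1 := (Nat.dvd_add_right h8).1 h7
    exact hp.out.one_lt.ne' (Nat.dvd_one.1 h9)
  obtain ⟨y, hy⟩ := h4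
  have h5 : f₁ y = y := hy ⟨f₁, Subgroup.subset_closure (by simp)⟩
  have h6 : (g : Equiv.Perm (Option F)) (f₂ ((g : Equiv.Perm (Option F))⁻¹ y)) = y :=
    hy ⟨_, Subgroup.subset_closure (Set.mem_insert_of_mem _ rfl)⟩
  have h7 : f₂ ((g : Equiv.Perm (Option F))⁻¹ y) = (g : Equiv.Perm (Option F))⁻¹ y := by
    rw [Equiv.Perm.eq_inv_iff_eq]
    exact h6
  apply hg ((g : Equiv.Perm (Option F))⁻¹ y) h7
  show f₁ ((g : Equiv.Perm (Option F)) ((g : Equiv.Perm (Option F))⁻¹ y)) = (g : Equiv.Perm (Option F)) ((g : Equiv.Perm (Option F))⁻¹ y)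
  rw [show (g : Equiv.Perm (Option F)) ((g : Equiv.Perm (Option F))⁻¹ y) = y from
    (g : Equiv.Perm (Option F)).apply_symm_apply y]
  exact h5

end Field

end Cfsg.Agent.H491.Wf.Line
end

-- part: H491/Wf/Pan
section
/-!
# Panels in odd defining characteristic: weak pairs (S3826)

* `W2 p fam` : two permutations of order `p` permuting the family are a weak pair; `W2.map`, `w2_pan`;
* `TPn.wpair` : a common type.
-/

set_option autoImplicit false
set_option linter.unusedSectionVars false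
set_option maxHeartbeats 400000

namespace Cfsg.Agent.H491.Wf.Pan

open Cfsg Subgroup Cfsg.Agent.LieExceptional.BNPairCore Cfsg.Agent.Tits.Core Cfsg.Agent.Tits.Core.Bldg
  Cfsg.Agent.Tits.OfBN Cfsg.Agent.Schreier.BNSch Cfsg.Agent.Tits.OppRes Cfsg.Agent.FixBN.OfBN
open Cfsg.Agent.FixBN (Sys Split famStab mem_famStab lineFam FieldNode)
open Cfsg.Agent.FixOdd (Tw)
open Cfsg.Agent.H460.Typed Cfsg.Agent.H460.Pan Cfsg.Agent.H460.EllC Cfsg.Agent.H460.PanL
  Cfsg.Agent.H185.TypedTw Cfsg.Agent.H460.EllPan Cfsg.Agent.H460.Engine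
open Cfsg.Agent.H533.T5 Cfsg.Agent.H798.T5Pan

section Row

variable {Om Om' : Type*}

/-- two permutations of order `p` permuting the family are a weak pair -/
def W2 (p : ℕ) (fam : Om → Subgroup (Equiv.Perm Om)) : Prop :=
  ∀ f₁ ∈ famStab fam, ∀ f₂ ∈ famStab fam, f₁ ^ p = 1 → f₂ ^ p = 1 → f₁ ≠ 1 → f₂ ≠ 1 → WPair p (⨆ y, fam y) f₁ f₂

theorem W2.map {p : ℕ} (e : Om ≃ Om') {U : Om → Subgroup (Equiv.Perm Om)}
    {U' : Om' → Subgroup (Equiv.Perm Om')} (hU : ∀ y g, g ∈ U y ↔ e.permCongr g ∈ U' (e y)) (h : W2 p U) :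
    W2 p U' := by
  set F : Equiv.Perm Om ≃* Equiv.Perm Om' := e.permCongrHom with hF
  have hfa : ∀ g, F g = e.permCongr g := fun g => rfl
  have hcy : ∀ (c : Equiv.Perm Om) y, (F c) (e y) = e (c y) := fun c y => by
    show e (c (e.symm (e y))) = e (c y)
    rw [e.symm_apply_apply]
  have hst : ∀ f, F f ∈ famStab U' → f ∈ famStab U := by
    intro f hf y g
    have := hf (e y) (F g)
    rwa [hcy, ← map_mul, ← map_inv, ← map_mul, hfa, hfa, ← hU, ← hU] at this
  have hsup : (⨆ y, U y).map F.toMonoidHom ≤ ⨆ y, U' y := by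
    rw [Subgroup.map_le_iff_le_comap]
    refine iSup_le fun y g hg => ?_
    rw [Subgroup.mem_comap]
    exact Subgroup.mem_iSup_of_mem (e y) ((hU y g).1 hg)
  intro f₁' h1 f₂' h2 o1 o2 n1 n2
  obtain ⟨f₁, rfl⟩ := F.surjective f₁'
  obtain ⟨f₂, rfl⟩ := F.surjective f₂'
  have hone : ∀ f : Equiv.Perm Om, F f = 1 ↔ f = 1 := fun f => by
    rw [← map_one F, F.injective.eq_iff]
  have := h f₁ (hst _ h1) f₂ (hst _ h2) (by rwa [← map_pow, hone] at o1) (by rwa [← map_pow, hone] at o2)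
    (fun h3 => n1 ((hone _).2 h3)) (fun h3 => n2 ((hone _).2 h3))
  exact (this.of_injective F.toMonoidHom F.injective).mono hsup

end Row

variable {K : Type*} [Group K] [Finite K] {ℓ : ℕ} [Fact ℓ.Prime] {l : ℕ} {M : CoxeterMatrix (Fin l)} {Q : Fin l → ℕ}

/-- the panels over fields, in the defining characteristic -/
theorem w2_pan (E : Eng ℓ K M Q) (h2 : ℓ ≠ 2) {i : Fin l} (h : FNode E.P E.U (E.e i : K) (Q i)) (x : K ⧸ E.P.B) :
    W2 ℓ (E.sys.fam i x) := by
  induction x using QuotientGroup.induction_on with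
  | _ g =>
  obtain ⟨V, Nd, F, _, _, hQ, ⟨N⟩⟩ := h
  have hch : CharP F ℓ := by
    -- `F` embeds in a group of exponent a power of `ℓ`
    obtain ⟨r, hr⟩ := CharP.exists F
    have hrp : r.Prime := CharP.char_is_prime F r
    have h1 : ∀ (n : ℕ) (a : F), N.x (n • a) = (N.x a) ^ n := by
      intro n a
      induction n with
      | zero => rw [zero_smul, pow_zero]; exact N.x_zero
      | succ n ih => rw [succ_nsmul, N.add, ih, pow_succ]
    obtain ⟨n, hn⟩ := E.S.isP ⟨N.x 1, N.mem 1⟩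
    have h2 : (N.x 1) ^ ℓ ^ n = 1 := by simpa using congrArg Subtype.val hn
    rw [← h1] at h2
    have h3 : ((ℓ ^ n : ℕ) : F) = 0 := by
      rw [← nsmul_one]
      exact N.ne _ (by rw [h2]; exact one_mem _)
    rw [CharP.cast_eq_zero_iff F r] at h3
    have h4 := (Nat.prime_dvd_prime_iff_eq hrp Fact.out).1 (hrp.dvd_of_dvd_pow h3)
    rwa [← h4]
  exact W2.map _ (H14.CycNode.iso_mk E.S E.e E.cs E.hcs i Nd N g fun y f => Iff.rfl)
    (fun f₁ h1 f₂ h3 => Line.wpair_line h2 h1 h3)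

variable {E : Eng ℓ K M Q}

/-- **Two automorphisms acting non-trivially on a panel of a common fixed chamber.** -/
theorem wpair_pan {x y : MulAut K} {θ η : Equiv.Perm (K ⧸ E.P.B)} (hx : Act E x θ) (hy : Act E y η)
    (ox : x ^ ℓ = 1) (oy : y ^ ℓ = 1) {c : K ⧸ E.P.B} (hxc : θ c = c) (hyc : η c = c) {i : Fin l}
    (hnx : ∃ z ∈ E.Δ.Pan i c, θ z ≠ z) (hny : ∃ z ∈ E.Δ.Pan i c, η z ≠ z) (hP : W2 ℓ (E.sys.fam i c)) :
    WPair ℓ (MulAut.conj : K →* MulAut K).range x y := by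
  let f₁ : Equiv.Perm (E.Δ.Pan i c) := θ.subtypePerm fun z => (hx.mem_pan hxc i z).symm
  let f₂ : Equiv.Perm (E.Δ.Pan i c) := η.subtypePerm fun z => (hy.mem_pan hyc i z).symm
  have hf₁ : ∀ z, (f₁ z : K ⧸ E.P.B) = θ z := fun z => rfl
  have hf₂ : ∀ z, (f₂ z : K ⧸ E.P.B) = η z := fun z => rfl
  have o1 : f₁ ^ ℓ = 1 := by
    ext z
    rw [restr_pow hf₁, hx.pow_eq_one ox]
    rfl
  have o2 : f₂ ^ ℓ = 1 := by
    ext z
    rw [restr_pow hf₂, hy.pow_eq_one oy]
    rfl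
  have n1 : f₁ ≠ 1 := by
    obtain ⟨z, hz, h⟩ := hnx
    intro h1
    apply h
    have := hf₁ ⟨z, hz⟩
    rw [h1] at this
    exact this.symm
  have n2 : f₂ ≠ 1 := by
    obtain ⟨z, hz, h⟩ := hny
    intro h1
    apply h
    have := hf₂ ⟨z, hz⟩
    rw [h1] at this
    exact this.symm
  obtain ⟨m, hm, h⟩ := hP f₁ (hx.famStab hf₁) f₂ (hy.famStab hf₂) o1 o2 n1 n2
  obtain ⟨k, hk⟩ := (iSup_le fun z => fam_le_ActG E.sys z) hm
  have hki : ∀ z, ((m⁻¹) z : K ⧸ E.P.B) = k⁻¹ • (z : K ⧸ E.P.B) := by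
    intro z
    rw [eq_inv_smul_iff, ← hk]
    congr 1
    exact m.apply_symm_apply z
  refine ⟨MulAut.conj k, ⟨k, rfl⟩, fun hPG => h ?_⟩
  -- every element of the closure is the restriction of an element of the closure
  have key : ∀ g ∈ Subgroup.closure ({f₁, m * f₂ * m⁻¹} : Set (Equiv.Perm (E.Δ.Pan i c))),
      ∃ z ∈ Subgroup.closure ({x, MulAut.conj k * y * (MulAut.conj k)⁻¹} : Set (MulAut K)),
        ∃ ζ : Equiv.Perm (K ⧸ E.P.B), Act E z ζ ∧ ∀ w, (g w : K ⧸ E.P.B) = ζ w := by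
    intro g hg
    induction hg using Subgroup.closure_induction with
    | mem g hg =>
      rcases hg with rfl | hg
      · exact ⟨x, Subgroup.subset_closure (by simp), θ, hx, hf₁⟩
      · rw [Set.mem_singleton_iff] at hg
        subst hg
        refine ⟨_, Subgroup.subset_closure (Set.mem_insert_of_mem _ rfl), _,
          ((Act.inner k).mul hy).mul (Act.inner k).inv, fun w => ?_⟩
        rw [Equiv.Perm.mul_apply, Equiv.Perm.mul_apply, hk, hf₂, hki]
        rfl
    | one => exact ⟨1, one_mem _, 1, Act.one, fun _ => rfl⟩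
    | mul a b _ _ ha hb =>
      obtain ⟨z, hz, ζ, h1, h2⟩ := ha
      obtain ⟨z', hz', ζ', h1', h2'⟩ := hb
      refine ⟨z * z', mul_mem hz hz', ζ * ζ', h1.mul h1', fun w => ?_⟩
      rw [Equiv.Perm.mul_apply, h2, h2']
      rfl
    | inv a _ ha =>
      obtain ⟨z, hz, ζ, h1, h2⟩ := ha
      refine ⟨z⁻¹, inv_mem hz, ζ⁻¹, h1.inv, fun w => ?_⟩
      rw [Equiv.Perm.eq_inv_iff_eq, ← h2]
      congr 1
      exact a.apply_symm_apply w
  rintro ⟨g, hg⟩
  obtain ⟨z, hz, ζ, h1, h2⟩ := key g hg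
  obtain ⟨n, hn⟩ := hPG ⟨z, hz⟩
  have hn' : z ^ ℓ ^ n = 1 := congrArg Subtype.val hn
  refine ⟨n, Subtype.ext ?_⟩
  show g ^ ℓ ^ n = 1
  ext w
  rw [restr_pow h2, h1.pow_eq_one hn']
  rfl

/-- **A common type.** -/
theorem wpair_of_TP (h2 : ℓ ≠ 2) {i : Fin l} (hF : FNode E.P E.U (E.e i : K) (Q i)) {x y : MulAut K} (hx : TP E x i)
    (hy : TP E y i) (ox : x ^ ℓ = 1) (oy : y ^ ℓ = 1) : WPair ℓ (MulAut.conj : K →* MulAut K).range x y := by
  obtain ⟨θ, hθ, c, hc, z, hz, hz'⟩ := hx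
  obtain ⟨η, hη, d, hd, w, hw, hw'⟩ := hy
  obtain ⟨g, rfl⟩ : ∃ g : K, g • d = c := by
    obtain ⟨a, rfl⟩ := QuotientGroup.mk_surjective c
    obtain ⟨b, rfl⟩ := QuotientGroup.mk_surjective d
    exact ⟨a * b⁻¹, by rw [smul_mk, inv_mul_cancel_right]⟩
  refine WPair.conj_right (s := MulAut.conj g) ⟨g, rfl⟩ ?_
  have h1 : Act E (MulAut.conj g * y * (MulAut.conj g)⁻¹) (MulAction.toPerm g * η * (MulAction.toPerm g)⁻¹) :=
    ((Act.inner g).mul hη).mul (Act.inner g).inv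
  have h3 : ∀ a, (MulAction.toPerm g * η * (MulAction.toPerm g)⁻¹ : Equiv.Perm (K ⧸ E.P.B)) (g • a) = g • η a := by
    intro a
    rw [Equiv.Perm.mul_apply, Equiv.Perm.mul_apply]
    have : (MulAction.toPerm g)⁻¹ (g • a) = a := (MulAction.toPerm g).symm_apply_apply a
    rw [this]
    rfl
  refine wpair_pan hθ h1 ox ?_ hc (by rw [h3, hd]) ⟨z, hz, hz'⟩ ⟨g • w, ?_, ?_⟩ (w2_pan E h2 hF _)
  · rw [conj_pow, oy, mul_one, mul_inv_cancel]
  · have h3 := (Act.inner (E := E) g).iso d w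
    rw [E.Δ.Pan_eq_Res, mem_Res] at hw ⊢
    rw [← h3] at hw
    exact hw
  · rw [h3]
    intro h4
    exact hw' (MulAction.injective g h4)

end Cfsg.Agent.H491.Wf.Pan
end

-- part: H491/Wf/Asm
section
/-!
# The weak row in odd defining characteristic (S3826): assembly

* `wrow_of` : `WRow` from common types for pairs of inner elements, and outer elements of all types;
* `wrow_E6`, `wrow_E7`, `wrow_E8`, `wrow_F4`, `wrow_2E6` : the rows, all odd `p`;
* `wf_*` : the rows of S3826 in characteristic three.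
-/

set_option autoImplicit false
set_option linter.unusedSectionVars false
set_option maxHeartbeats 400000

namespace Cfsg.Agent.H491.Wf.Asm

open Cfsg CoxeterSystem Cfsg.Agent.ChevalleyStructure.CoxeterGeom Cfsg.Agent.Tits.Roots Cfsg.Agent.Tits.Core
  Cfsg.Agent.Tits.Core.Bldg
  Cfsg.Agent.Tits.OfBN Cfsg.Agent.Schreier.BNSch Cfsg.Agent.Tits.OppRes Cfsg.Agent.FixBN.OfBN
  Cfsg.Agent.Tits.RootComb Cfsg.Agent.Nodes.Comb Cfsg.Agent.Nodes.Reps Cfsg.Agent.Nodes.BNOf
  Cfsg.Agent.Nodes.StabComb Cfsg.Agent.Nodes.Bruhat Cfsg.Agent.Nodes.OppDec Cfsg.Agent.Nodes.LeviDec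
  Cfsg.Agent.LieExceptional.BNPairCore
open Cfsg.Agent.H460.Typed Cfsg.Agent.H460.EllC Cfsg.Agent.H460.PanL
  Cfsg.Agent.H185.TypedTw Cfsg.Agent.H460.EllPan Cfsg.Agent.H460.Engine
open Cfsg.Agent.H533.T5
open Cfsg.Agent.H798.T5Geo Cfsg.Agent.H798.T5Pan Cfsg.Agent.H798.T5Tp Cfsg.Agent.H798.T5Asm
open Cfsg.Agent.H491.Wf.Pan

section Asm

variable {K : Type*} [Group K] [Finite K] {ℓ : ℕ} [Fact ℓ.Prime] {l : ℕ} {M : CoxeterMatrix (Fin l)} {Q : Fin l → ℕ}
  {A : Fin l → Fin l → ℤ} {h : IsCartan M A} {T : Subgroup K} {n : Fin l → K}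
  {X : (Fin l → ℤ) → Subgroup K} [Finite M.Group]

variable (R : RGD M.toCoxeterSystem h ℓ T n X) {E : Eng ℓ K M Q} (hB : E.P.B = RGD.B M.toCoxeterSystem h T X)
  (he : ∀ i, (E.e i : K) = n i)

include R hB he

/-- **The weak row.** -/
theorem wrow_of [IsSimpleGroup K] [Nonempty (Fin l)] (hcc : ∃ a b : K, a * b ≠ b * a)
    (hG : GG M.toCoxeterSystem h T X = ⊤) (h2 : ℓ ≠ 2)
    (hF : ∀ i, FNode E.P E.U (E.e i : K) (Q i))
    (hin : ∀ x y : K, x ^ ℓ = 1 → y ^ ℓ = 1 → x ≠ 1 → y ≠ 1 →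
      (∃ i, NT M.toCoxeterSystem h X x i ∧ NT M.toCoxeterSystem h X y i) ∨
        WPair ℓ (⊤ : Subgroup K) x y)
    (hout : ∀ c : MulAut K, orderOf c = ℓ → (∃ g : K, c = MulAut.conj g) ∨ ∀ i, TP E c i) : WRow ℓ K := by
  obtain ⟨i0⟩ := (inferInstance : Nonempty (Fin l))
  have pw : ∀ {c : MulAut K}, orderOf c = ℓ → c ^ ℓ = 1 := fun {c} hc => by rw [← hc, pow_orderOf_eq_one]
  have hNT : ∀ x : K, x ^ ℓ = 1 → x ≠ 1 → ∃ i, NT M.toCoxeterSystem h X x i := by
    intro x hx hx1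
    refine exists_NT R hG ?_ hx1
    rw [IsPGroup.iff_card]
    refine ⟨1, ?_⟩
    rw [Nat.card_zpowers, pow_one, orderOf_eq_prime hx hx1]
  have hinj : Function.Injective (MulAut.conj : K →* MulAut K) := by
    rw [injective_iff_map_eq_one]
    intro x hx
    by_contra hx1
    rcases (inferInstance : (MulAut.conj : K →* MulAut K).ker.Normal).eq_bot_or_eq_top with h3 | h3
    · apply hx1
      rw [← Subgroup.mem_bot, ← h3]
      exact hx
    · obtain ⟨a, b, hab⟩ := hcc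
      apply hab
      have h4 : a ∈ (MulAut.conj : K →* MulAut K).ker := h3 ▸ Subgroup.mem_top a
      have h5 : a * b * a⁻¹ = b := by
        have := congrArg (fun f : MulAut K => f b) (MonoidHom.mem_ker.1 h4)
        simpa using this
      calc a * b = a * b * a⁻¹ * a := by group
        _ = b * a := by rw [h5]
  intro c d hc hd
  rcases hout c hc with hc1 | hc1
  · obtain ⟨x, rfl, hx, hx1⟩ := exists_of_inner hcc hc1 hc
    rcases hout d hd with hd1 | hd1
    · obtain ⟨y, rfl, hy, hy1⟩ := exists_of_inner hcc hd1 hd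
      rcases hin x y hx hy hx1 hy1 with ⟨i, h1, h3⟩ | h1
      · exact wpair_of_TP h2 (hF i) (tp_of_NT R hB he h1) (tp_of_NT R hB he h3) (pw hc) (pw hd)
      · obtain ⟨g, -, h2⟩ := h1
        refine ⟨MulAut.conj g, ⟨g, rfl⟩, fun h3 => h2 ?_⟩
        have h4 := closure_pair_map (MulAut.conj : K →* MulAut K) x (g * y * g⁻¹)
        rw [map_mul, map_mul, map_inv] at h4
        rw [← h4] at h3
        exact (h3.comap_of_injective (MulAut.conj : K →* MulAut K) hinj).to_le (Subgroup.le_comap_map _ _)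
    · obtain ⟨i, hi⟩ := hNT x hx hx1
      exact wpair_of_TP h2 (hF i) (tp_of_NT R hB he hi) (hd1 i) (pw hc) (pw hd)
  · rcases hout d hd with hd1 | hd1
    · obtain ⟨y, rfl, hy, hy1⟩ := exists_of_inner hcc hd1 hd
      obtain ⟨i, hi⟩ := hNT y hy hy1
      exact wpair_of_TP h2 (hF i) (hc1 i) (tp_of_NT R hB he hi) (pw hc) (pw hd)
    · exact wpair_of_TP h2 (hF i0) (hc1 i0) (hd1 i0) (pw hc) (pw hd)

end Asm

section Chev

open Cfsg.Lie Cfsg.Agent.ChevalleyStructure Cfsg.Agent.ChevalleyStructure.Elts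
  Cfsg.Agent.ChevalleyStructure.NPerm Cfsg.Agent.ChevalleyStructure.CoxeterGeomTypes Cfsg.Agent.Nodes.RGDChev
open Cfsg.Agent.KFacts.RgdAut Cfsg.Agent.KFacts.RgdDiag Cfsg.Agent.KFacts.RgdRigid
  Cfsg.Agent.KFacts.RgdField Cfsg.Agent.KFacts.RgdTau Cfsg.Agent.KFacts.RgdChevCoord
open Cfsg.Agent.KFacts.RgdFilt Cfsg.Agent.KFacts.RgdBorelTits
open Cfsg.Agent.FixBN.ChevGood (isSolvable_T)
open Cfsg.Agent.H798.T5Untw (fnode_chev lab_E6 lab_E7 lab_E8 card_chev intComm_chev comm_of_not)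

variable {D : ChevalleyDatum} {l : ℕ} {M : CoxeterMatrix (Fin l)}

/-- **The weak row**, one type contained in all `T(x)`. -/
theorem wrow_chev (hp : IsType D l M) (K : Type) [Field K] [Finite K] (p : ℕ) [Fact p.Prime] [CharP K p]
    [IsSimpleGroup ↥(D.group K)] (hc : ∃ a b : ↥(D.group K), a * b ≠ b * a) (h2 : p ≠ 2) (hl : 1 ≤ l)
    (hσ : ∀ σ : Equiv.Perm (Fin l), (∀ i j, M (σ i) (σ j) = M i j) → σ ^ p = 1 → σ = 1)
    (hT : ∃ i0, ∀ (x : ↥(D.group K)) (i : Fin l), NT M.toCoxeterSystem hp.isCartan (XX D l K) x i →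
      NT M.toCoxeterSystem hp.isCartan (XX D l K) x i0) : WRow p ↥(D.group K) := by
  have hpp : p.Prime := Fact.out
  have hW : Finite M.Group := finite_W hp (M.toCoxeterSystem)
  have R := rgd (K := K) hp M.toCoxeterSystem p
  have hG1 : RGD.Sup (XX D l K) {x | IsRoot M.toCoxeterSystem hp.isCartan x} = ⊤ := G1_eq_top hp M.toCoxeterSystem
  have hne : Nonempty (Fin l) := ⟨⟨0, hl⟩⟩
  have hconn := KFacts.RgdLieCharP.conn_of_simple R hG1 (KFacts.RgdLieCharP.center_eq_bot hc)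
  have C := coords (K := K) hp M.toCoxeterSystem p
  have H := coroots (K := K) hp M.toCoxeterSystem p
  obtain ⟨E, hB, he, hF⟩ := exists_eng_of (Q := fun _ => Nat.card K) R (gen hp M.toCoxeterSystem p) (isSolvable_T K hp)
    (fun i => fnode_chev hp K p i) hl
  obtain ⟨i0, hi0⟩ := hT
  have hG := KFacts.RgdFilt.GG_eq_top (T := TT D K) hG1
  refine wrow_of R hB he hc hG h2 hF ?_ ?_
  · intro x y hx hy hx1 hy1
    left
    have hNT : ∀ x : ↥(D.group K), x ^ p = 1 → x ≠ 1 → NT M.toCoxeterSystem hp.isCartan (XX D l K) x i0 := by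
      intro x hx hx1
      obtain ⟨i, hi⟩ := exists_NT R hG (c := x) (by
        rw [IsPGroup.iff_card]
        refine ⟨1, ?_⟩
        rw [Nat.card_zpowers, pow_one, orderOf_eq_prime hx hx1]) hx1
      exact hi0 x i hi
    exact ⟨i0, hNT x hx hx1, hNT y hy hy1⟩
  · intro c hc'
    have hcp : c ^ p = 1 := by rw [← hc', pow_orderOf_eq_one]
    rcases CpAut.RgdConj.inner_or_conj R hG1 C H hconn hσ hcp with h1 | ⟨τ, hτ, hτ1, h1⟩
    · exact Or.inl h1
    · right
      have hstd : ∀ r, IsRoot M.toCoxeterSystem hp.isCartan r → ∀ a,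
          CpAut.RgdUntw.fld D τ (xc hp r a) = xc hp r (τ a) := by
        intro r hr a
        obtain ⟨s, hs, rfl⟩ := (isRoot_iff hp M.toCoxeterSystem r).1 hr
        exact CpAut.RgdUntw.fld_xc hp τ hs a
      have S := CpAut.RgdConj.tau_of_std R hG1 C H hconn hstd
      have hφ : CpAut.RgdUntw.fld D τ ^ p = 1 := by rw [← CpAut.RgdUntw.fld_pow, hτ, CpAut.RgdUntw.fld_one]
      obtain ⟨e, he'⟩ := h1 _ hφ S
      rw [he']
      refine TP.conj_all ?_ e
      exact tp_of_ntau R hB he (F := fun _ => K) (χ := fun i => ch hp (sr i))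
        (fun i => C.coord _ (isRoot_sr M.toCoxeterSystem hp.isCartan i)) hσ hφ (τ := fun _ => τ)
        ⟨S.diag, S.char⟩ (fun _ => hτ1)

/-- simply laced types -/
theorem wrow_simply (hp : IsType D l M) (K : Type) [Field K] [Finite K] (p : ℕ) [Fact p.Prime] [CharP K p]
    [IsSimpleGroup ↥(D.group K)] (hc : ∃ a b : ↥(D.group K), a * b ≠ b * a) (h2 : p ≠ 2) (hl : 1 ≤ l)
    (hσ : ∀ σ : Equiv.Perm (Fin l), (∀ i j, M (σ i) (σ j) = M i j) → σ ^ p = 1 → σ = 1)
    (hM : ∀ i j, i ≠ j → M i j = 2 ∨ M i j = 3) : WRow p ↥(D.group K) := by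
  have hW : Finite M.Group := finite_W hp (M.toCoxeterSystem)
  have R := rgd (K := K) hp M.toCoxeterSystem p
  have hG1 : RGD.Sup (XX D l K) {x | IsRoot M.toCoxeterSystem hp.isCartan x} = ⊤ := G1_eq_top hp M.toCoxeterSystem
  have hconn := KFacts.RgdLieCharP.conn_of_simple R hG1 (KFacts.RgdLieCharP.center_eq_bot hc)
  exact wrow_chev hp K p hc h2 hl hσ ⟨⟨0, hl⟩, fun x i hx => nt_all_of_conn R hconn hM hx _⟩

variable (p : ℕ) [Fact p.Prime] (h2 : p ≠ 2) (K : Type) [Field K] [Fintype K] [CharP K p]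

include h2

theorem wrow_E6 : WRow p ↥(chevE6.group K) := by
  obtain ⟨hs, hna⟩ := Cfsg.Agent.S1054.result (F := K) chevE6 (by simp)
  exact wrow_simply (D := chevE6) (l := 6) (M := CoxeterMatrix.E₆) (by simp [IsType, typeList]) K p (comm_of_not hna)
    h2 (by norm_num) (CpAut.RgdUntw.symTwo_E6.eq_one Fact.out h2) lab_E6

theorem wrow_E7 : WRow p ↥(chevE7.group K) := by
  obtain ⟨hs, hna⟩ := Cfsg.Agent.S1054.result (F := K) chevE7 (by simp)
  exact wrow_simply (D := chevE7) (l := 7) (M := CoxeterMatrix.E₇) (by simp [IsType, typeList]) K p (comm_of_not hna)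
    h2 (by norm_num) (CpAut.RgdUntw.symTwo_E7.eq_one Fact.out h2) lab_E7

theorem wrow_E8 : WRow p ↥(chevE8.group K) := by
  obtain ⟨hs, hna⟩ := Cfsg.Agent.S1054.result (F := K) chevE8 (by simp)
  exact wrow_simply (D := chevE8) (l := 8) (M := CoxeterMatrix.E₈) (by simp [IsType, typeList]) K p (comm_of_not hna)
    h2 (by norm_num) (CpAut.RgdUntw.symTwo_E8.eq_one Fact.out h2) lab_E8

theorem wrow_F4 : WRow p ↥(chevF4.group K) := by
  obtain ⟨hs, hna⟩ := Cfsg.Agent.S1054.result (F := K) chevF4 (by simp)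
  have hp : IsType chevF4 4 CoxeterMatrix.F₄ := by simp [IsType, typeList]
  have hW : Finite (CoxeterMatrix.F₄).Group := finite_W hp (CoxeterMatrix.F₄).toCoxeterSystem
  have R := rgd (K := K) hp (CoxeterMatrix.F₄).toCoxeterSystem p
  refine wrow_chev hp K p (comm_of_not hna) h2 (by norm_num)
    (CpAut.RgdUntw.symTwo_F4.eq_one Fact.out h2) ⟨2, fun x i hx => ?_⟩
  have h12 : NT (CoxeterMatrix.F₄).toCoxeterSystem hp.isCartan (XX chevF4 4 K) x 1 →
      NT (CoxeterMatrix.F₄).toCoxeterSystem hp.isCartan (XX chevF4 4 K) x 2 :=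
    Cfsg.Agent.H798.T5Long.nt_long_four (i := 2) (j := 1) h2 R (intComm_chev hp K) (by decide) (by decide) (by decide)
      (by decide) (card_chev hp K p 2 1)
  have h01 : NT (CoxeterMatrix.F₄).toCoxeterSystem hp.isCartan (XX chevF4 4 K) x 0 →
      NT (CoxeterMatrix.F₄).toCoxeterSystem hp.isCartan (XX chevF4 4 K) x 1 :=
    Cfsg.Agent.H798.T5Root.NT.of_three R (by decide)
  have h32 : NT (CoxeterMatrix.F₄).toCoxeterSystem hp.isCartan (XX chevF4 4 K) x 3 →
      NT (CoxeterMatrix.F₄).toCoxeterSystem hp.isCartan (XX chevF4 4 K) x 2 :=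
    Cfsg.Agent.H798.T5Root.NT.of_three R (by decide)
  fin_cases i
  · exact h12 (h01 hx)
  · exact h12 hx
  · exact hx
  · exact h32 hx

end Chev

section E6

open Cfsg.Agent.KFacts.TwESix.NodeCoord Cfsg.Agent.KFacts.TwESix.Out Cfsg.Agent.KFacts.TwESix.OutTwo
open Cfsg.Agent.Nodes.RGDTwE6 Cfsg.Agent.Nodes.RGDTwNode.E6
open Cfsg.Agent.ChevalleyStructure (TwE6Basic.exists_frob)
open Cfsg.Lie Cfsg.Agent.H798.T5Tw
open Cfsg.Agent.H798.T5Untw (comm_of_not)

variable {K : Type} [Field K] [Fintype K] (p : ℕ) [Fact p.Prime] [CharP K p] {q : ℕ} {φ : K →+* K}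
  (hφ : ∀ x, φ x = x ^ q) (hqq : ∀ t : K, (t ^ q) ^ q = t)

include hφ hqq in
theorem wrow_E6_of (h2 : p ≠ 2) (hq : IsPrimePow q) (hK : Fintype.card K = q ^ 2) [IsSimpleGroup ↥(twistedE6 K q)]
    (hna : ¬ IsMulCommutative ↥(twistedE6 K q)) : WRow p ↥(twistedE6 K q) := by
  have hp : p.Prime := Fact.out
  have hW := finW_E6
  have R := Cfsg.Agent.Nodes.RGDTwE6.rgd CoxeterMatrix.F₄.toCoxeterSystem hφ hqq p
  have hG1 := G1_top CoxeterMatrix.F₄.toCoxeterSystem hφ hqq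
  obtain ⟨E, hB, he, hF⟩ := exists_eng_of (Q := fun i => Nat.card (KF φ i)) R (gen_E6 p hφ hqq)
    (Cfsg.Agent.FixBN.TwGood.isSolvable_T Nodes.RGDTwE6.hp) (fun i => fnode_E6 p hφ hqq i) (by norm_num)
  refine wrow_of R hB he (comm_of_not hna) (KFacts.RgdFilt.GG_eq_top (T := T K q) hG1) h2 hF ?_
    (fun c hc => hout_E6 p hφ hqq hB he h2 hq hK hc)
  intro x y hx hy hx1 hy1
  have pg : ∀ x : ↥(twistedE6 K q), x ^ p = 1 → x ≠ 1 → IsPGroup p (Subgroup.zpowers x) := by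
    intro x hx hx1
    rw [IsPGroup.iff_card]
    refine ⟨1, ?_⟩
    rw [Nat.card_zpowers, pow_one, orderOf_eq_prime hx hx1]
  have hBd := bd_E6 p hφ hqq h2
  rcases cases_E6 p hφ hqq hx hy hx1 hy1 with h1 | ⟨h1, h2, h3, h4⟩ | ⟨h1, h2, h3, h4⟩
  · exact Or.inl h1
  · exact Or.inr (hBd x y (pg y hy hy1) h1 h3 h4)
  · exact Or.inr (hBd y x (pg x hx hx1) h1 h3 h4).symm

end E6

/-- **`²E₆(q)`**, own odd characteristic. -/
theorem wrow_2E6 (p : ℕ) [Fact p.Prime] (h2 : p ≠ 2) (K : Type) [Field K] [Fintype K] [CharP K p] {q : ℕ}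
    (hq : IsPrimePow q) (hK : Fintype.card K = q ^ 2) : WRow p ↥(Cfsg.Lie.twistedE6 K q) := by
  obtain ⟨hs, hna⟩ := Cfsg.Agent.S1070.result hq hK
  obtain ⟨φ, hφ, hqq⟩ := Cfsg.Agent.ChevalleyStructure.TwE6Basic.exists_frob hq hK
  exact wrow_E6_of p hφ hqq h2 hq hK hna

end Cfsg.Agent.H491.Wf.Asm
end
end

-- part: H12/WfO/Row_mg
section
prune_inst 0x400101000002000000000000060001d02900000000048880000400b8006c0a88040000820002020020000010000000068100000000000000000000000000004010000100090480000420008000000400000000000000000000000000000000000200000000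
set_option linter.all false
open scoped Cfsg.Agent.FastGrp

-- part: H12/WfO/Res
section
/-!
# The residue of a singular point

`(x, y)` a hyperbolic pair, `U = ⟨x, y⟩^⊥`, `q = Q|U`: the stabiliser of the point `⟨x⟩` in the group of the
semisimilitudes acts on `x^⊥ / ⟨x⟩ = U`.
-/

set_option autoImplicit false
set_option linter.unusedSectionVars false

namespace Cfsg.Agent.H12.WfO

open QuadraticMap hiding proj
open Module Cfsg.Agent.LieClassical.OrthCore Cfsg.Agent.LieClassical.OrthTrans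
open Cfsg.Agent.ClassicalGeometry.OrthSemi Cfsg.Agent.ClassicalGeometry.OrthAut1
open Cfsg.Agent.H951 (Frm Nd Inv)
open Cfsg.Agent.H862.T5.OBase
open Cfsg.Agent.H208.Parity (ofO)

variable {F V : Type*} [Field F] [AddCommGroup V] [Module F V] {Q : QuadraticForm F V}

/-- the vectors orthogonal to `x` and `y` -/
def PP (Q : QuadraticForm F V) (x y : V) : Submodule F V :=
  LinearMap.ker (polarBilin Q x) ⊓ LinearMap.ker (polarBilin Q y)

theorem mem_PP {x y v : V} : v ∈ PP Q x y ↔ polar Q x v = 0 ∧ polar Q y v = 0 := by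
  simp only [PP, _root_.Submodule.mem_inf, _root_.LinearMap.mem_ker, _root_.QuadraticMap.polarBilin_apply_apply]

theorem finrank_PP [FiniteDimensional F V] (x y : V) : finrank F V ≤ finrank F (PP Q x y) + 2 := by
  have h1 := LinearMap.finrank_range_add_finrank_ker ((polarBilin Q x).prod (polarBilin Q y))
  rw [LinearMap.ker_prod] at h1
  have h2 : finrank F (LinearMap.range ((polarBilin Q x).prod (polarBilin Q y))) ≤ 2 := by
    refine (Submodule.finrank_le _).trans ?_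
    rw [Module.finrank_prod, Module.finrank_self]
  have h3 : finrank F (PP Q x y) = finrank F ↥(LinearMap.ker (polarBilin Q x) ⊓ LinearMap.ker (polarBilin Q y)) := rfl
  omega

theorem nd_PP (hQ : Nondeg Q) {x y : V} (h : Hyp Q x y) : Nd (BB Q) (PP Q x y) := by
  intro u hu h0
  rw [mem_PP] at hu
  obtain ⟨v, hv⟩ := hQ.exists_polar_ne h0
  refine ⟨proj Q x y v, mem_PP.2 ⟨polar_proj_left h v, polar_proj_right h v⟩, ?_⟩
  rw [BB_apply, polar_proj_of_perp hu.1 hu.2]
  exact hv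

/-- Nondegenerate forms of dimension at least five over finite fields are good. -/
theorem good_of_nondeg [Finite F] [FiniteDimensional F V] (hQ : Nondeg Q) (hd : 5 ≤ finrank F V) : Good Q := by
  refine ⟨hQ, hd, ?_, fun x y h => ?_⟩
  · obtain ⟨x, y, h⟩ := GenOrth.exists_hyp_of_nondeg hQ (by omega)
    exact ⟨x, h.left_ne, h.left⟩
  · obtain ⟨w, hw, z, -, hwz⟩ := exists_hyp_sub (nd_PP hQ h) (by have := finrank_PP (Q := Q) x y; omega)
    rw [mem_PP] at hw
    exact ⟨w, hwz.left_ne, hwz.left, hw.1, hw.2⟩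

theorem good_res [Finite F] [FiniteDimensional F V] (hQ : Nondeg Q) (hd : 7 ≤ finrank F V) {x y : V} (h : Hyp Q x y) :
    Good (qr Q (PP Q x y)) :=
  good_of_nondeg (nondeg_qr (nd_PP hQ h)) (by have := finrank_PP (Q := Q) x y; omega)

/-! ### the projection -/

/-- the projection to `⟨x, y⟩^⊥` -/
def pr {x y : V} (h : Hyp Q x y) : V →ₗ[F] PP Q x y where
  toFun v := ⟨proj Q x y v, mem_PP.2 ⟨polar_proj_left h v, polar_proj_right h v⟩⟩
  map_add' u v := by
    apply Subtype.ext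
    show proj Q x y (u + v) = proj Q x y u + proj Q x y v
    simp only [proj, polar_add_right]
    module
  map_smul' a v := by
    apply Subtype.ext
    show proj Q x y (a • v) = a • proj Q x y v
    simp only [proj, polar_smul_right, smul_eq_mul]
    module

theorem coe_pr {x y : V} (h : Hyp Q x y) (v : V) : (pr h v : V) = proj Q x y v := rfl

theorem pr_self {x y : V} (h : Hyp Q x y) : pr h x = 0 := by
  apply Subtype.ext
  rw [coe_pr, proj, h.polar_left, h.pair']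
  simp only [_root_.one_smul, _root_.sub_self, _root_.zero_smul, _root_.ZeroMemClass.coe_zero]

theorem pr_coe {x y : V} (h : Hyp Q x y) (u : PP Q x y) : pr h (u : V) = u := by
  apply Subtype.ext
  have hu := mem_PP.1 u.2
  rw [coe_pr, proj, hu.1, hu.2]
  simp

theorem eq_of_perp {x y : V} (h : Hyp Q x y) {v : V} (hv : polar Q x v = 0) : v = pr h v + polar Q y v • x := by
  rw [coe_pr, proj, hv]
  simp

theorem Q_pr {x y : V} (h : Hyp Q x y) {v : V} (hv : polar Q x v = 0) : Q (pr h v) = Q v := by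
  conv_rhs => rw [eq_of_perp h hv]
  rw [Q_smul_add, h.left, polar_comm Q (pr h v : V) x, (mem_PP.1 (pr h v).2).1]
  ring

/-! ### the stabiliser of a point -/

/-- the stabiliser of the point `⟨x⟩` -/
def St (Q : QuadraticForm F V) (x : V) (hx : x ≠ 0) : Subgroup (Gam Q) where
  carrier := {M | ∃ t : F, M.1 x = t • x}
  mul_mem' := by
    rintro M N ⟨s, hs⟩ ⟨t, ht⟩
    obtain ⟨σ, c, hM⟩ := M.2
    refine ⟨σ t * s, ?_⟩
    show M.1 (N.1 x) = _
    rw [ht, hM.smul, hs, smul_smul]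
  one_mem' := ⟨1, by rw [one_smul]; rfl⟩
  inv_mem' := by
    rintro M ⟨t, ht⟩
    obtain ⟨σ, c, hM⟩ := M.2
    have ht0 : t ≠ 0 := by
      rintro rfl
      rw [zero_smul] at ht
      exact hx (M.1.injective (ht.trans hM.map_zero.symm))
    have hσ : σ.symm t ≠ 0 := by simpa using ht0
    refine ⟨(σ.symm t)⁻¹, ?_⟩
    show M.1⁻¹ x = _
    have h1 : M.1⁻¹ (t • x) = x := by rw [← ht, inv_apply]
    rw [hM.inv.smul] at h1
    conv_rhs => rw [← h1]
    rw [smul_smul, inv_mul_cancel₀ hσ, one_smul]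

theorem St_ne {x : V} {hx : x ≠ 0} {M : Gam Q} {t : F} (h : M.1 x = t • x) : t ≠ 0 := by
  obtain ⟨σ, c, hM⟩ := M.2
  rintro rfl
  rw [zero_smul] at h
  exact hx (M.1.injective (h.trans hM.map_zero.symm))

theorem St_perp {x : V} {hx : x ≠ 0} {M : Gam Q} (hM : M ∈ St Q x hx) {v : V} (hv : polar Q x v = 0) :
    polar Q x (M.1 v) = 0 := by
  obtain ⟨t, ht⟩ := hM
  obtain ⟨σ, c, hM⟩ := id M.2
  have h1 := hM.polar x v
  rw [hv, map_zero, mul_zero, ht, polar_smul_left, smul_eq_mul] at h1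
  exact (mul_eq_zero.1 h1).resolve_left (St_ne (hx := hx) ht)

/-- the induced map -/
def rs {x y : V} (h : Hyp Q x y) (M : Gam Q) : PP Q x y → PP Q x y := fun u => pr h (M.1 u)

theorem rs_mul {x y : V} (h : Hyp Q x y) {M N : Gam Q} (hM : M ∈ St Q x h.left_ne) (hN : N ∈ St Q x h.left_ne)
    (u : PP Q x y) : rs h (M * N) u = rs h M (rs h N u) := by
  have hp : polar Q x (N.1 u) = 0 := St_perp hN (mem_PP.1 u.2).1
  have h1 : (M * N).1 u = M.1 (N.1 u) := rfl
  rw [rs, rs, rs, h1]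
  obtain ⟨t, ht⟩ := hM
  obtain ⟨σ, c, hM'⟩ := id M.2
  conv_lhs => rw [eq_of_perp h hp]
  rw [hM'.add, hM'.smul, ht, map_add, map_smul, map_smul, pr_self, smul_zero, smul_zero, add_zero]

theorem rs_one {x y : V} (h : Hyp Q x y) (u : PP Q x y) : rs h 1 u = u := pr_coe h u

/-- the induced permutation -/
def rsP {x y : V} (h : Hyp Q x y) (M : St Q x h.left_ne) : Equiv.Perm (PP Q x y) where
  toFun := rs h M.1
  invFun := rs h M⁻¹.1
  left_inv u := by
    rw [← rs_mul h M⁻¹.2 M.2, ← Subgroup.coe_mul, inv_mul_cancel]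
    exact rs_one h u
  right_inv u := by
    rw [← rs_mul h M.2 M⁻¹.2, ← Subgroup.coe_mul, mul_inv_cancel]
    exact rs_one h u

theorem rsP_apply {x y : V} (h : Hyp Q x y) (M : St Q x h.left_ne) (u : PP Q x y) : rsP h M u = pr h (M.1.1 u) := rfl

theorem isSS_rsP {x y : V} (h : Hyp Q x y) (M : St Q x h.left_ne) {σ : F ≃+* F} {c : F} (hM : IsSS Q σ c M.1.1) :
    IsSS (qr Q (PP Q x y)) σ c (rsP h M) := by
  refine ⟨hM.ne, fun u v => ?_, fun a v => ?_, fun v => ?_⟩
  · rw [rsP_apply, rsP_apply, rsP_apply, ← map_add, ← hM.add]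
    rfl
  · rw [rsP_apply, rsP_apply, ← map_smul, ← hM.smul]
    rfl
  · rw [qr_apply, qr_apply, rsP_apply, Q_pr h (St_perp M.2 (mem_PP.1 v.2).1), hM.form]

/-- **The action on the residue.** -/
def rsH {x y : V} (h : Hyp Q x y) : St Q x h.left_ne →* Gam (qr Q (PP Q x y)) where
  toFun M := ⟨rsP h M, by
    obtain ⟨σ, c, hM⟩ := id M.1.2
    exact ⟨σ, c, isSS_rsP h M hM⟩⟩
  map_one' := by
    apply Subtype.ext
    ext u
    exact congrArg Subtype.val (rs_one h u)
  map_mul' M N := by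
    apply Subtype.ext
    ext u
    exact congrArg Subtype.val (rs_mul h M.2 N.2 u)

theorem rsH_apply {x y : V} (h : Hyp Q x y) (M : St Q x h.left_ne) (u : PP Q x y) :
    (rsH h M).1 u = pr h (M.1.1 u) := rfl

/-- scalars -/
theorem rsH_scal {x y : V} (h : Hyp Q x y) {a : Fˣ} {M : St Q x h.left_ne} (hM : M.1 = scal Q a) :
    rsH h M = scal (qr Q (PP Q x y)) a := by
  apply Subtype.ext
  ext u
  rw [rsH_apply, hM]
  show (pr h ((a : F) • (u : V)) : V) = (a : F) • (u : V)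
  rw [map_smul, pr_coe]
  rfl

theorem ker_le {x y : V} (h : Hyp Q x y) (hG : Good Q) (hq : Good (qr Q (PP Q x y))) :
    ((Psi Q).comp (St Q x h.left_ne).subtype).ker ≤ ((Psi (qr Q (PP Q x y))).comp (rsH h)).ker := by
  intro M hM
  obtain ⟨a, ha⟩ := exists_scal hG (M := M.1) hM
  rw [MonoidHom.mem_ker, MonoidHom.comp_apply, rsH_scal h ha]
  exact H208.ConjSS.Psi_scal hq a

/-- elements of `E q` lift -/
theorem exists_lift {x y : V} (h : Hyp Q x y) {g : PP Q x y ≃ₗ[F] PP Q x y} (hg : g ∈ E (qr Q (PP Q x y))) :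
    ∃ T ∈ E Q, T x = x ∧ T y = y ∧ ∀ u : PP Q x y, T u = g u := by
  induction hg using Subgroup.closure_induction with
  | mem g hg =>
    obtain ⟨u, w, hu, hw, rfl⟩ := hg
    have hu' : Q (u : V) = 0 := hu
    have hw' : polar Q (u : V) (w : V) = 0 := by rw [← polar_qr]; exact hw
    have hup := mem_PP.1 u.2
    have hwp := mem_PP.1 w.2
    refine ⟨siegel Q u w hu' hw', siegel_mem_E _ _, ?_, ?_, fun v => ?_⟩
    · rw [siegel_apply, polar_comm Q (u : V) x, polar_comm Q (w : V) x, hup.1, hwp.1]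
      simp only [_root_.zero_smul, _root_.add_zero, _root_.sub_zero, _root_.MulZeroClass.mul_zero]
    · rw [siegel_apply, polar_comm Q (u : V) y, polar_comm Q (w : V) y, hup.2, hwp.2]
      simp only [_root_.zero_smul, _root_.add_zero, _root_.sub_zero, _root_.MulZeroClass.mul_zero]
    · rw [siegel_apply, siegel_apply, polar_qr, polar_qr, qr_apply]
      rfl
  | one => exact ⟨1, (E Q).one_mem, rfl, rfl, fun _ => rfl⟩
  | mul a b _ _ ha hb =>
    obtain ⟨A, hA, hAx, hAy, hAu⟩ := ha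
    obtain ⟨B, hB, hBx, hBy, hBu⟩ := hb
    refine ⟨A * B, (E Q).mul_mem hA hB, ?_, ?_, fun u => ?_⟩
    · rw [LinearEquiv.mul_apply, hBx, hAx]
    · rw [LinearEquiv.mul_apply, hBy, hAy]
    · rw [LinearEquiv.mul_apply, hBu, hAu]
      rfl
  | inv a _ ha =>
    obtain ⟨A, hA, hAx, hAy, hAu⟩ := ha
    refine ⟨A⁻¹, (E Q).inv_mem hA, ?_, ?_, fun u => ?_⟩
    · apply A.injective
      rw [hAx]
      exact A.apply_symm_apply x
    · apply A.injective
      rw [hAy]
      exact A.apply_symm_apply y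
    · apply A.injective
      rw [hAu]
      have h1 : A (A⁻¹ (u : V)) = u := A.apply_symm_apply _
      have h2 : a (a⁻¹ u) = u := a.apply_symm_apply _
      rw [h1, h2]

end Cfsg.Agent.H12.WfO
end

-- part: H12/WfO/Pt
section
/-!
# Good singular points of semisimilitudes of order three in characteristic three
-/

set_option autoImplicit false
set_option linter.unusedSectionVars false

namespace Cfsg.Agent.H12.WfO

open QuadraticMap hiding proj
open Module Cfsg.Agent.LieClassical.OrthCore Cfsg.Agent.LieClassical.OrthTrans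
open Cfsg.Agent.ClassicalGeometry.OrthSemi Cfsg.Agent.ClassicalGeometry.OrthAut1
open Cfsg.Agent.H951 (Frm Nd Inv)
open Cfsg.Agent.H862.T5.OBase
open Cfsg.Agent.H208.Parity (ofO)

variable {F V : Type*} [Field F] [AddCommGroup V] [Module F V] {Q : QuadraticForm F V}

/-- singular vectors in subspaces of dimension at least three -/
theorem exists_sing [Finite F] [FiniteDimensional F V] (h2 : (2 : F) ≠ 0) {W : Submodule F V} (hd : 3 ≤ finrank F W) :
    ∃ w ∈ W, w ≠ 0 ∧ Q w = 0 := by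
  by_cases hW : Nd (BB Q) W
  · obtain ⟨x, hx, y, hy, h⟩ := exists_hyp_sub hW hd
    exact ⟨x, hx, h.left_ne, h.left⟩
  · unfold Nd at hW
    push Not at hW
    obtain ⟨u, hu, hu0, hall⟩ := hW
    refine ⟨u, hu, hu0, ?_⟩
    have h3 := hall u hu
    rw [BB_apply, polar_self'] at h3
    exact (mul_eq_zero.1 h3).resolve_left h2

/-- the kernel of a map with `N ^ 3 = 0` -/
theorem finrank_le_three_mul [FiniteDimensional F V] {N : V →ₗ[F] V} (hN : ∀ v, N (N (N v)) = 0) :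
    finrank F V ≤ 3 * finrank F (LinearMap.ker N) := by
  have h1 := LinearMap.finrank_range_add_finrank_ker N
  have h2 := LinearMap.finrank_range_add_finrank_ker (N.domRestrict (LinearMap.range N))
  have h3 : finrank F (LinearMap.range (N.domRestrict (LinearMap.range N))) ≤ finrank F (LinearMap.ker N) := by
    apply Submodule.finrank_mono
    rintro _ ⟨⟨_, v, rfl⟩, rfl⟩
    exact hN v
  have h4 : finrank F (LinearMap.ker (N.domRestrict (LinearMap.range N))) ≤ finrank F (LinearMap.ker N) := by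
    have h5 : finrank F ((LinearMap.ker (N.domRestrict (LinearMap.range N))).map (LinearMap.range N).subtype) =
        finrank F (LinearMap.ker (N.domRestrict (LinearMap.range N))) :=
      LinearEquiv.finrank_eq (Submodule.equivMapOfInjective _ (Submodule.subtype_injective _) _).symm
    rw [← h5]
    apply Submodule.finrank_mono
    rintro _ ⟨v, hv, rfl⟩
    exact hv
  omega

/-- an isometry which fixes the vectors orthogonal to a singular vector is trivial -/
theorem eq_one_of_fix (hQ : Nondeg Q) {x : V} (hx : x ≠ 0) (hx0 : Q x = 0) {g : V ≃ₗ[F] V} (hg : g ∈ O Q)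
    (hf : ∀ v, polar Q x v = 0 → g v = v) : g = 1 := by
  obtain ⟨y, hy⟩ := LieClassical.OrthTrans.exists_hyp hQ hx0 hx
  have hdec : ∀ v, v = (v - polar Q x v • y) + polar Q x v • y := fun v => by module
  have hper : ∀ v, polar Q x (v - polar Q x v • y) = 0 := fun v => by
    rw [polar_sub_right, polar_smul_right, hy.pair]; simp
  have hgx : g x = x := hf x hy.polar_left
  have hgy : g y = y := by
    set w := g y - y with hw
    have h1 : ∀ v, polar Q x v = 0 → polar Q w v = 0 := by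
      intro v hv
      rw [hw, polar_sub_left]
      conv_lhs => rw [← hf v hv]
      rw [polar_map hg, hf v hv, sub_self]
    have h2 : w - polar Q y w • x = 0 := by
      apply hQ
      intro v
      have h3 : polar Q (w - polar Q y w • x) y = 0 := by
        rw [polar_sub_left, polar_smul_left, hy.pair, polar_comm Q w y]; simp
      have h4 : polar Q (w - polar Q y w • x) (v - polar Q x v • y) = 0 := by
        rw [polar_sub_left, polar_smul_left, h1 _ (hper v), hper v]; simp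
      rw [hdec v, polar_add_right, polar_smul_right, h3, h4]
      simp
    have h3 : g y = y + polar Q y w • x := by
      rw [sub_eq_zero] at h2
      rw [← h2, hw]
      abel
    have h4 : Q (g y) = Q y := hg y
    rw [h3, Q_smul_add, hy.right, hy.left, hy.pair'] at h4
    have h5 : polar Q y w = 0 := by linear_combination h4
    rw [h3, h5, zero_smul, add_zero]
  ext v
  rw [hdec v, map_add, map_smul, hgy, hf _ (hper v)]
  rfl

/-- **Linear case.** -/
theorem exists_point_lin [Finite F] [FiniteDimensional F V] (h3F : (3 : F) = 0) (hQ : Nondeg Q)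
    (hd : 7 ≤ finrank F V) {g : V ≃ₗ[F] V} (hg : g ∈ O Q) (hg3 : g ^ 3 = 1) (hg1 : g ≠ 1) :
    ∃ x, x ≠ 0 ∧ Q x = 0 ∧ g x = x ∧ ∃ v, polar Q x v = 0 ∧ ∀ t : F, g v ≠ v + t • x := by
  have h2 : (2 : F) ≠ 0 := by
    intro h
    apply one_ne_zero (α := F)
    linear_combination h3F - h
  by_contra hcon
  push Not at hcon
  set N : V →ₗ[F] V := g.toLinearMap - LinearMap.id with hN
  have hNa : ∀ v, N v = g v - v := fun v => rfl
  have hN3 : ∀ v, N (N (N v)) = 0 := by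
    intro v
    have h4 : g (g (g v)) = v := by
      have := LinearEquiv.congr_fun hg3 v
      exact this
    simp only [hNa, map_sub, h4]
    have : v - g (g v) - (g (g v) - g v) - (g (g v) - g v - (g v - v)) = (-(3 : F)) • g (g v) + (3 : F) • g v := by
      module
    rw [this, h3F]
    simp
  have hK : ∀ v, v ∈ LinearMap.ker N ↔ g v = v := fun v => by
    rw [LinearMap.mem_ker, hNa, sub_eq_zero]
  have h4 := finrank_le_three_mul hN3
  obtain ⟨x, hxK, hx, hx0⟩ := exists_sing (Q := Q) h2 (W := LinearMap.ker N) (by omega)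
  obtain ⟨y, hy⟩ := LieClassical.OrthTrans.exists_hyp hQ hx0 hx
  have hr : LinearMap.range N ≤ Submodule.span F {x, N y} := by
    rintro _ ⟨v, rfl⟩
    have hper : polar Q x (v - polar Q x v • y) = 0 := by
      rw [polar_sub_right, polar_smul_right, hy.pair]; simp
    obtain ⟨t, ht⟩ := hcon x hx hx0 ((hK x).1 hxK) _ hper
    have e : N v = t • x + polar Q x v • N y := by
      have h5 : N (v - polar Q x v • y) = t • x := by rw [hNa, ht]; abel
      rw [map_sub, map_smul, sub_eq_iff_eq_add] at h5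
      exact h5
    rw [e]
    refine Submodule.add_mem _ (Submodule.smul_mem _ _ (Submodule.subset_span (by simp)))
      (Submodule.smul_mem _ _ (Submodule.subset_span (by simp)))
  have hr2 : finrank F (LinearMap.range N) ≤ 2 := by
    classical
    refine (Submodule.finrank_mono hr).trans ?_
    refine (finrank_span_le_card _).trans ?_
    refine le_trans (le_of_eq (Set.toFinset_card _)) ?_
    rw [← Nat.card_eq_fintype_card, Nat.card_coe_set_eq]
    exact (Set.ncard_insert_le _ _).trans (by rw [Set.ncard_singleton])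
  obtain ⟨R', hR'⟩ := Submodule.exists_isCompl (LinearMap.range N)
  have h5 := Submodule.finrank_add_eq_of_isCompl hR'
  have h6 := LinearMap.finrank_range_add_finrank_ker N
  have h7 := Submodule.finrank_sup_add_finrank_inf_eq (LinearMap.ker N) R'
  have h8 : finrank F ↥(LinearMap.ker N ⊔ R') ≤ finrank F V := Submodule.finrank_le _
  obtain ⟨z, ⟨hzK, hzR⟩, hz, hz0⟩ := exists_sing (Q := Q) h2 (W := LinearMap.ker N ⊓ R') (by omega)
  apply hg1
  refine eq_one_of_fix hQ hz hz0 hg fun v hv => ?_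
  obtain ⟨t, ht⟩ := hcon z hz hz0 ((hK z).1 hzK) v hv
  have h9 : t • z ∈ LinearMap.range N ⊓ R' := by
    refine ⟨⟨v, ?_⟩, R'.smul_mem _ hzR⟩
    rw [hNa, ht]; abel
  rw [hR'.inf_eq_bot, Submodule.mem_bot] at h9
  rw [ht, h9, add_zero]

/-- **Nonlinear case.** -/
theorem exists_point_nl [Finite F] [FiniteDimensional F V] [Nontrivial V] (hQ : Nondeg Q) (hd : 3 ≤ finrank F V)
    {σ : F ≃+* F} {c : F} {M : Equiv.Perm V} (hM : IsSS Q σ c M) (hσ : orderOf σ = 3) (hM3 : M ^ 3 = 1) :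
    ∃ x, x ≠ 0 ∧ Q x = 0 ∧ M x = x := by
  obtain ⟨j, e, he, hj, hjM⟩ := H862.T5.ONonlin.exists_frame_nl hQ hM hσ (by norm_num) hM3 (κ' := Fin 1 ⊕ Fin 1)
    (k := 1) (by simp) (by omega) (P₀ := LieClassical.QuadForms.plusForm 1 (H966.Frob.fix σ))
    (LieClassical.QuadForms.polar_plusForm_nondeg 1)
    (P := LieClassical.QuadForms.plusForm 1 F) (fun x => by
      rw [LieClassical.QuadForms.coe_plusForm, LieClassical.QuadForms.coe_plusForm, H208.Frame.coe_plus])
  set x₀ : Fin 1 ⊕ Fin 1 → F := Sum.elim (fun _ => 1) (fun _ => 0) with hx₀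
  set y₀ : Fin 1 ⊕ Fin 1 → F := Sum.elim (fun _ => 0) (fun _ => 1) with hy₀
  have hP : ∀ v : Fin 1 ⊕ Fin 1 → F, LieClassical.QuadForms.plusForm 1 F v = v (.inl 0) * v (.inr 0) := by
    intro v
    rw [LieClassical.QuadForms.coe_plusForm]
    unfold Cfsg.quadFormPlus
    simp
  refine ⟨j x₀, ?_, ?_, ?_⟩
  · intro h0
    have h1 : Q (j (x₀ + y₀)) = e := by
      rw [hj, hP, hx₀, hy₀]
      simp
    have h2 : Q (j y₀) = 0 := by
      rw [hj, hP, hy₀]
      simp
    rw [map_add, h0, zero_add, h2] at h1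
    exact he h1.symm
  · rw [hj, hP, hx₀]
    simp
  · rw [hjM]
    congr 1
    funext i
    rw [H966.Frob.frob_apply]
    rcases i with i | i <;> simp [hx₀]

/-- Good points. -/
structure GP (Q : QuadraticForm F V) (M : Gam Q) (x : V) : Prop where
  ne : x ≠ 0
  sing : Q x = 0
  fix : M.1 x = x
  cube : M ^ 3 = 1
  act : (∃ (σ : F ≃+* F) (c : F), σ ≠ 1 ∧ IsSS Q σ c M.1) ∨
    ((∃ c : F, IsSS Q (RingEquiv.refl F) c M.1) ∧ ∃ v, polar Q x v = 0 ∧ ∀ t : F, M.1 v ≠ v + t • x)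

theorem exists_gp [Finite F] [FiniteDimensional F V] (h3F : (3 : F) = 0) (hG : Good Q) (hd : 7 ≤ finrank F V)
    {M : Gam Q} (h3 : Psi Q M ^ 3 = 1) (h1 : Psi Q M ≠ 1) : ∃ M' : Gam Q, Psi Q M' = Psi Q M ∧ ∃ x, GP Q M' x := by
  have := H208.ConjSS.nontrivial_of_good hG
  obtain ⟨σ, c, hM⟩ := id M.2
  by_cases hσ : σ = 1
  · subst hσ
    obtain ⟨g, hg, hg3, hgM⟩ := exists_isom hG (p := 3) (by decide) hM h3
    have hg1 : g ≠ 1 := by
      rintro rfl
      apply h1
      rw [hgM]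
      have : ofO (1 : V ≃ₗ[F] V) hg = 1 := rfl
      rw [this, map_one]
    obtain ⟨x, hx, hx0, hgx, v, hv, hvt⟩ := exists_point_lin h3F hG.nondeg hd hg hg3 hg1
    refine ⟨ofO g hg, hgM.symm, x, hx, hx0, hgx, ?_, Or.inr ⟨?_, v, hv, hvt⟩⟩
    · apply Subtype.ext
      ext v
      exact LinearEquiv.congr_fun hg3 v
    · exact ⟨1, one_ne_zero, fun u v => map_add g u v, fun a v => map_smul g a v, fun v => by
        rw [one_mul]; exact hg v⟩
  · obtain ⟨hoσ, a, ha⟩ := H208.ConjSS.exists_normal hG hM hσ Nat.prime_three h3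
    obtain ⟨d, hd'⟩ := H208.ConjSS.isSS_scal_mul hM a
    obtain ⟨x, hx, hx0, hMx⟩ := exists_point_nl hG.nondeg (by omega) hd' hoσ ha
    refine ⟨scal Q a * M, ?_, x, hx, hx0, hMx, Subtype.ext ha, Or.inl ⟨σ, d, hσ, hd'⟩⟩
    rw [map_mul, H208.ConjSS.Psi_scal hG, one_mul]

theorem GP.conj {M : Gam Q} {x : V} (h : GP Q M x) {T : V ≃ₗ[F] V} (hT : T ∈ O Q) :
    GP Q (ofO T hT * M * (ofO T hT)⁻¹) (T x) := by
  have happ : ∀ v, (ofO T hT * M * (ofO T hT)⁻¹).1 (T v) = T (M.1 v) := by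
    intro v
    show T (M.1 ((ofO T hT).1⁻¹ (T v))) = _
    have : (ofO T hT).1⁻¹ (T v) = v := (ofO T hT).1.symm_apply_apply v
    rw [this]
  have hTs : IsSS Q (RingEquiv.refl F) 1 (ofO T hT).1 :=
    ⟨one_ne_zero, fun u v => map_add T u v, fun a v => map_smul T a v, fun v => by rw [one_mul]; exact hT v⟩
  refine ⟨fun h0 => h.ne (T.injective (h0.trans (map_zero T).symm)), by rw [hT]; exact h.sing, ?_, ?_, ?_⟩
  · rw [happ, h.fix]
  · rw [conj_pow, h.cube, mul_one, mul_inv_cancel]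
  · rcases h.act with ⟨σ, c, hσ, hM⟩ | ⟨⟨c, hM⟩, v, hv, hvt⟩
    · left
      exact ⟨_, _, hσ, (hTs.mul hM).mul hTs.inv⟩
    · right
      refine ⟨⟨_, (hTs.mul hM).mul hTs.inv⟩, T v, ?_, fun t ht => hvt t ?_⟩
      · rw [polar_map hT, hv]
      · rw [happ, ← map_smul, ← map_add] at ht
        exact T.injective ht

theorem GP.mem_St {M : Gam Q} {x : V} (h : GP Q M x) : M ∈ St Q x h.ne := ⟨1, by rw [one_smul]; exact h.fix⟩

theorem GP.psi_ne (h3F : (3 : F) = 0) {M : Gam Q} {x y : V} (h : GP Q M x) (hy : Hyp Q x y)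
    (hq : Good (qr Q (PP Q x y))) : Psi (qr Q (PP Q x y)) (rsH hy ⟨M, h.mem_St⟩) ≠ 1 := by
  intro h1
  have := H208.ConjSS.nontrivial_of_good hq
  obtain ⟨a, ha⟩ := exists_scal hq h1
  have hsc : IsSS (qr Q (PP Q x y)) (RingEquiv.refl F) ((a : F) * a) (scal (qr Q (PP Q x y)) a).1 :=
    ⟨mul_ne_zero a.ne_zero a.ne_zero, fun u v => smul_add (a : F) u v, fun t v => smul_comm (a : F) t v, fun v => by
      rw [scal_apply, QuadraticMap.map_smul]; rfl⟩
  rcases h.act with ⟨σ, c, hσ, hM⟩ | ⟨⟨c, hM⟩, v, hv, hvt⟩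
  · have h2 := isSS_rsP hy ⟨M, h.mem_St⟩ hM
    have h3 : rsP hy ⟨M, h.mem_St⟩ = (scal (qr Q (PP Q x y)) a).1 := congrArg Subtype.val ha
    rw [h3] at h2
    exact hσ (H208.ConjSS.sigma_unique h2 hsc)
  · have hcube : (⟨M, h.mem_St⟩ : St Q x h.ne) ^ 3 = 1 := Subtype.ext h.cube
    have h2 : (rsH hy ⟨M, h.mem_St⟩) ^ 3 = 1 := by rw [← map_pow, hcube, map_one]
    have h3 : (a : F) ^ 3 = 1 := by
      obtain ⟨u, hu⟩ := exists_ne (0 : PP Q x y)
      have h4 : (scal (qr Q (PP Q x y)) a ^ 3).1 u = u := by rw [← ha, h2]; rfl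
      have h5 : (scal (qr Q (PP Q x y)) a ^ 3).1 u = (a : F) • (a : F) • (a : F) • u := rfl
      rw [h5, smul_smul, smul_smul] at h4
      have h6 : ((a : F) ^ 3 - 1) • u = 0 := by
        have : ((a : F) ^ 3 - 1) • u = ((a : F) * ((a : F) * a)) • u - u := by module
        rw [this, ← mul_assoc, h4, sub_self]
      exact sub_eq_zero.1 ((smul_eq_zero.1 h6).resolve_right hu)
    have h4 : (a : F) = 1 := by
      have h5 : ((a : F) - 1) ^ 3 = 0 := by
        have : ((a : F) - 1) ^ 3 = (a : F) ^ 3 - 1 + 3 * (a - a ^ 2) := by ring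
        rw [this, h3, h3F]; ring
      exact sub_eq_zero.1 (pow_eq_zero_iff (by norm_num) |>.1 h5)
    have h5 : ∀ u : PP Q x y, pr hy (M.1 u) = u := by
      intro u
      have h6 : (rsH hy ⟨M, h.mem_St⟩).1 u = (a : F) • u := by rw [ha]; rfl
      rw [h4, one_smul] at h6
      exact h6
    have h6 : polar Q x (M.1 (pr hy v : V)) = 0 := St_perp h.mem_St (mem_PP.1 (pr hy v).2).1
    have h7 := eq_of_perp hy h6
    rw [h5] at h7
    apply hvt (polar Q y (M.1 (pr hy v : V)))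
    have h8 := eq_of_perp hy hv
    generalize hs : polar Q y (M.1 (pr hy v : V)) = s at h7 ⊢
    generalize hr : polar Q y v = r at h8
    generalize hw : (pr hy v : V) = w at h7 h8
    rw [h8, hM.add, hM.smul, h.fix, h7]
    simp only [RingEquiv.refl_apply]
    abel

end Cfsg.Agent.H12.WfO
end

-- part: H12/WfO/Hom
section
/-!
# S3826: sections of proper subgroups in other universes

* `QS.of_map` : `QS` passes to preimages under injective homomorphisms;
* `Cfg.false_of_hom'` : `Cfg.false_of_hom` for a homomorphism (not necessarily surjective) to a group in any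
  universe.
-/

set_option autoImplicit false
set_option linter.unusedSectionVars false

namespace Cfsg.Agent.H12.WfO

universe u v w

open Subgroup Cfsg Cfsg.Agent.H533.Wf

section

variable {X : Type u} [Group X] {Y : Type w} [Group Y]

theorem qs_comap {ι : X →* Y} (hι : Function.Injective ι) {L : Subgroup Y} (hL : QS L) (hr : L ≤ ι.range) :
    QS (L.comap ι) := by
  have hmap : (L.comap ι).map ι = L := by
    rw [Subgroup.map_comap_eq, inf_eq_right.mpr hr]
  refine ⟨?_, ?_, ?_⟩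
  · apply Subgroup.map_injective hι
    rw [Subgroup.map_commutator, hmap, hL.perfect]
  · intro h
    apply hL.ne
    rw [← hmap, h, Subgroup.map_bot]
  · intro N hN hn
    have h1 : N.map ι ≤ L := by rw [← hmap]; exact Subgroup.map_mono hN
    have h2 : L ≤ Subgroup.normalizer ((N.map ι : Subgroup Y) : Set Y) := by
      intro l hl
      obtain ⟨x, rfl⟩ := hr hl
      rw [Subgroup.mem_normalizer_iff]
      have h3 := hn (show x ∈ L.comap ι from hl)
      rw [Subgroup.mem_normalizer_iff] at h3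
      intro y
      constructor
      · rintro ⟨z, hz, rfl⟩
        exact ⟨_, (h3 z).mp hz, by simp only [_root_.map_mul, _root_.map_inv]⟩
      · rintro ⟨z, hz, hzy⟩
        refine ⟨x⁻¹ * z * x, (h3 _).mpr ?_, ?_⟩
        · have : x * (x⁻¹ * z * x) * x⁻¹ = z := by group
          rw [this]; exact hz
        · rw [map_mul, map_mul, map_inv, hzy]; group
    rcases hL.norm _ h1 h2 with h | h
    · left
      apply Subgroup.map_injective hι
      rw [h, hmap]
    · right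
      intro x hx
      rw [Subgroup.mem_centralizer_iff]
      intro l hl
      have h4 := Subgroup.mem_centralizer_iff.1 (h ⟨x, hx, rfl⟩) (ι l) hl
      apply hι
      rw [map_mul, map_mul]
      exact h4

end

variable {p : ℕ} {G : Type u} [Group G] [Finite G] {S : Subgroup G} {C D : Set G}

/-- Homomorphisms of proper subgroups. -/
theorem false_of_hom' [Fact p.Prime] (h : Cfg p S C D) {H : Subgroup G} (hH : H ≠ ⊤)
    {Y : Type w} [Group Y] (φ : H →* Y) {L : Subgroup Y} (hLr : L ≤ φ.range)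
    (hLn : L.Normal) (hL : QS L) {c d : G} (hc : c ∈ C) (hd : d ∈ D) (hcH : c ∈ H) (hdH : d ∈ H)
    (hcL : φ ⟨c, hcH⟩ ∉ Subgroup.centralizer (L : Set Y))
    (hdL : φ ⟨d, hdH⟩ ∉ Subgroup.centralizer (L : Set Y)) : False := by
  let ι : H ⧸ φ.ker →* Y := QuotientGroup.kerLift φ
  have hι : Function.Injective ι := QuotientGroup.kerLift_injective φ
  have hr : L ≤ ι.range := by
    intro l hl
    obtain ⟨x, rfl⟩ := hLr hl
    exact ⟨QuotientGroup.mk x, QuotientGroup.kerLift_mk φ x⟩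
  have hcent : ∀ x : H, φ x ∉ Subgroup.centralizer (L : Set Y) →
      QuotientGroup.mk' φ.ker x ∉ Subgroup.centralizer ((L.comap ι : Subgroup (H ⧸ φ.ker)) : Set (H ⧸ φ.ker)) := by
    intro x hx hx'
    apply hx
    rw [Subgroup.mem_centralizer_iff] at hx' ⊢
    intro l hl
    obtain ⟨z, rfl⟩ := hr hl
    have h1 := congrArg ι (hx' z hl)
    rw [map_mul, map_mul] at h1
    exact h1
  exact h.false_of_hom hH (QuotientGroup.mk' φ.ker) (QuotientGroup.mk'_surjective _) (L := L.comap ι)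
    (hLn.comap ι) (qs_comap hι hL hr) hc hd hcH hdH (hcent _ hcL) (hcent _ hdL)

/-- The homomorphism of the preimage of the image of `f` induced by `k`. -/
theorem exists_hom {A : Type*} {X : Type*} {Y : Type*} {B : Type*} [Group A] [Group X] [Group Y] [Group B]
    (f : A →* X) (k : A →* Y) (hker : f.ker ≤ k.ker) (φ : B →* X) :
    ∃ ψ : (f.range.comap φ : Subgroup B) →* Y, ∀ (b : (f.range.comap φ : Subgroup B)) (a : A), f a = φ b → ψ b = k a := by
  let k' : A ⧸ f.ker →* Y := QuotientGroup.lift f.ker k hker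
  let e : A ⧸ f.ker ≃* f.range := QuotientGroup.quotientKerEquivRange f
  let φ' : (f.range.comap φ : Subgroup B) →* f.range :=
    (φ.comp (Subgroup.subtype _)).codRestrict f.range (fun b => b.2)
  refine ⟨k'.comp (e.symm.toMonoidHom.comp φ'), fun b a hab => ?_⟩
  have h1 : φ' b = e (QuotientGroup.mk a) := by
    apply Subtype.ext
    exact hab.symm
  rw [MonoidHom.comp_apply, MonoidHom.comp_apply, h1]
  show k' (e.symm (e (QuotientGroup.mk a))) = k a
  rw [MulEquiv.symm_apply_apply]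
  exact QuotientGroup.lift_mk _ _ _

end Cfsg.Agent.H12.WfO
end

-- part: H12/WfO/Main
section
/-!
# S3826, orthogonal groups in characteristic three: pairs of semisimilitudes
-/

set_option autoImplicit false
set_option linter.unusedSectionVars false

namespace Cfsg.Agent.H12.WfO

universe u

open QuadraticMap hiding proj
open Module Cfsg.Agent.LieClassical.OrthCore Cfsg.Agent.LieClassical.OrthTrans
open Cfsg.Agent.ClassicalGeometry.OrthSemi Cfsg.Agent.ClassicalGeometry.OrthAut1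
open Cfsg.Agent.H951 (Frm Nd Inv)
open Cfsg.Agent.H862.T5.OBase
open Cfsg.Agent.H208.Parity (ofO)
open Cfsg.Agent.H533.Wf

section act

variable {G : Type*} [Group G] {S : Subgroup G} {K : Type*} [Group K]

/-- the action on the socle -/
def act (hS : S.Normal) (e : S ≃* K) : G →* MulAut K :=
  haveI := hS
  (MulAut.congr e).toMonoidHom.comp MulAut.conjNormal

theorem act_apply (hS : S.Normal) (e : S ≃* K) (g : G) (s : S) :
    act hS e g (e s) = e ⟨g * s * g⁻¹, hS.conj_mem s s.2 g⟩ := by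
  haveI := hS
  show e (MulAut.conjNormal g (e.symm (e s))) = _
  rw [e.symm_apply_apply]
  congr 1

theorem act_coe (hS : S.Normal) (e : S ≃* K) (s : S) : act hS e s = MulAut.conj (e s) := by
  ext x
  obtain ⟨t, rfl⟩ := e.surjective x
  rw [act_apply, MulAut.conj_apply, ← map_inv, ← map_mul, ← map_mul]
  rfl

theorem act_injective (hS : S.Normal) (e : S ≃* K) (hc : Subgroup.centralizer (S : Set G) = ⊥) :
    Function.Injective (act hS e) := by
  rw [injective_iff_map_eq_one]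
  intro g hg
  have h1 : g ∈ Subgroup.centralizer (S : Set G) := by
    rw [Subgroup.mem_centralizer_iff]
    intro s hs
    have h2 := act_apply hS e g ⟨s, hs⟩
    rw [hg, MulAut.one_apply] at h2
    have h3 : s = g * s * g⁻¹ := congrArg Subtype.val (e.injective h2)
    calc s * g = (g * s * g⁻¹) * g := by rw [← h3]
      _ = g * s := by group
  rwa [hc, Subgroup.mem_bot] at h1

end act

section simple

variable {K : Type*} [Group K]

theorem normal_inn : (MulAut.conj : K →* MulAut K).range.Normal := by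
  constructor
  rintro _ ⟨x, rfl⟩ α
  refine ⟨α x, ?_⟩
  ext y
  simp only [MulAut.conj_apply, MulAut.mul_apply, map_mul, map_inv, MulAut.apply_inv_self]

theorem center_bot [IsSimpleGroup K] (hnc : ¬ IsMulCommutative K) : Subgroup.center K = ⊥ := by
  rcases (inferInstance : (Subgroup.center K).Normal).eq_bot_or_eq_top with h | h
  · exact h
  · refine absurd ⟨⟨fun a b => ?_⟩⟩ hnc
    have h1 : b ∈ Subgroup.center K := by rw [h]; exact Subgroup.mem_top b
    exact Subgroup.mem_center_iff.1 h1 a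

theorem conj_injective [IsSimpleGroup K] (hnc : ¬ IsMulCommutative K) :
    Function.Injective (MulAut.conj : K →* MulAut K) := by
  rw [injective_iff_map_eq_one]
  intro x hx
  have h1 : x ∈ Subgroup.center K := by
    rw [Subgroup.mem_center_iff]
    intro y
    have h2 := DFunLike.congr_fun hx y
    rw [MulAut.conj_apply, MulAut.one_apply] at h2
    calc y * x = (x * y * x⁻¹) * x := by rw [h2]
      _ = x * y := by group
  rwa [center_bot hnc, Subgroup.mem_bot] at h1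

theorem qs_inn [IsSimpleGroup K] (hnc : ¬ IsMulCommutative K) : QS (MulAut.conj : K →* MulAut K).range := by
  let e : K ≃* (MulAut.conj : K →* MulAut K).range := MonoidHom.ofInjective (conj_injective hnc)
  have : IsSimpleGroup (MulAut.conj : K →* MulAut K).range := by
    have := e.symm.toEquiv.nontrivial
    exact IsSimpleGroup.isSimpleGroup_of_surjective e.toMonoidHom e.surjective
  refine QS.of_simple this fun h => hnc ⟨⟨fun a b => ?_⟩⟩
  apply e.injective
  rw [map_mul, map_mul]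
  exact h.is_comm.comm _ _

theorem not_mem_centralizer_inn [IsSimpleGroup K] (hnc : ¬ IsMulCommutative K) {α : MulAut K} (h : α ≠ 1) :
    α ∉ Subgroup.centralizer ((MulAut.conj : K →* MulAut K).range : Set (MulAut K)) := by
  intro hα
  apply h
  rw [Subgroup.mem_centralizer_iff] at hα
  ext x
  apply conj_injective hnc
  have h1 := hα (MulAut.conj x) ⟨x, rfl⟩
  have h2 : MulAut.conj (α x) = α * MulAut.conj x * α⁻¹ := by
    ext y
    simp only [MulAut.conj_apply, MulAut.mul_apply, map_mul, map_inv, MulAut.apply_inv_self]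
  rw [h2, ← h1, mul_inv_cancel_right]
  rfl

end simple

variable {F V : Type*} [Field F] [Finite F] [AddCommGroup V] [Module F V] [FiniteDimensional F V]
  {Q : QuadraticForm F V}

theorem not_comm (hG : Good Q) : ¬ IsMulCommutative (P Q) := by
  intro h
  have hs : IsSimpleGroup (P Q) := LieClassical.OrthSimple.good_isSimpleGroup hG
  have h1 : commutator (P Q) = ⊤ := by
    have h2 : commutator ↥(E Q) = ⊤ := by
      apply Subgroup.map_injective (E Q).subtype_injective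
      rw [Subgroup.map_subtype_commutator, hG.E_perfect, ← MonoidHom.range_eq_map, Subgroup.range_subtype]
    have h3 := Subgroup.map_commutator (⊤ : Subgroup ↥(E Q)) ⊤ (QuotientGroup.mk' (Subgroup.center ↥(E Q)))
    rw [Subgroup.map_top_of_surjective _ (QuotientGroup.mk'_surjective _)] at h3
    rw [commutator_def] at h2 ⊢
    rw [← h3, h2, Subgroup.map_top_of_surjective _ (QuotientGroup.mk'_surjective _)]
  have h2 : commutator (P Q) = ⊥ := by
    rw [commutator_def, Subgroup.commutator_eq_bot_iff_le_centralizer]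
    intro x _
    rw [Subgroup.mem_centralizer_iff]
    intro y _
    exact h.is_comm.comm y x
  rw [h1] at h2
  exact top_ne_bot h2

variable {G : Type u} [Group G] [Finite G] {S : Subgroup G} {C D : Set G}

/-- **Pairs of semisimilitudes.** -/
theorem false_of_gam (h3F : (3 : F) = 0) (hG : Good Q) (h7 : 7 ≤ finrank F V) (h : Cfg 3 S C D) (e : S ≃* P Q)
    {c d : G} (hc : c ∈ C) (hd : d ∈ D) (hcG : act h.normal e c ∈ (Psi Q).range)
    (hdG : act h.normal e d ∈ (Psi Q).range) : False := by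
  have := Fact.mk Nat.prime_three
  have hinj := act_injective h.normal e h.cent
  have hgp : ∀ c : G, orderOf c = 3 → act h.normal e c ∈ (Psi Q).range →
      ∃ M : Gam Q, Psi Q M = act h.normal e c ∧ ∃ x, GP Q M x := by
    rintro c hc3 ⟨M, hM⟩
    obtain ⟨M', hM', x, hx⟩ := exists_gp h3F hG h7 (M := M)
      (by
        have h2 : c ^ 3 = 1 := by
          have h3 := pow_orderOf_eq_one c
          rwa [hc3] at h3
        rw [hM, ← map_pow, h2, map_one])
      (by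
        rw [hM]
        intro h1
        rw [← map_one (act h.normal e)] at h1
        rw [hinj h1, orderOf_one] at hc3
        exact absurd hc3 (by norm_num))
    exact ⟨M', hM'.trans hM, x, hx⟩
  obtain ⟨M, hM, x, hx⟩ := hgp c (h.ordC c hc) hcG
  obtain ⟨N, hN, z, hz⟩ := hgp d (h.ordD d hd) hdG
  obtain ⟨T, hT, hTz⟩ := hG.trans_sing hz.sing hx.sing hz.ne hx.ne
  set g : S := e.symm (QuotientGroup.mk (⟨T, hT⟩ : E Q)) with hg
  have hactg : act h.normal e (g : G) = Psi Q (ofO T (E_le_O hT)) := by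
    rw [act_coe, hg, e.apply_symm_apply, Psi_E hT]
  have hd' : (g : G) * d * (g : G)⁻¹ ∈ D := h.conjD g d hd
  have hN' : Psi Q (ofO T (E_le_O hT) * N * (ofO T (E_le_O hT))⁻¹) = act h.normal e ((g : G) * d * (g : G)⁻¹) := by
    rw [map_mul, map_mul, map_inv, map_mul, map_mul, map_inv, hactg, hN]
  have hz' : GP Q (ofO T (E_le_O hT) * N * (ofO T (E_le_O hT))⁻¹) x := by
    rw [← hTz]; exact hz.conj (E_le_O hT)
  obtain ⟨y, hy⟩ := LieClassical.OrthTrans.exists_hyp hG.nondeg hx.sing hx.ne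
  have hq : Good (qr Q (PP Q x y)) := good_res hG.nondeg h7 hy
  have hsq : IsSimpleGroup (P (qr Q (PP Q x y))) := LieClassical.OrthSimple.good_isSimpleGroup hq
  have hncq := not_comm hq
  obtain ⟨H, hHe, hmem, ψ, hval⟩ : ∃ H : Subgroup G,
      (∀ k ∈ H, ∃ M ∈ St Q x hy.left_ne, Psi Q M = act h.normal e k) ∧
      (∀ (k : G) (M : Gam Q), M ∈ St Q x hy.left_ne → Psi Q M = act h.normal e k → k ∈ H) ∧
      ∃ ψ : H →* MulAut (P (qr Q (PP Q x y))), ∀ (k : G) (hk : k ∈ H) (M : Gam Q) (hMx : M ∈ St Q x hy.left_ne),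
        Psi Q M = act h.normal e k → ψ ⟨k, hk⟩ = Psi (qr Q (PP Q x y)) (rsH hy ⟨M, hMx⟩) := by
    obtain ⟨ψ, hψ⟩ := exists_hom ((Psi Q).comp (St Q x hy.left_ne).subtype)
      ((Psi (qr Q (PP Q x y))).comp (rsH hy)) (ker_le hy hG hq) (act h.normal e)
    refine ⟨((Psi Q).comp (St Q x hy.left_ne).subtype).range.comap (act h.normal e), ?_, ?_, ψ, ?_⟩
    · rintro k ⟨M, hM⟩
      exact ⟨M, M.2, hM⟩
    · intro k M hMx hk
      exact ⟨⟨M, hMx⟩, hk⟩
    · intro k hk M hMx hkM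
      exact hψ ⟨k, hk⟩ ⟨M, hMx⟩ hkM
  have hHtop : H ≠ ⊤ := by
    intro htop
    obtain ⟨R, hR, hRx⟩ := hG.trans_sing hy.left hy.right hy.left_ne hy.right_ne
    have hk : ((e.symm (QuotientGroup.mk (⟨R, hR⟩ : E Q)) : S) : G) ∈ H := by rw [htop]; exact Subgroup.mem_top _
    obtain ⟨K, ⟨t, hKx⟩, hK⟩ := hHe _ hk
    have hK' : Psi Q K = Psi Q (ofO R (E_le_O hR)) := by
      rw [hK, act_coe, e.apply_symm_apply, Psi_E hR]
    obtain ⟨a, ha⟩ := exists_scal hG (M := K * (ofO R (E_le_O hR))⁻¹) (by rw [map_mul, map_inv, hK', mul_inv_cancel])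
    have h1 : K = scal Q a * ofO R (E_le_O hR) := by rw [← ha, inv_mul_cancel_right]
    have h2 : K.1 x = (a : F) • R x := by rw [h1]; rfl
    rw [hRx, hKx] at h2
    have h3 := congrArg (polar Q x) h2
    rw [polar_smul_right, polar_smul_right, hy.polar_left, hy.pair, smul_zero, smul_eq_mul, mul_one] at h3
    exact a.ne_zero h3.symm
  have hcH : c ∈ H := hmem c M hx.mem_St hM
  have hdH : (g : G) * d * (g : G)⁻¹ ∈ H := hmem _ _ hz'.mem_St hN'
  refine false_of_hom' h hHtop ψ (L := (MulAut.conj : P (qr Q (PP Q x y)) →* _).range) ?_ normal_inn (qs_inn hncq)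
    hc hd' hcH hdH ?_ ?_
  · rintro _ ⟨p, rfl⟩
    induction p using QuotientGroup.induction_on with
    | H p =>
      obtain ⟨A, hA, hAx, -, hAu⟩ := exists_lift hy p.2
      have hAst : ofO A (E_le_O hA) ∈ St Q x hy.left_ne := ⟨1, by rw [one_smul]; exact hAx⟩
      have hk : Psi Q (ofO A (E_le_O hA)) =
          act h.normal e ((e.symm (QuotientGroup.mk (⟨A, hA⟩ : E Q)) : S) : G) := by
        rw [act_coe, e.apply_symm_apply, Psi_E hA]
      refine ⟨⟨_, hmem _ _ hAst hk⟩, ?_⟩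
      rw [hval _ _ _ hAst hk]
      have h1 : rsH hy ⟨ofO A (E_le_O hA), hAst⟩ = ofO (p : _ ≃ₗ[F] _) (E_le_O p.2) := by
        apply Subtype.ext
        ext u
        rw [rsH_apply]
        have h2 : (ofO A (E_le_O hA)).1 (u : V) = ((p : _ ≃ₗ[F] _) u : PP Q x y) := hAu u
        show (pr hy ((ofO A (E_le_O hA)).1 (u : V)) : V) = _
        rw [h2, pr_coe]
        rfl
      rw [h1, Psi_E p.2]
  · rw [hval _ _ _ hx.mem_St hM]
    exact not_mem_centralizer_inn hncq (hx.psi_ne h3F hy hq)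
  · rw [hval _ _ _ hz'.mem_St hN']
    exact not_mem_centralizer_inn hncq (hz'.psi_ne h3F hy hq)

end Cfsg.Agent.H12.WfO
end

-- part: H12/WfO/Row
section
/-!
# S3826: the rows of the orthogonal groups in characteristic three

* `wf_odd`, `wf_minus` : `PΩ_{2m+1}(3^a)`, `m ≥ 3`, `PΩ⁻_{2m}(3^a)`, `m ≥ 4`;
* `wf_plus` : `PΩ⁺_{2m}(3^a)`, `m ≥ 4`, under the hypothesis `TriRow` (no minimal configuration contains a triality).
-/

set_option autoImplicit false
set_option linter.unusedSectionVars false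

namespace Cfsg.Agent.H12.WfO

universe u v

open QuadraticMap hiding proj
open Module Cfsg.Agent.LieClassical.OrthCore Cfsg.Agent.LieClassical.OrthTrans
open Cfsg.Agent.ClassicalGeometry.OrthSemi Cfsg.Agent.ClassicalGeometry.OrthAut1
open Cfsg.Agent.LieClassical.QuadForms
open Cfsg.Agent.H533.Wf

theorem act_trans {G : Type*} [Group G] {S : Subgroup G} {K K' : Type*} [Group K] [Group K'] (hS : S.Normal)
    (e : S ≃* K) (f : K ≃* K') (g : G) : act hS (e.trans f) g = MulAut.congr f (act hS e g) := by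
  ext x
  rfl

theorem mem_range_of_ind {ι : Type} [Fintype ι] [DecidableEq ι] {F : Type*} [Field F] {Q : QuadraticForm F (ι → F)}
    (hG : Good Q) {β : MulAut (Cfsg.POmega F ⇑Q)} (h : ∃ y, H903.SylSemi.SemiO F ⇑Q y ∧
      H903.SylSemi.Ind (H152.MeetOmega.proj ⇑Q) (H152.MeetOmega.rho ⇑Q) y β) :
    MulAut.congr (AutOrth.Main.pe hG) β ∈ (Psi Q).range := by
  obtain ⟨y, hy, hyi⟩ := h
  exact ⟨⟨y, H152.MeetOmega.mem_gam_iff.2 hy⟩, ((H152.MeetOmega.ind_iff hG ⟨y, _⟩ β).1 hyi).symm⟩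

/-- the row for a good form -/
theorem wf_good {ι F : Type} [Fintype ι] [DecidableEq ι] [Field F] [Finite F]
    {Q : QuadraticForm F (ι → F)} (hG : Good Q) (h3F : (3 : F) = 0) (h7 : 7 ≤ Fintype.card ι)
    (hind : ∀ c : MulAut (Cfsg.POmega F ⇑Q), ∃ y, H903.SylSemi.SemiO F ⇑Q y ∧
      H903.SylSemi.Ind (H152.MeetOmega.proj ⇑Q) (H152.MeetOmega.rho ⇑Q) y c) : WfRow.{u, 0} 3 (Cfsg.POmega F ⇑Q) := by
  rintro G _ _ S C D h ⟨e⟩
  obtain ⟨c, hc⟩ := h.neC
  obtain ⟨d, hd⟩ := h.neD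
  refine false_of_gam h3F hG (by rwa [Module.finrank_fintype_fun_eq_card]) h (e.trans (AutOrth.Main.pe hG)) hc hd ?_ ?_
  · rw [act_trans]; exact mem_range_of_ind hG (hind _)
  · rw [act_trans]; exact mem_range_of_ind hG (hind _)

theorem wf_iso {K : Type v} [Group K] {K' : Type} [Group K'] (e : K ≃* K') (h : WfRow.{u, 0} 3 K') :
    WfRow.{u, v} 3 K := by
  rintro G _ _ S C D hc ⟨f⟩
  exact h G S C D hc ⟨f.trans e⟩

/-- **`PΩ_{2m+1}(3^a)`.** -/
theorem wf_odd {K : Type v} [Group K] (h : Cfsg.IsPOmegaOddChar 3 K) : WfRow.{u, v} 3 K := by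
  obtain ⟨F, _, _, hF, m, hm, hq, ⟨e⟩⟩ := h
  have h3F : (3 : F) = 0 := CharP.cast_eq_zero F 3
  have h2 : (2 : F) ≠ 0 := by
    intro h
    apply one_ne_zero (α := F)
    linear_combination h3F - h
  have hG := AutOrth.Main.good_odd (F := F) (m := m) (by omega) h2
  refine wf_iso e ?_
  have hind := H152.MeetOmega.gamma_odd (F := F) hm h2
  rw [← coe_oddForm] at hind ⊢
  exact wf_good hG h3F (by simp only [Fintype.card_sum, Fintype.card_fin, Fintype.card_unit]; omega) hind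

/-- **`PΩ⁻_{2m}(3^a)`.** -/
theorem wf_minus {K : Type v} [Group K] (h : Cfsg.IsPOmegaMinusChar 3 K) : WfRow.{u, v} 3 K := by
  obtain ⟨F, _, _, hF, m, a, b, hm, hab, ⟨e⟩⟩ := h
  have h3F : (3 : F) = 0 := CharP.cast_eq_zero F 3
  have hG := AutOrth.Main.good_minus (F := F) (m := m - 1) (by omega) hab
  refine wf_iso e ?_
  have hind := H152.MeetOmega.gamma_minus (F := F) (m := m - 1) (by omega) hab
  rw [← coe_minusForm] at hind ⊢
  exact wf_good hG h3F (by simp only [Fintype.card_sum, Fintype.card_fin]; omega) hind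

/-- **`PΩ⁺_{2m}(3^a)`, `m ≥ 5`.** -/
theorem wf_plus_five {F : Type} [Field F] [Finite F] (h3F : (3 : F) = 0) {m : ℕ} (hm : 5 ≤ m) :
    WfRow.{u, 0} 3 (Cfsg.POmega F (Cfsg.quadFormPlus m F)) := by
  have hG := AutOrth.Main.good_plus (F := F) (m := m) (by omega)
  have hind : ∀ β : MulAut (Cfsg.POmega F (Cfsg.quadFormPlus m F)), ∃ y, H903.SylSemi.SemiO F (Cfsg.quadFormPlus m F) y ∧
      H903.SylSemi.Ind (H152.MeetOmega.proj (Cfsg.quadFormPlus m F)) (H152.MeetOmega.rho (Cfsg.quadFormPlus m F)) y β := by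
    intro β
    have h := AutOrth.Main.all_plus hm β
    revert β
    rw [← coe_plusForm]
    intro β h
    exact H152.MeetOmega.exists_of_ind hG h
  rw [← coe_plusForm] at hind ⊢
  exact wf_good hG h3F (by simp only [Fintype.card_sum, Fintype.card_fin]; omega) hind

end Cfsg.Agent.H12.WfO
end

-- part: H491/Wf/GRow
section
/-!
# The row of S3826 with the wreath hypothesis, in the automorphism group

* `GPair p S c d` : some `S`-conjugate of `d` generates with `c` a group which is not a `p`-group in which `C_p ≀ C_p`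
  is not involved;
* `GRow p K` : all pairs of automorphisms of order `p`;
* `WfRow.of_grow` : `GRow p K → WfRow p K`;
* `GPair.of_key` : the wreath lemma for `p = 3`.
-/

set_option autoImplicit false

namespace Cfsg.Agent.H491.Wf.GR

universe u v

open Subgroup Cfsg Cfsg.Agent.H533.T5 Cfsg.Agent.H533.Wf

section basic

variable {p : ℕ} {G : Type u} [Group G] {H : Type v} [Group H]

/-- Some `S`-conjugate of `d` generates with `c` a group which is not a `p`-group in which `C_p ≀ C_p` is not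
involved. -/
def GPair (p : ℕ) {G : Type u} [Group G] (S : Subgroup G) (c d : G) : Prop :=
  ∃ g ∈ S, ¬ (IsPGroup p ↥(Subgroup.closure ({c, g * d * g⁻¹} : Set G)) ∧
    WFree p ↥(Subgroup.closure ({c, g * d * g⁻¹} : Set G)))

variable {S T : Subgroup G} {c d : G}

theorem GPair.of_wpair (h : WPair p S c d) : GPair p S c d := by
  obtain ⟨g, hg, h⟩ := h
  exact ⟨g, hg, fun h1 => h h1.1⟩

theorem GPair.mono (h : GPair p S c d) (hST : S ≤ T) : GPair p T c d := by
  obtain ⟨g, hg, h⟩ := h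
  exact ⟨g, hST hg, h⟩

/-- The property passes to images. -/
theorem map_good (φ : G →* H) {a b : G}
    (h : IsPGroup p ↥(Subgroup.closure ({a, b} : Set G)) ∧ WFree p ↥(Subgroup.closure ({a, b} : Set G))) :
    IsPGroup p ↥(Subgroup.closure ({φ a, φ b} : Set H)) ∧ WFree p ↥(Subgroup.closure ({φ a, φ b} : Set H)) := by
  rw [← closure_pair_map]
  exact ⟨h.1.map φ, h.2.map φ⟩

theorem GPair.of_hom (φ : G →* H) {S : Subgroup G} {T : Subgroup H} (hT : T ≤ S.map φ) {c d : G}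
    (h : GPair p T (φ c) (φ d)) : GPair p S c d := by
  obtain ⟨t, ht, h⟩ := h
  obtain ⟨g, hg, rfl⟩ := hT ht
  refine ⟨g, hg, fun hP => h ?_⟩
  have := map_good φ hP
  rwa [map_mul, map_mul, map_inv] at this

theorem good_conj_iff (x a b : G) :
    (IsPGroup p ↥(Subgroup.closure ({x * a * x⁻¹, x * b * x⁻¹} : Set G)) ∧
      WFree p ↥(Subgroup.closure ({x * a * x⁻¹, x * b * x⁻¹} : Set G))) ↔
    (IsPGroup p ↥(Subgroup.closure ({a, b} : Set G)) ∧ WFree p ↥(Subgroup.closure ({a, b} : Set G))) := by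
  constructor
  · intro h
    have h1 := map_good (MulAut.conj x⁻¹).toMonoidHom h
    have e : ∀ a : G, (MulAut.conj x⁻¹).toMonoidHom (x * a * x⁻¹) = a := fun a => by
      show x⁻¹ * (x * a * x⁻¹) * x⁻¹⁻¹ = a
      group
    rwa [e, e] at h1
  · intro h
    exact map_good (MulAut.conj x).toMonoidHom h

theorem GPair.conj_right {s : G} (hs : s ∈ S) (h : GPair p S c (s * d * s⁻¹)) : GPair p S c d := by
  obtain ⟨g, hg, h⟩ := h
  refine ⟨g * s, mul_mem hg hs, ?_⟩
  have : g * s * d * (g * s)⁻¹ = g * (s * d * s⁻¹) * g⁻¹ := by group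
  rwa [this]

theorem GPair.conj_left {s : G} (hs : s ∈ S) (h : GPair p S (s * c * s⁻¹) d) : GPair p S c d := by
  obtain ⟨g, hg, h⟩ := h
  refine ⟨s⁻¹ * g, mul_mem (inv_mem hs) hg, fun h1 => h ?_⟩
  rw [← good_conj_iff s] at h1
  have e : s * (s⁻¹ * g * d * (s⁻¹ * g)⁻¹) * s⁻¹ = g * d * g⁻¹ := by group
  rwa [e] at h1

theorem GPair.symm (h : GPair p S c d) : GPair p S d c := by
  obtain ⟨g, hg, h⟩ := h
  refine ⟨g⁻¹, inv_mem hg, fun h1 => h ?_⟩
  rw [← good_conj_iff g] at h1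
  have e : g * (g⁻¹ * c * g⁻¹⁻¹) * g⁻¹ = c := by group
  rw [e] at h1
  rwa [Set.pair_comm]

/-- The property passes to images under injective homomorphisms. -/
theorem GPair.of_injective (φ : G →* H) (hφ : Function.Injective φ) (h : GPair p S c d) :
    GPair p (S.map φ) (φ c) (φ d) := by
  obtain ⟨g, hg, h⟩ := h
  refine ⟨φ g, Subgroup.mem_map_of_mem φ hg, fun hP => h ?_⟩
  have e : Subgroup.closure ({φ c, φ g * φ d * (φ g)⁻¹} : Set H)
      = (Subgroup.closure ({c, g * d * g⁻¹} : Set G)).map φ := by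
    rw [closure_pair_map]; simp only [_root_.map_mul, _root_.map_inv]
  rw [e] at hP
  have f := Subgroup.equivMapOfInjective (Subgroup.closure ({c, g * d * g⁻¹} : Set G)) φ hφ
  exact ⟨hP.1.of_equiv f.symm, hP.2.of_injective f.toMonoidHom f.injective⟩

/-- conjugates on both sides -/
theorem GPair.of_conj {s t : G} (hs : s ∈ S) (ht : t ∈ S) (h : GPair p S (s * c * s⁻¹) (t * d * t⁻¹)) :
    GPair p S c d := (h.conj_right ht).conj_left hs

/-- **The wreath lemma.** -/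
theorem GPair.of_key [Finite G] {c d : G} (hc : c ^ 3 = 1) {K₁ : Subgroup G} (h1 : c * d * c⁻¹ ∈ K₁)
    (h2 : c⁻¹ * d * c ∈ K₁) (hd : d ∉ K₁) : GPair 3 S c d := by
  refine ⟨1, one_mem _, fun h => hd ?_⟩
  rw [one_mul, inv_one, mul_one] at h
  exact key3 hc h.1 h.2 h1 h2

end basic

/-- The row. -/
def GRow (p : ℕ) (K : Type v) [Group K] : Prop :=
  ∀ c d : MulAut K, orderOf c = p → orderOf d = p → GPair p (MulAut.conj : K →* MulAut K).range c d

theorem GRow.of_wrow {p : ℕ} {K : Type v} [Group K] (h : WRow p K) : GRow p K :=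
  fun c d hc hd => GPair.of_wpair (h c d hc hd)

theorem GRow.congr {p : ℕ} {K : Type u} [Group K] {K' : Type v} [Group K'] (e : K ≃* K') (h : GRow p K) :
    GRow p K' := by
  intro c d hc hd
  let f : MulAut K' ≃* MulAut K := MulAut.congr e.symm
  have hf : ∀ a : MulAut K', orderOf (f a) = orderOf a := fun a => f.orderOf_eq a
  refine GPair.of_hom f.toMonoidHom (T := (MulAut.conj : K →* MulAut K).range) ?_
    (h (f c) (f d) (by rw [hf, hc]) (by rw [hf, hd]))
  rintro _ ⟨k, rfl⟩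
  refine ⟨MulAut.conj (e k), ⟨e k, rfl⟩, ?_⟩
  ext x
  show e.symm (e k * e.symm.symm x * (e k)⁻¹) = k * x * k⁻¹
  rw [map_mul, map_mul, map_inv, e.symm_apply_apply]
  congr 2
  exact e.symm_apply_apply x

/-- **The rows in the automorphism group are sufficient.** -/
theorem WfRow.of_grow {p : ℕ} [Fact p.Prime] {K : Type v} [Group K] (hK : GRow p K) : WfRow.{u, v} p K := by
  rintro G _ _ S C D h ⟨e⟩
  obtain ⟨c, hc⟩ := h.neC
  obtain ⟨d, hd⟩ := h.neD
  have hSn := h.normal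
  have hS : GRow p S := hK.congr e.symm
  let φ : G →* MulAut S := MulAut.conjNormal
  have hφ : Function.Injective φ := by
    rw [injective_iff_map_eq_one]
    intro g hg
    have h1 : g ∈ Subgroup.centralizer (S : Set G) := by
      rw [Subgroup.mem_centralizer_iff]
      intro s hs
      have h2 : (φ g) ⟨s, hs⟩ = ⟨s, hs⟩ := by rw [hg]; rfl
      have h3 : g * s * g⁻¹ = s := by
        have := congrArg Subtype.val h2
        rwa [MulAut.conjNormal_apply] at this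
      calc s * g = (g * s * g⁻¹) * g := by rw [h3]
        _ = g * s := by group
    rwa [h.cent, Subgroup.mem_bot] at h1
  have h1 : GPair p (MulAut.conj : S →* MulAut S).range (φ c) (φ d) := by
    refine hS _ _ ?_ ?_
    · rw [orderOf_injective φ hφ]; exact h.ordC c hc
    · rw [orderOf_injective φ hφ]; exact h.ordD d hd
  obtain ⟨g, -, h2⟩ := h1.of_hom φ (S := S) (by
    rintro _ ⟨s, rfl⟩
    refine ⟨s, s.2, ?_⟩
    ext x
    rw [MulAut.conjNormal_apply, MulAut.conj_apply]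
    rfl)
  exact h2 ⟨h.pair c hc _ (h.conjD g d hd), h.free c hc _ (h.conjD g d hd)⟩

end Cfsg.Agent.H491.Wf.GR
end

-- part: H491/Wf/GKey
section
/-!
# A triple bond in characteristic three: long against short (S3826)

For a root group datum with a triple bond (`G₂(q)`, `³D₄(q)`), `α_i` long, `α_j` short, of odd characteristic:

* `gamma` : `[x⁻¹, v] [x, v]` has a non-trivial component in `X (α_i + 2 α_j)` for `x ∈ X α_j`, `v ∈ X α_i` non-trivial;
* `inner_key` : in characteristic three an element acting non-trivially on a panel of type `i` (long) and on no panel of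
  type `j` and an element acting non-trivially on a panel of type `j` (short) violate the wreath lemma.
-/

set_option autoImplicit false
set_option linter.unusedSectionVars false
set_option maxHeartbeats 400000

namespace Cfsg.Agent.H491.Wf.GKey

open CoxeterSystem Cfsg.Agent.ChevalleyStructure.CoxeterGeom Cfsg.Agent.Tits.Roots Cfsg.Agent.Tits.Core
  Cfsg.Agent.Tits.RootComb Cfsg.Agent.Tits.Exchange Cfsg.Agent.Nodes.Reps Cfsg.Agent.Nodes.BNOf
  Cfsg.Agent.Nodes.StabComb Cfsg.Agent.Nodes.Bruhat Cfsg.Agent.Nodes.OppDec Cfsg.Agent.Nodes.LeviDec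
  Cfsg.Agent.Nodes.Coroot Cfsg.Agent.KFacts.RgdSL Cfsg.Agent.KFacts.RgdBorelTits Cfsg.Agent.KFacts.RgdFilt
  Cfsg.Agent.H533.T5 Cfsg.Agent.H798 Cfsg.Agent.H798.T5Geo Cfsg.Agent.H798.T5Root Cfsg.Agent.H798.T5Bond
  Cfsg.Agent.H798.T5BTwo
  Cfsg.Agent.H798.T5GTwo Cfsg.Agent.H798.T5GThree
open scoped commutatorElement

/-! ### components -/

section Comp

variable {Y : Type*} [Group Y] {K L : Subgroup Y}

theorem CPair.zpow (P : CPair K L) {x r : Y} (hx : Cp K L x r) (a : ℤ) : Cp K L (x ^ a) (r ^ a) := by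
  have key : ∀ n : ℕ, Cp K L (x ^ n) (r ^ n) := by
    intro n
    induction n with
    | zero => rw [pow_zero, pow_zero]; exact Cp.of_K (one_mem _)
    | succ n ih => rw [pow_succ, pow_succ]; exact P.mul ih hx
  cases a with
  | ofNat n => rw [Int.ofNat_eq_natCast, zpow_natCast, zpow_natCast]; exact key n
  | negSucc n => rw [zpow_negSucc, zpow_negSucc]; exact P.inv (key _)

/-- commutators with a join -/
theorem comm_sup {A B N : Subgroup Y} {g : Y} (hNA : ∀ a ∈ A, ∀ x ∈ N, a * x * a⁻¹ ∈ N)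
    (hNB : ∀ a ∈ B, ∀ x ∈ N, a * x * a⁻¹ ∈ N) (hA : ∀ a ∈ A, ⁅g, a⁆ ∈ N) (hB : ∀ b ∈ B, ⁅g, b⁆ ∈ N) :
    ∀ x ∈ A ⊔ B, ⁅g, x⁆ ∈ N := by
  have hmul : ∀ a b : Y, (∀ x ∈ N, a * x * a⁻¹ ∈ N) → ⁅g, a⁆ ∈ N → ⁅g, b⁆ ∈ N → ⁅g, a * b⁆ ∈ N := by
    intro a b h1 h2 h3
    have e : ⁅g, a * b⁆ = ⁅g, a⁆ * (a * ⁅g, b⁆ * a⁻¹) := by simp only [commutatorElement_def]; group
    rw [e]
    exact mul_mem h2 (h1 _ h3)
  have key : ∀ x ∈ A ⊔ B, (∀ y ∈ N, x * y * x⁻¹ ∈ N) ∧ (∀ y ∈ N, x⁻¹ * y * x⁻¹⁻¹ ∈ N) ∧ ⁅g, x⁆ ∈ N := by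
    intro x hx
    rw [Subgroup.sup_eq_closure] at hx
    induction hx using Subgroup.closure_induction with
    | mem x hx =>
      rcases hx with hx | hx
      · exact ⟨hNA x hx, hNA x⁻¹ (inv_mem hx), hA x hx⟩
      · exact ⟨hNB x hx, hNB x⁻¹ (inv_mem hx), hB x hx⟩
    | one =>
      refine ⟨fun y hy => by rwa [one_mul, inv_one, mul_one], fun y hy => by rwa [inv_one, one_mul, inv_one, mul_one],
        ?_⟩
      rw [commutatorElement_one_right]; exact one_mem _
    | mul x y _ _ hx hy =>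
      refine ⟨fun z hz => ?_, fun z hz => ?_, hmul x y hx.1 hx.2.2 hy.2.2⟩
      · have e : x * y * z * (x * y)⁻¹ = x * (y * z * y⁻¹) * x⁻¹ := by group
        rw [e]; exact hx.1 _ (hy.1 _ hz)
      · have e : (x * y)⁻¹ * z * (x * y)⁻¹⁻¹ = y⁻¹ * (x⁻¹ * z * x⁻¹⁻¹) * y⁻¹⁻¹ := by group
        rw [e]; exact hy.2.1 _ (hx.2.1 _ hz)
    | inv x _ hx =>
      refine ⟨hx.2.1, fun z hz => by rw [inv_inv]; exact hx.1 z hz, ?_⟩
      have e : ⁅g, x⁻¹⁆ = x⁻¹ * ⁅g, x⁆⁻¹ * x⁻¹⁻¹ := by simp only [commutatorElement_def]; group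
      rw [e]
      exact hx.2.1 _ (inv_mem hx.2.2)
  exact fun x hx => (key x hx).2.2

end Comp

variable {I W Y : Type*} [Fintype I] [DecidableEq I] [Group W] [Group Y] {M : CoxeterMatrix I}
  {cs : CoxeterSystem M W} {A : I → I → ℤ} {h : IsCartan M A} {p : ℕ} {T : Subgroup Y} {n : I → Y}
  {X : (I → ℤ) → Subgroup Y} {i j : I}

attribute [local irreducible] T5Root.rt

local notation "V0" => X (T5Root.rt i j 1 0)
local notation "V1" => X (T5Root.rt i j 1 1)
local notation "V2" => X (T5Root.rt i j 1 2)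
local notation "V3" => X (T5Root.rt i j 1 3)
local notation "ZZ" => X (T5Root.rt i j 2 3)
local notation "GG1" => X (T5Root.rt i j 0 1)
local notation "GM" => X (T5Root.rt i j 0 (-1))
local notation "AM" => X (T5Root.rt i j (-1) 0)
local notation "NN2" => (X (T5Root.rt i j 1 2) ⊔ X (T5Root.rt i j 1 3) ⊔ X (T5Root.rt i j 2 3))
local notation "NN3" => (X (T5Root.rt i j 1 3) ⊔ X (T5Root.rt i j 2 3))
local notation "NN1" => (X (T5Root.rt i j 1 1) ⊔ (X (T5Root.rt i j 1 2) ⊔ X (T5Root.rt i j 1 3) ⊔ X (T5Root.rt i j 2 3)))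
local notation "AA" => (X (T5Root.rt i j 1 0) ⊔ (X (T5Root.rt i j 1 1) ⊔ (X (T5Root.rt i j 1 2) ⊔ X (T5Root.rt i j 1 3) ⊔ X (T5Root.rt i j 2 3))))

section NormD

variable (D : G2 cs h X i j)

include D

theorem le32 : NN3 ≤ NN2 := sup_le (le_trans le_sup_right le_sup_left) le_sup_right

theorem le21 : NN2 ≤ NN1 := le_sup_right

/-! ### normalisers of `NN3` -/

theorem n0_N3 {g : Y} (hg : g ∈ V0) : ∀ x ∈ NN3, g * x * g⁻¹ ∈ NN3 :=
  conj_sup (fun _ hx => conj_of_comm (Subgroup.mem_sup_right (D.k10_13 hg hx)) (Subgroup.mem_sup_left hx))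
    (fun _ hx => conj_of_commute (D.c10_23 hg hx) (Subgroup.mem_sup_right hx))

theorem n1_N3 {g : Y} (hg : g ∈ V1) : ∀ x ∈ NN3, g * x * g⁻¹ ∈ NN3 :=
  conj_sup (fun _ hx => conj_of_commute (D.c11_13 hg hx) (Subgroup.mem_sup_left hx))
    (fun _ hx => conj_of_commute (D.c11_23 hg hx) (Subgroup.mem_sup_right hx))

theorem n2_N3 {g : Y} (hg : g ∈ V2) : ∀ x ∈ NN3, g * x * g⁻¹ ∈ NN3 :=
  conj_sup (fun _ hx => conj_of_commute (D.c12_13 hg hx) (Subgroup.mem_sup_left hx))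
    (fun _ hx => conj_of_commute (D.c12_23 hg hx) (Subgroup.mem_sup_right hx))

theorem n3_N3 {g : Y} (hg : g ∈ NN3) : ∀ x ∈ NN3, g * x * g⁻¹ ∈ NN3 :=
  fun _ hx => mul_mem (mul_mem hg hx) (inv_mem hg)

theorem ng_N3 {g : Y} (hg : g ∈ GG1) : ∀ x ∈ NN3, g * x * g⁻¹ ∈ NN3 :=
  conj_sup (fun _ hx => conj_of_commute (D.c01_13 hg hx) (Subgroup.mem_sup_left hx))
    (fun _ hx => conj_of_commute (D.c01_23 hg hx) (Subgroup.mem_sup_right hx))

/-- conjugation by a join -/
theorem conj_join {A B N : Subgroup Y} (hA : ∀ g ∈ A, ∀ x ∈ N, g * x * g⁻¹ ∈ N)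
    (hB : ∀ g ∈ B, ∀ x ∈ N, g * x * g⁻¹ ∈ N) : ∀ g ∈ A ⊔ B, ∀ x ∈ N, g * x * g⁻¹ ∈ N := by
  have key : ∀ g ∈ A ⊔ B, (∀ y ∈ N, g * y * g⁻¹ ∈ N) ∧ (∀ y ∈ N, g⁻¹ * y * g⁻¹⁻¹ ∈ N) := by
    intro x hx
    rw [Subgroup.sup_eq_closure] at hx
    induction hx using Subgroup.closure_induction with
    | mem x hx =>
      rcases hx with hx | hx
      · exact ⟨hA x hx, hA x⁻¹ (inv_mem hx)⟩
      · exact ⟨hB x hx, hB x⁻¹ (inv_mem hx)⟩
    | one =>
      exact ⟨fun y hy => by rwa [one_mul, inv_one, mul_one], fun y hy => by rwa [inv_one, one_mul, inv_one, mul_one]⟩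
    | mul x y _ _ hx hy =>
      refine ⟨fun z hz => ?_, fun z hz => ?_⟩
      · have e : x * y * z * (x * y)⁻¹ = x * (y * z * y⁻¹) * x⁻¹ := by group
        rw [e]; exact hx.1 _ (hy.1 _ hz)
      · have e : (x * y)⁻¹ * z * (x * y)⁻¹⁻¹ = y⁻¹ * (x⁻¹ * z * x⁻¹⁻¹) * y⁻¹⁻¹ := by group
        rw [e]; exact hy.2 _ (hx.2 _ hz)
    | inv x _ hx => exact ⟨hx.2, fun z hz => by rw [inv_inv]; exact hx.1 z hz⟩
  exact fun g hg => (key g hg).1

theorem nA_N3 : ∀ g ∈ AA, ∀ x ∈ NN3, g * x * g⁻¹ ∈ NN3 :=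
  conj_join D (fun _ hg => n0_N3 D hg) (conj_join D (fun _ hg => n1_N3 D hg) (by
    rw [sup_assoc]
    exact conj_join D (fun _ hg => n2_N3 D hg) (fun _ hg => n3_N3 D hg)))

theorem nA_ZZ : ∀ g ∈ AA, ∀ x ∈ ZZ, g * x * g⁻¹ ∈ ZZ := by
  refine conj_join D (fun g hg x hx => conj_of_commute (D.c10_23 hg hx) hx) (conj_join D
    (fun g hg x hx => conj_of_commute (D.c11_23 hg hx) hx) (conj_join D (conj_join D
    (fun g hg x hx => conj_of_commute (D.c12_23 hg hx) hx) (fun g hg x hx => conj_of_commute (D.c13_23 hg hx) hx))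
    (fun g hg x hx => mul_mem (mul_mem hg hx) (inv_mem hg))))

theorem nA_N2 : ∀ g ∈ AA, ∀ x ∈ NN2, g * x * g⁻¹ ∈ NN2 :=
  conj_join D (fun _ hg => n10_N2 D hg) (conj_join D (fun _ hg => n11_N2 D hg)
    (fun _ hg _ hx => mul_mem (mul_mem hg hx) (inv_mem hg)))

/-- commutators in `AA` -/
theorem comm_AA (hab : ∀ z, IsRoot cs h z → ∀ a ∈ X z, ∀ b ∈ X z, a * b = b * a) {a b : Y} (ha : a ∈ AA)
    (hb : b ∈ AA) : ⁅a, b⁆ ∈ ZZ := by
  have z1 : ∀ {x y : Y}, x * y = y * x → ⁅x, y⁆ ∈ ZZ := fun {x y} hxy => by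
    rw [commutatorElement_eq_one_iff_mul_comm.2 hxy]; exact one_mem _
  have nZ := nA_ZZ D
  have m0 : V0 ≤ AA := le_sup_left
  have m1 : V1 ≤ AA := le_trans le_sup_left le_sup_right
  have m2 : V2 ≤ AA := le_trans (le_trans (le_trans le_sup_left le_sup_left) le_sup_right) le_sup_right
  have m3 : V3 ≤ AA := le_trans (le_trans (le_trans le_sup_right le_sup_left) le_sup_right) le_sup_right
  have mZ : ZZ ≤ AA := le_trans (le_trans le_sup_right le_sup_right) le_sup_right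
  -- it suffices to check on the root groups
  have key : ∀ {g : Y}, (∀ b ∈ V0, ⁅g, b⁆ ∈ ZZ) → (∀ b ∈ V1, ⁅g, b⁆ ∈ ZZ) → (∀ b ∈ V2, ⁅g, b⁆ ∈ ZZ) →
      (∀ b ∈ V3, ⁅g, b⁆ ∈ ZZ) → (∀ b ∈ ZZ, ⁅g, b⁆ ∈ ZZ) → ∀ b ∈ AA, ⁅g, b⁆ ∈ ZZ := by
    intro g h0 h1 h2 h3 hz
    refine comm_sup (fun a ha => nZ a (m0 ha)) (fun a ha => nZ a ((le_sup_right : _ ≤ AA) ha)) h0 ?_
    refine comm_sup (fun a ha => nZ a (m1 ha)) (fun a ha => nZ a ((le_trans le_sup_right le_sup_right : _ ≤ AA) ha))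
      h1 ?_
    refine comm_sup (fun a ha => nZ a ((sup_le m2 m3 : V2 ⊔ V3 ≤ AA) ha)) (fun a ha => nZ a (mZ ha)) ?_ hz
    exact comm_sup (fun a ha => nZ a (m2 ha)) (fun a ha => nZ a (m3 ha)) h2 h3
  have zz : ∀ {g : Y}, g ∈ AA → ∀ b ∈ ZZ, ⁅g, b⁆ ∈ ZZ := fun {g} hg b hb => by
    rw [commutatorElement_def]
    exact mul_mem (nZ g hg b hb) (inv_mem hb)
  have k0 : ∀ g ∈ V0, ∀ b ∈ AA, ⁅g, b⁆ ∈ ZZ := fun g hg => key (fun b hb => z1 (hab _ D.r10 _ hg _ hb))
    (fun b hb => z1 (D.c10_11 hg hb)) (fun b hb => z1 (D.c10_12 hg hb)) (fun b hb => D.k10_13 hg hb)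
    (zz (m0 hg))
  have k1 : ∀ g ∈ V1, ∀ b ∈ AA, ⁅g, b⁆ ∈ ZZ := fun g hg => key (fun b hb => z1 (D.c10_11 hb hg).symm)
    (fun b hb => z1 (hab _ D.r11 _ hg _ hb)) (fun b hb => D.k11_12 hg hb) (fun b hb => z1 (D.c11_13 hg hb))
    (zz (m1 hg))
  have k2 : ∀ g ∈ V2, ∀ b ∈ AA, ⁅g, b⁆ ∈ ZZ := fun g hg => key (fun b hb => z1 (D.c10_12 hb hg).symm)
    (fun b hb => comm_swap (D.k11_12 hb hg)) (fun b hb => z1 (hab _ D.r12 _ hg _ hb))
    (fun b hb => z1 (D.c12_13 hg hb)) (zz (m2 hg))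
  have k3 : ∀ g ∈ V3, ∀ b ∈ AA, ⁅g, b⁆ ∈ ZZ := fun g hg => key (fun b hb => comm_swap (D.k10_13 hb hg))
    (fun b hb => z1 (D.c11_13 hb hg).symm) (fun b hb => z1 (D.c12_13 hb hg).symm)
    (fun b hb => z1 (hab _ D.r13 _ hg _ hb)) (zz (m3 hg))
  exact key (fun a ha => comm_swap (k0 a ha b hb)) (fun a ha => comm_swap (k1 a ha b hb))
    (fun a ha => comm_swap (k2 a ha b hb)) (fun a ha => comm_swap (k3 a ha b hb)) (zz hb) a ha |> comm_swap

end NormD

section Tor

variable [Finite W] (R : RGD cs h p T n X) (D : G2 cs h X i j)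

include R D

theorem V_01 {u : Y} (h1 : u ∈ V0) (h2 : u ∈ NN1) : u = 1 := by
  refine sep R D.ne 0 1 1 0 (K := NN1) (L := V0) ?_ ?_ h2 h1
  · refine ⟨{(1, 1), (1, 2), (1, 3), (2, 3)}, ?_, ?_⟩
    · rintro x (rfl | rfl | rfl | rfl)
      · exact ⟨D.r11, by norm_num⟩
      · exact ⟨D.r12, by norm_num⟩
      · exact ⟨D.r13, by norm_num⟩
      · exact ⟨D.r23, by norm_num⟩
    · have hle := le_iSup (fun x : ({(1, 1), (1, 2), (1, 3), (2, 3)} : Set (ℤ × ℤ)) => X (T5Root.rt i j x.1.1 x.1.2))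
      exact sup_le (hle ⟨(1, 1), by simp⟩) (sup_le (sup_le (hle ⟨(1, 2), by simp⟩) (hle ⟨(1, 3), by simp⟩))
        (hle ⟨(2, 3), by simp⟩))
  · refine ⟨{(1, 0)}, ?_, ?_⟩
    · rintro x rfl
      exact ⟨D.r10, by norm_num, by norm_num⟩
    · exact le_iSup (fun x : ({(1, 0)} : Set (ℤ × ℤ)) => X (T5Root.rt i j x.1.1 x.1.2)) ⟨(1, 0), by simp⟩

theorem V_23 {u : Y} (h1 : u ∈ V2) (h2 : u ∈ NN3) : u = 1 := by
  obtain ⟨s, hs, z, hz, e⟩ := split_comm (fun x hx y hy => D.c13_23 hx hy) h2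
  have hs1 : s = 1 := V_K3 R D hs (by
    have e1 : s = u * z⁻¹ := by rw [e]; group
    rw [e1]
    exact mul_mem (Subgroup.mem_sup_left (Subgroup.mem_sup_right h1)) (Subgroup.mem_sup_right (inv_mem hz)))
  rw [hs1, one_mul] at e
  exact V_2 R D h1 (Subgroup.mem_sup_right (e ▸ hz))

theorem pN1 : CPair NN1 V0 := by
  refine ⟨fun r hr => conj_sup (fun x hx => ?_) (fun x hx => Subgroup.mem_sup_right (n10_N2 D hr x hx)),
    fun _ h1 h2 => V_01 R D h1 h2⟩
  exact conj_of_commute (D.c10_11 hr hx) (Subgroup.mem_sup_left hx)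

theorem pN3 : CPair NN3 V2 := ⟨fun _ hr k hk => n2_N3 D hr k hk, fun _ h1 h2 => V_23 R D h1 h2⟩

/-- the torus element -/
theorem exists_k [Fact p.Prime] {v : Y} (hv : v ∈ V0) (hv1 : v ≠ 1) : ∃ k ∈ T, (∀ x ∈ GG1, k * x * k⁻¹ = x⁻¹) ∧
    (∀ x ∈ V1, k * x * k⁻¹ = x⁻¹) ∧ (∀ x ∈ V2, k * x * k⁻¹ = x) ∧ k * v * k⁻¹ = v := by
  obtain ⟨a, ha, b, hb, m, hm, hme⟩ := mu_i (j := j) R hv hv1
  have i1 : ∀ x ∈ GG1, m * m * x * (m * m)⁻¹ = x⁻¹ := by
    intro x hx
    have h1 := E_mu R D hv hx ha hb hm hme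
    have h2 := E_mu (m := m⁻¹) R D (inv_mem hv) hx (inv_mem hb) (inv_mem ha) (minv R hm) (by rw [hme]; group)
    have h3 := E_mul_left R D (inv_mem hv) h2 h1
    rw [inv_mul_cancel, commutatorElement_one_left, inv_inv] at h3
    have h4 := (pN2 R D).uniq h3 (Cp.of_K (one_mem _))
    have h5 : m * x * m⁻¹ = (m⁻¹ * x * m)⁻¹ := eq_inv_of_mul_eq_one_left h4
    calc m * m * x * (m * m)⁻¹ = m * (m * x * m⁻¹) * m⁻¹ := by group
      _ = x⁻¹ := by rw [h5]; group
  have i2 : ∀ x ∈ V1, m * m * x * (m * m)⁻¹ = x⁻¹ := by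
    intro x hx
    have h1 := i1 _ (i11 R D hm hx)
    calc m * m * x * (m * m)⁻¹ = m⁻¹ * (m * m * (m * x * m⁻¹) * (m * m)⁻¹) * m := by group
      _ = x⁻¹ := by rw [h1]; group
  have i3 : ∀ x ∈ V2, m * x = x * m := by
    intro x hx
    calc m * x = a * v * (b * x) := by rw [hme]; group
      _ = a * (v * x) * b := by rw [D.cn_12 hb hx]; group
      _ = a * x * v * b := by rw [D.c10_12 hv hx]; group
      _ = x * m := by rw [D.cn_12 ha hx, hme]; group
  refine ⟨m * m, mmT R hm, i1, i2, fun x hx => ?_, ?_⟩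
  · calc m * m * x * (m * m)⁻¹ = m * (m * x) * (m * m)⁻¹ := by group
      _ = m * (x * m) * (m * m)⁻¹ := by rw [i3 x hx]
      _ = m * x * m⁻¹ := by group
      _ = x := by rw [i3 x hx]; group
  · -- the action on `V0`
    by_contra hne
    set k := m * m with hk
    have hkT : k ∈ T := mmT R hm
    set v' := k * v * k⁻¹ with hv'
    have hv'0 : v' ∈ V0 := tor R hkT D.r10 hv
    have hu1 : v' * v⁻¹ ≠ 1 := fun h1 => hne (mul_inv_eq_one.1 h1)
    obtain ⟨a3, ha3, b3, hb3, m3, hm3, hme3⟩ := mu_i (j := j) R (mul_mem hv'0 (inv_mem hv)) hu1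
    obtain ⟨x, hx', hx1⟩ := exists_ne_one R j
    have hx : x ∈ GG1 := by rwa [rt_zero_one]
    have e1 := E_mu R D (mul_mem hv'0 (inv_mem hv)) hx ha3 hb3 hm3 hme3
    have e2 : Cp NN2 V1 ⁅v', x⁆ (m * x * m⁻¹) := by
      have h1 := E_mu R D hv (inv_mem hx) ha hb hm hme
      have h2 := h1.conj (g := k) (conj_sup (K := NN2) (conj_sup
        (fun x hx => Subgroup.mem_sup_left (Subgroup.mem_sup_left (tor R hkT D.r12 hx)))
        (fun x hx => Subgroup.mem_sup_left (Subgroup.mem_sup_right (tor R hkT D.r13 hx))))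
        (fun x hx => Subgroup.mem_sup_right (tor R hkT D.r23 hx))) (fun r hr => tor R hkT D.r11 hr)
      have e3 : k * ⁅v, x⁻¹⁆ * k⁻¹ = ⁅v', x⁆ := by
        have h4 := i1 x⁻¹ (inv_mem hx)
        rw [inv_inv] at h4
        calc k * ⁅v, x⁻¹⁆ * k⁻¹ = ⁅k * v * k⁻¹, k * x⁻¹ * k⁻¹⁆ := by simp only [commutatorElement_def]; group
          _ = _ := by rw [h4]
      have e4 : k * (m * x⁻¹ * m⁻¹) * k⁻¹ = m * x * m⁻¹ := by
        have h4 := i1 x⁻¹ (inv_mem hx)
        rw [inv_inv] at h4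
        calc k * (m * x⁻¹ * m⁻¹) * k⁻¹ = m * (m * m * x⁻¹ * (m * m)⁻¹) * m⁻¹ := by rw [hk]; group
          _ = _ := by rw [h4]
      rwa [e3, e4] at h2
    have e3 := E_mu R D hv hx ha hb hm hme
    obtain ⟨b2, hb2⟩ := E_ex R D (inv_mem hv) hx
    have e4 := E_mul_left R D (inv_mem hv) hb2 e3
    rw [inv_mul_cancel, commutatorElement_one_left] at e4
    have e5 : (m * x * m⁻¹) * b2 = 1 := (pN2 R D).uniq e4 (Cp.of_K (one_mem _))
    have e6 := E_mul_left R D hv'0 e2 hb2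
    have e7 := (pN2 R D).uniq e1 e6
    rw [eq_inv_of_mul_eq_one_left e5, mul_inv_cancel] at e7
    apply hx1
    calc x = m3⁻¹ * (m3 * x * m3⁻¹) * m3 := by group
      _ = 1 := by rw [e7]; group

/-- an element of `V1` is not in `V0 ⊔ NN2` -/
theorem V_1_02 {b : Y} (hb : b ∈ V1) (h1 : b ∈ V0 ⊔ NN2) : b = 1 := by
  have hP : CPair NN2 V0 := ⟨fun _ hr k hk => n10_N2 D hr k hk, fun _ h1 h2 => V_01 R D h1 (le21 D h2)⟩
  rw [sup_comm] at h1
  obtain ⟨r, hr, hk⟩ := hP.ex h1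
  have hr1 : r = 1 := by
    refine V_01 R D hr ?_
    have e : r = (b * r⁻¹)⁻¹ * b := by group
    rw [e]
    exact mul_mem (inv_mem (le21 D hk)) (Subgroup.mem_sup_left hb)
  rw [hr1, inv_one, mul_one] at hk
  exact V_N2 R D hb hk

/-- `[x, v]` has a non-trivial component in `V1` -/
theorem comp_ne [Fact p.Prime] {v : Y} (hv : v ∈ V0) (hv1 : v ≠ 1) :
    ∃ m, Rp cs R.nsys (cs.simple i) m ∧ ∀ x ∈ GG1, Cp NN2 V1 ⁅x, v⁆ (m * x⁻¹ * m⁻¹) := by
  obtain ⟨a, ha, b, hb, m, hm, hme⟩ := mu_i (j := j) R hv hv1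
  refine ⟨m, hm, fun x hx => ?_⟩
  have h1 := (pN2 R D).inv (E_mu R D hv hx ha hb hm hme)
  rw [commutatorElement_inv] at h1
  have e : (m * x * m⁻¹)⁻¹ = m * x⁻¹ * m⁻¹ := by group
  rwa [e] at h1

theorem jm {m v : Y} (hm : Rp cs R.nsys (cs.simple j) m) (hv : v ∈ GM) : m * v * m⁻¹ ∈ GG1 := by
  have := R.conj_mem hm D.rm hv
  rw [rep_right, D.a2] at this
  simpa only [_root_.Int.reduceNeg, _root_.neg_neg, _root_.MulZeroClass.mul_zero, _root_.sub_zero] using this

theorem jg {m v : Y} (hm : Rp cs R.nsys (cs.simple j) m) (hv : v ∈ GG1) : m * v * m⁻¹ ∈ GM := by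
  have := R.conj_mem hm D.r01 hv
  rw [rep_right, D.a2] at this
  simpa only [_root_.Int.reduceNeg, _root_.MulZeroClass.mul_zero, _root_.sub_zero] using this

/-- an element over `s_j` is not in `X α_j` -/
theorem not_mem_GG1 {m : Y} (hm : Rp cs R.nsys (cs.simple j) m) (h1 : m ∈ GG1) : False := by
  obtain ⟨x, hx', hx1⟩ := exists_ne_one R j
  have hx : x ∈ GG1 := by rwa [rt_zero_one]
  have h2 : m * x * m⁻¹ ∈ GM := jg R D hm hx
  have h3 : m * x * m⁻¹ ∈ GG1 := mul_mem (mul_mem h1 hx) (inv_mem h1)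
  rw [rt_zero_one] at h3
  rw [← neg_j (i := i)] at h2
  have h4 := X_inf_opp R h2 (RGD.X_le_B (isRoot_sr cs h j) (sr_nonneg j) h3)
  apply hx1
  calc x = m⁻¹ * (m * x * m⁻¹) * m := by group
    _ = 1 := by rw [h4]; group

/-- **The second component.** -/
theorem gamma [Fact p.Prime] (hp : p ≠ 2) {x v : Y} (hx : x ∈ GG1) (hx1 : x ≠ 1) (hv : v ∈ V0) (hv1 : v ≠ 1) :
    ⁅x⁻¹, v⁆ * ⁅x, v⁆ ∉ NN3 := by
  intro hcon
  obtain ⟨k, hkT, k1, k2, k3, k4⟩ := exists_k R D hv hv1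
  have hw : ⁅x, v⁆ ∈ V1 ⊔ NN2 := D.k01_10 hx hv
  rw [sup_comm] at hw
  obtain ⟨b, hb, ht⟩ := (pN2 R D).ex hw
  have ht' := ht
  rw [sup_assoc, sup_comm] at ht'
  obtain ⟨t, ht2, hn⟩ := (pN3 R D).ex ht'
  set n1 := ⁅x, v⁆ * b⁻¹ * t⁻¹ with hn1
  have ew : ⁅x, v⁆ = n1 * t * b := by rw [hn1]; group
  have ew' : ⁅x⁻¹, v⁆ = (k * n1 * k⁻¹) * t * b⁻¹ := by
    calc ⁅x⁻¹, v⁆ = ⁅k * x * k⁻¹, k * v * k⁻¹⁆ := by rw [k1 x hx, k4]
      _ = k * ⁅x, v⁆ * k⁻¹ := by simp only [commutatorElement_def]; group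
      _ = (k * n1 * k⁻¹) * (k * t * k⁻¹) * (k * b * k⁻¹) := by rw [ew]; group
      _ = _ := by rw [k3 t ht2, k2 b hb]
  have hkn : k * n1 * k⁻¹ ∈ NN3 := conj_sup (K := NN3) (fun x hx => Subgroup.mem_sup_left (tor R hkT D.r13 hx))
    (fun x hx => Subgroup.mem_sup_right (tor R hkT D.r23 hx)) n1 hn
  have ht1 : t = 1 := by
    refine eq_one_of_sq hp (R.pgrp' D.r12) ht2 (V_23 R D (mul_mem ht2 ht2) ?_)
    -- `t t` modulo `NN3`
    have h1 : t * (b⁻¹ * n1 * b⁻¹⁻¹) * (⁅b⁻¹, t⁆) * t ∈ NN3 := by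
      have e : t * (b⁻¹ * n1 * b⁻¹⁻¹) * (⁅b⁻¹, t⁆) * t = (k * n1 * k⁻¹)⁻¹ * (⁅x⁻¹, v⁆ * ⁅x, v⁆) := by
        rw [ew', ew]; simp only [commutatorElement_def]; group
      rw [e]
      exact mul_mem (inv_mem hkn) hcon
    have h2 : (b⁻¹ * n1 * b⁻¹⁻¹) * ⁅b⁻¹, t⁆ ∈ NN3 :=
      mul_mem (n1_N3 D (inv_mem hb) _ hn) (Subgroup.mem_sup_right (D.k11_12 (inv_mem hb) ht2))
    have h3 := n2_N3 D (inv_mem ht2) _ h1
    have h4 : t⁻¹ * (t * (b⁻¹ * n1 * b⁻¹⁻¹) * ⁅b⁻¹, t⁆ * t) * t⁻¹⁻¹ = ((b⁻¹ * n1 * b⁻¹⁻¹) * ⁅b⁻¹, t⁆) * (t * t) := by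
      group
    rw [h4] at h3
    exact (mul_mem_cancel_left h2).1 h3
  rw [ht1, mul_one] at ew
  -- the other side of the rank one group
  obtain ⟨a, ha, a', ha', m1, hm1, hme1⟩ := mu_j (i := i) R hx hx1
  set x2 := m1⁻¹ * a⁻¹ * m1 with hx2
  have hx2G : x2 ∈ GG1 := by
    have := jm R D (minv R hm1) (inv_mem ha)
    rwa [inv_inv] at this
  have hx21 : x2 ≠ 1 := by
    intro h1
    have ha1 : a = 1 := by
      have : a = (m1 * x2 * m1⁻¹)⁻¹ := by rw [hx2]; group
      rw [this, h1]; group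
    rw [ha1, one_mul] at hme1
    apply not_mem_GG1 R D hm1
    have h2 := jm R D hm1 (inv_mem ha')
    have e : m1 = (m1 * a'⁻¹ * m1⁻¹)⁻¹ * x := by
      have : m1 * a'⁻¹ = x := by rw [hme1]; group
      rw [this]; group
    rw [e]
    exact mul_mem (inv_mem h2) hx
  have e1 : a' * v * a'⁻¹ = v := by rw [D.cm_10 ha' hv]; group
  have e2 : x * v * x⁻¹ = m1 * (x2 * v * x2⁻¹) * m1⁻¹ := by
    have h1 : m1 * v * m1⁻¹ = a * (x * v * x⁻¹) * a⁻¹ := by
      calc m1 * v * m1⁻¹ = a * (x * (a' * v * a'⁻¹) * x⁻¹) * a⁻¹ := by rw [hme1]; group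
        _ = _ := by rw [e1]
    calc x * v * x⁻¹ = a⁻¹ * (a * (x * v * x⁻¹) * a⁻¹) * a := by group
      _ = a⁻¹ * (m1 * v * m1⁻¹) * a := by rw [h1]
      _ = _ := by rw [hx2]; group
  obtain ⟨m, hm, hcp⟩ := comp_ne R D hv hv1
  have h3 := hcp x2 hx2G
  set b2 := m * x2⁻¹ * m⁻¹ with hb2
  have hb21 : b2 = 1 := by
    refine V_1_02 R D h3.1 ?_
    -- `[x2, v] v = m1⁻¹ (n1 b v) m1`
    have e3 : b2 = (⁅x2, v⁆ * b2⁻¹)⁻¹ * (m1⁻¹ * n1 * m1⁻¹⁻¹ * (m1⁻¹ * b * m1⁻¹⁻¹) * (m1⁻¹ * v * m1⁻¹⁻¹)) * v⁻¹ := by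
      have e4 : m1⁻¹ * n1 * m1⁻¹⁻¹ * (m1⁻¹ * b * m1⁻¹⁻¹) * (m1⁻¹ * v * m1⁻¹⁻¹) = ⁅x2, v⁆ * v := by
        calc m1⁻¹ * n1 * m1⁻¹⁻¹ * (m1⁻¹ * b * m1⁻¹⁻¹) * (m1⁻¹ * v * m1⁻¹⁻¹) = m1⁻¹ * (n1 * b * v) * m1 := by group
          _ = m1⁻¹ * (⁅x, v⁆ * v) * m1 := by rw [ew]
          _ = m1⁻¹ * (x * v * x⁻¹) * m1 := by simp only [commutatorElement_def]; group
          _ = x2 * v * x2⁻¹ := by rw [e2]; group
          _ = _ := by simp only [commutatorElement_def]; group
      rw [e4]; group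
    rw [e3]
    have q1 : m1⁻¹ * n1 * m1⁻¹⁻¹ ∈ V0 ⊔ NN2 := conj_sup (K := V0 ⊔ NN2)
      (fun x hx => Subgroup.mem_sup_left (j13 R D (minv R hm1) hx))
      (fun x hx => Subgroup.mem_sup_right (Subgroup.mem_sup_right (j23 R D (minv R hm1) hx))) n1 hn
    have q2 : m1⁻¹ * b * m1⁻¹⁻¹ ∈ V0 ⊔ NN2 := Subgroup.mem_sup_right (Subgroup.mem_sup_left
      (Subgroup.mem_sup_left (j11 R D (minv R hm1) hb)))
    have q3 : m1⁻¹ * v * m1⁻¹⁻¹ ∈ V0 ⊔ NN2 := Subgroup.mem_sup_right (Subgroup.mem_sup_left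
      (Subgroup.mem_sup_right (j10 R D (minv R hm1) hv)))
    exact mul_mem (mul_mem (inv_mem (Subgroup.mem_sup_right h3.2)) (mul_mem (mul_mem q1 q2) q3))
      (inv_mem (Subgroup.mem_sup_left hv))
  apply hx21
  calc x2 = (m⁻¹ * (m * x2⁻¹ * m⁻¹) * m)⁻¹ := by group
    _ = 1 := by rw [← hb2, hb21]; group

/-- **The first component is arbitrary** up to conjugation by `X α_j`. -/
theorem exists_conj [Fact p.Prime] {d v b : Y} (hd : Cp NN1 V0 d v) (hv1 : v ≠ 1) (hb : b ∈ V1) :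
    ∃ r ∈ GG1, ∃ t ∈ NN2, r * d * r⁻¹ = t * b * v := by
  obtain ⟨m, hm, hcp⟩ := comp_ne R D hd.1 hv1
  have hk := hd.2
  rw [sup_comm] at hk
  obtain ⟨c, hc⟩ := (pN2 R D).ex hk
  have hr : m⁻¹ * (c⁻¹ * b) * m⁻¹⁻¹ ∈ GG1 := i11 R D (minv R hm) (mul_mem (inv_mem hc.1) hb)
  set r := (m⁻¹ * (c⁻¹ * b) * m⁻¹⁻¹)⁻¹ with hrdef
  have hr' : r ∈ GG1 := inv_mem hr
  have h1 : Cp NN2 V1 (r * (d * v⁻¹) * r⁻¹) c := hc.conj' (n01_N2 D hr') fun k hk => D.k01_11 hr' hk
  have h2 := (pN2 R D).mul h1 (hcp r hr')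
  have e1 : c * (m * r⁻¹ * m⁻¹) = b := by rw [hrdef]; group
  have e2 : r * (d * v⁻¹) * r⁻¹ * ⁅r, v⁆ = r * d * r⁻¹ * v⁻¹ := by simp only [commutatorElement_def]; group
  rw [e1, e2] at h2
  refine ⟨r, hr', r * d * r⁻¹ * v⁻¹ * b⁻¹, h2.2, by group⟩

end Tor

section Core

variable [Finite W] (D : G2 cs h X i j)

include D

omit [Finite W] in
theorem ng_N1 {g : Y} (hg : g ∈ GG1) : ∀ x ∈ NN1, g * x * g⁻¹ ∈ NN1 :=
  conj_sup (fun _ hx => conj_of_comm (le21 D (D.k01_11 hg hx)) (Subgroup.mem_sup_left hx))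
    (fun x hx => le21 D (n01_N2 D hg x hx))

omit [Finite W] in
theorem cg_N2 {g : Y} (hg : g ∈ GG1) : ∀ x ∈ NN2, ⁅g, x⁆ ∈ NN3 := by
  have z1 : ∀ {x y : Y}, x * y = y * x → ⁅x, y⁆ ∈ NN3 := fun {x y} hxy => by
    rw [commutatorElement_eq_one_iff_mul_comm.2 hxy]; exact one_mem _
  refine comm_sup (fun a ha => ?_) (fun a ha => n3_N3 D (Subgroup.mem_sup_right ha))
    (comm_sup (fun a ha => n2_N3 D ha) (fun a ha => n3_N3 D (Subgroup.mem_sup_left ha))
      (fun a ha => Subgroup.mem_sup_left (D.k01_12 hg ha)) (fun a ha => z1 (D.c01_13 hg ha)))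
    (fun a ha => z1 (D.c01_23 hg ha))
  exact conj_join D (fun _ hg => n2_N3 D hg) (fun _ hg => n3_N3 D (Subgroup.mem_sup_left hg)) a ha

omit [Finite W] in
theorem cg_A {g : Y} (hg : g ∈ GG1) : ∀ x ∈ AA, ⁅g, x⁆ ∈ NN1 := by
  have n0 : ∀ a ∈ V0, ∀ x ∈ NN1, a * x * a⁻¹ ∈ NN1 := fun a ha =>
    conj_sup (fun x hx => conj_of_commute (D.c10_11 ha hx) (Subgroup.mem_sup_left hx))
      (fun x hx => Subgroup.mem_sup_right (n10_N2 D ha x hx))
  refine comm_sup n0 (fun a ha x hx => mul_mem (mul_mem ha hx) (inv_mem ha)) (fun a ha => D.k01_10 hg ha)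
    (fun a ha => ?_)
  rw [commutatorElement_def]
  exact mul_mem (ng_N1 D hg a ha) (inv_mem ha)

omit [Finite W] in
theorem AA_le_V (hall : ∀ k, k = i ∨ k = j) : VJ cs h X {j} ≤ AA := by
  refine RGD.Sup_le fun x hx => ?_
  obtain ⟨hx1, hx0, k, hk, hk0⟩ := hx
  have hki : k = i := by
    rcases hall k with h1 | h1
    · exact h1
    · exact absurd h1 hk
  subst hki
  have hx3 : x = T5Root.rt k j (x k) (x j) := eq_rt D.ne fun l hli hlj => by
    rcases hall l with h7 | h7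
    · exact absurd h7 hli
    · exact absurd h7 hlj
  rw [hx3] at hx1 hx0 ⊢
  generalize x k = a at *
  generalize x j = g at *
  rw [rt_nonneg D.ne] at hx0
  rcases D.lst hx1 with h7 | h7 | h7 | h7 | h7 | h7 | h7 | h7 | h7 | h7 | h7 | h7
  · rw [h7.1, h7.2]; exact le_sup_left
  · exfalso; omega
  · exfalso; omega
  · exfalso; omega
  · rw [h7.1, h7.2]; exact le_trans le_sup_left le_sup_right
  · exfalso; omega
  · rw [h7.1, h7.2]; exact le_trans (le_trans (le_trans le_sup_left le_sup_left) le_sup_right) le_sup_right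
  · exfalso; omega
  · rw [h7.1, h7.2]; exact le_trans (le_trans (le_trans le_sup_right le_sup_left) le_sup_right) le_sup_right
  · exfalso; omega
  · rw [h7.1, h7.2]; exact le_trans (le_trans le_sup_right le_sup_right) le_sup_right
  · exfalso; omega

omit [Finite W] in
theorem N1_le_V : NN1 ≤ VJ cs h X {i} := by
  have key : ∀ {a g : ℤ}, IsRoot cs h (T5Root.rt i j a g) → 0 ≤ a → 0 < g → X (T5Root.rt i j a g) ≤ VJ cs h X {i} := by
    intro a g hr ha hg
    refine RGD.le_Sup (S := NotJ cs h {i}) ⟨hr, (rt_nonneg D.ne).2 ⟨ha, hg.le⟩, j, D.ne.symm, ?_⟩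
    rw [rt_right D.ne]
    exact hg
  exact sup_le (key D.r11 (by norm_num) (by norm_num)) (sup_le (sup_le (key D.r12 (by norm_num) (by norm_num))
    (key D.r13 (by norm_num) (by norm_num))) (key D.r23 (by norm_num) (by norm_num)))

end Core

section Main

variable [Finite W] (R : RGD cs h 3 T n X) (D : G2 cs h X i j)
  (hab : ∀ z, IsRoot cs h z → ∀ a ∈ X z, ∀ b ∈ X z, a * b = b * a)

include R D hab

/-- modulo `NN3` -/
theorem comm_tv {t v x : Y} (ht : t ∈ NN2) (hv : v ∈ V0) (hx : x ∈ GG1) :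
    ∃ n1 ∈ NN3, ⁅x, t * v⁆ = n1 * ⁅x, v⁆ := by
  have htA : t ∈ AA := Subgroup.mem_sup_right (Subgroup.mem_sup_right ht)
  have hwA : ⁅x, v⁆ ∈ AA := Subgroup.mem_sup_right (D.k01_10 hx hv)
  refine ⟨⁅x, t⁆ * ⁅t, ⁅x, v⁆⁆, mul_mem (cg_N2 D hx t ht) (Subgroup.mem_sup_right (comm_AA D hab htA hwA)), ?_⟩
  simp only [commutatorElement_def]; group

/-- **The core.** -/
theorem inner_core {t v x q : Y} (ht : t ∈ NN2) (hv : v ∈ V0) (hv1 : v ≠ 1) (hx : x ∈ GG1) (hx1 : x ≠ 1)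
    (hq : q ∈ AA) (hd3 : (t * v) ^ 3 = 1) : ∃ K₁ : Subgroup Y, x * q * (t * v) * (x * q)⁻¹ ∈ K₁ ∧
      (x * q)⁻¹ * (t * v) * (x * q) ∈ K₁ ∧ t * v ∉ K₁ := by
  obtain ⟨d, hd⟩ : ∃ d, d = t * v := ⟨_, rfl⟩
  rw [← hd] at hd3 ⊢
  have hdA : d ∈ AA := by
    rw [hd]
    exact mul_mem (Subgroup.mem_sup_right (Subgroup.mem_sup_right ht)) (Subgroup.mem_sup_left hv)
  have hdv : Cp NN1 V0 d v := ⟨hv, by rw [hd, mul_inv_cancel_right]; exact le21 D ht⟩
  have hnA := nA_N3 (cs := cs) (h := h) D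
  have conjA : ∀ {x : Y}, x ∈ GG1 → x * d * x⁻¹ ∈ AA := fun {x} hx => by
    have e : x * d * x⁻¹ = ⁅x, d⁆ * d := by rw [commutatorElement_def]; group
    rw [e]
    exact mul_mem (Subgroup.mem_sup_right (cg_A D hx d hdA)) hdA
  have cpA : ∀ {x : Y}, x ∈ GG1 → Cp NN1 V0 (x * d * x⁻¹) v := fun {x} hx =>
    hdv.conj' (ng_N1 D hx) fun k hk => D.k01_10 hx hk
  set d1 := x * d * x⁻¹ with hd1
  set d2 := x⁻¹ * d * x⁻¹⁻¹ with hd2
  have A1 : d1 ∈ AA := conjA hx
  have A2 : d2 ∈ AA := conjA (inv_mem hx)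
  have c1 : Cp NN1 V0 d1 v := cpA hx
  have c2 : Cp NN1 V0 d2 v := cpA (inv_mem hx)
  have p1 : d1 ^ (3 : ℤ) = 1 := by
    rw [hd1, conj_zpow, show (3 : ℤ) = ((3 : ℕ) : ℤ) from rfl, zpow_natCast, hd3]; group
  have p2 : d2 ^ (3 : ℤ) = 1 := by
    rw [hd2, conj_zpow, show (3 : ℤ) = ((3 : ℕ) : ℤ) from rfl, zpow_natCast, hd3]; group
  have hv3 : v ^ (3 : ℤ) = 1 := by
    have h1 := CPair.zpow (pN1 R D) hdv 3
    rw [show (3 : ℤ) = ((3 : ℕ) : ℤ) from rfl, zpow_natCast, hd3] at h1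
    have h2 := (pN1 R D).uniq h1 (Cp.of_K (one_mem _))
    rw [show (3 : ℤ) = ((3 : ℕ) : ℤ) from rfl]
    exact h2
  have hZ3 : ZZ ≤ NN3 := le_sup_right
  refine ⟨Subgroup.zpowers d1 ⊔ (Subgroup.zpowers d2 ⊔ NN3), ?_, ?_, ?_⟩
  · have e : x * q * d * (x * q)⁻¹ = (x * ⁅q, d⁆ * x⁻¹) * d1 := by
      rw [hd1]; simp only [commutatorElement_def]; group
    rw [e]
    exact mul_mem (Subgroup.mem_sup_right (Subgroup.mem_sup_right (ng_N3 D hx _ (hZ3 (comm_AA D hab hq hdA)))))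
      (Subgroup.mem_sup_left (Subgroup.mem_zpowers d1))
  · have e : (x * q)⁻¹ * d * (x * q) = ⁅q⁻¹, d2⁆ * d2 := by
      rw [hd2]; simp only [commutatorElement_def]; group
    rw [e]
    exact mul_mem (Subgroup.mem_sup_right (Subgroup.mem_sup_right (hZ3 (comm_AA D hab (inv_mem hq) A2))))
      (Subgroup.mem_sup_right (Subgroup.mem_sup_left (Subgroup.mem_zpowers d2)))
  · intro hmem
    have nrm : ∀ {a : Y} {N : Subgroup Y}, (∀ y ∈ N, a * y * a⁻¹ ∈ N) → (∀ y ∈ N, a⁻¹ * y * a⁻¹⁻¹ ∈ N) →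
        Subgroup.zpowers a ≤ Subgroup.normalizer (N : Set Y) := by
      intro a N h1 h2
      rw [Subgroup.zpowers_le, Subgroup.mem_normalizer_iff]
      intro y
      refine ⟨h1 y, fun hy => ?_⟩
      have h3 := h2 _ hy
      have e : a⁻¹ * (a * y * a⁻¹) * a⁻¹⁻¹ = y := by group
      rwa [e] at h3
    have nz : ∀ {a : Y}, a ∈ AA → ∀ y ∈ Subgroup.zpowers d2 ⊔ NN3, a * y * a⁻¹ ∈ Subgroup.zpowers d2 ⊔ NN3 :=
      fun {a} ha => conj_sup (fun y hy => by
        have hyA : y ∈ AA := (Subgroup.zpowers_le.2 A2) hy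
        exact conj_of_comm (Subgroup.mem_sup_right (hZ3 (comm_AA D hab ha hyA))) (Subgroup.mem_sup_left hy))
        (fun y hy => Subgroup.mem_sup_right (hnA a ha y hy))
    have h1 : d ∈ ((Subgroup.zpowers d1 ⊔ (Subgroup.zpowers d2 ⊔ NN3) : Subgroup Y) : Set Y) := hmem
    rw [Subgroup.coe_mul_of_left_le_normalizer_right _ _ (nrm (nz A1) (nz (inv_mem A1))), Set.mem_mul] at h1
    obtain ⟨y1, hy1, y2, hy2, e1⟩ := h1
    rw [Subgroup.coe_mul_of_left_le_normalizer_right _ _ (nrm (hnA d2 A2) (hnA d2⁻¹ (inv_mem A2))), Set.mem_mul] at hy2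
    obtain ⟨y3, hy3, n1, hn1, e2⟩ := hy2
    obtain ⟨a, rfl⟩ := Subgroup.mem_zpowers_iff.1 hy1
    obtain ⟨b, rfl⟩ := Subgroup.mem_zpowers_iff.1 hy3
    subst e2
    -- the exponents
    have h2 : v = v ^ a * (v ^ b * 1) := by
      refine (pN1 R D).uniq hdv ?_
      rw [← e1]
      exact (pN1 R D).mul (CPair.zpow (pN1 R D) c1 a) ((pN1 R D).mul (CPair.zpow (pN1 R D) c2 b)
        (Cp.of_K (le21 D (le32 D hn1))))
    have h3 : v ^ (a + b - 1) = 1 := by
      rw [mul_one] at h2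
      rw [zpow_sub, zpow_add, zpow_one, ← h2, mul_inv_cancel]
    have h4 : ((orderOf v : ℕ) : ℤ) ∣ a + b - 1 := orderOf_dvd_iff_zpow_eq_one.2 h3
    have h5 : orderOf v = 3 := by
      refine orderOf_eq_prime ?_ hv1
      have := hv3
      rwa [show (3 : ℤ) = ((3 : ℕ) : ℤ) from rfl, zpow_natCast] at this
    rw [h5] at h4
    rw [zpow_eq_zpow_emod a p1, zpow_eq_zpow_emod b p2] at e1
    have ha3 : a % 3 = 0 ∨ a % 3 = 1 ∨ a % 3 = 2 := by omega
    have hb3 : b % 3 = 0 ∨ b % 3 = 1 ∨ b % 3 = 2 := by omega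
    -- the first cases
    have bad : ∀ {x : Y}, x ∈ GG1 → x ≠ 1 → ⁅x, d⁆ ∉ NN3 := by
      intro x hx hx1 hmem
      obtain ⟨n2, hn2, e⟩ := comm_tv R D hab ht hv hx
      rw [← hd] at e
      rw [e] at hmem
      have h6 : ⁅x, v⁆ ∈ NN3 := (mul_mem_cancel_left hn2).1 hmem
      obtain ⟨m, hm, hcp⟩ := comp_ne R D hv hv1
      have h7 := (pN2 R D).uniq (hcp x hx) (Cp.of_K (le32 D h6))
      apply hx1
      calc x = (m⁻¹ * (m * x⁻¹ * m⁻¹) * m)⁻¹ := by group
        _ = 1 := by rw [h7]; group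
    have h6 : (a % 3 = 1 ∧ b % 3 = 0) ∨ (a % 3 = 0 ∧ b % 3 = 1) ∨ (a % 3 = 2 ∧ b % 3 = 2) := by
      omega
    rcases h6 with ⟨h6, h7⟩ | ⟨h6, h7⟩ | ⟨h6, h7⟩
    · rw [h6, h7, zpow_one, zpow_zero, one_mul] at e1
      apply bad hx hx1
      have e : ⁅x, d⁆ = (d1 * n1 * d1⁻¹)⁻¹ := by
        have : ⁅x, d⁆ = d1 * d⁻¹ := by rw [hd1, commutatorElement_def]
        rw [this]
        conv_lhs => rw [← e1]
        group
      rw [e]
      exact inv_mem (hnA d1 A1 _ hn1)
    · rw [h6, h7, zpow_one, zpow_zero, one_mul] at e1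
      apply bad (inv_mem hx) (inv_ne_one.2 hx1)
      have e : ⁅x⁻¹, d⁆ = (d2 * n1 * d2⁻¹)⁻¹ := by
        have : ⁅x⁻¹, d⁆ = d2 * d⁻¹ := by rw [hd2, commutatorElement_def]
        rw [this]
        conv_lhs => rw [← e1]
        group
      rw [e]
      exact inv_mem (hnA d2 A2 _ hn1)
    · rw [h6, h7] at e1
      have q1 : d1 ^ (2 : ℤ) = d1⁻¹ := by
        rw [eq_inv_iff_mul_eq_one, ← zpow_add_one]; exact p1
      have q2 : d2 ^ (2 : ℤ) = d2⁻¹ := by
        rw [eq_inv_iff_mul_eq_one, ← zpow_add_one]; exact p2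
      rw [q1, q2] at e1
      have h8 : d2 * d1 * d ∈ NN3 := by
        have e : d2 * d1 * d = n1 := by
          conv_lhs => rw [← e1]
          group
        rw [e]; exact hn1
      obtain ⟨n2, hn2, f1⟩ := comm_tv R D hab ht hv hx
      obtain ⟨n3, hn3, f2⟩ := comm_tv R D hab ht hv (inv_mem hx)
      rw [← hd] at f1 f2
      have hwA : ⁅x, d⁆ ∈ AA := Subgroup.mem_sup_right (cg_A D hx d hdA)
      have hvA : ⁅x, v⁆ ∈ AA := Subgroup.mem_sup_right (D.k01_10 hx hv)
      have h9 : ⁅d, ⁅x, d⁆⁆ ∈ NN3 := hZ3 (comm_AA D hab hdA hwA)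
      have e3 : d2 * d1 * d = n3 * (⁅x⁻¹, v⁆ * ⁅x, v⁆) *
          (⁅x, v⁆⁻¹ * (⁅d, ⁅x, d⁆⁆ * n2) * ⁅x, v⁆⁻¹⁻¹) := by
        have hd3' : d * d * d = 1 := by
          rw [← hd3]; simp only [pow_succ, pow_zero, one_mul]
        calc d2 * d1 * d = ⁅x⁻¹, d⁆ * (⁅d, ⁅x, d⁆⁆ * ⁅x, d⁆) * (d * d * d) := by
              rw [hd1, hd2]; simp only [commutatorElement_def]; group
          _ = ⁅x⁻¹, d⁆ * (⁅d, ⁅x, d⁆⁆ * ⁅x, d⁆) := by rw [hd3', mul_one]
          _ = n3 * ⁅x⁻¹, v⁆ * (⁅d, ⁅x, d⁆⁆ * (n2 * ⁅x, v⁆)) := by rw [f2]; congr 2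
          _ = _ := by group
      rw [e3] at h8
      have h10 : ⁅x, v⁆⁻¹ * (⁅d, ⁅x, d⁆⁆ * n2) * ⁅x, v⁆⁻¹⁻¹ ∈ NN3 := hnA _ (inv_mem hvA) _ (mul_mem h9 hn2)
      exact gamma R D (by norm_num) hx hx1 hv hv1
        ((mul_mem_cancel_left hn3).1 ((mul_mem_cancel_right h10).1 h8))

variable (hall : ∀ k, k = i ∨ k = j)

include hall

/-- **Long against short.** -/
theorem inner_key {x y : Y} (hx3 : x ^ 3 = 1) (hxi : NT cs h X x i) (hxj : ¬ NT cs h X x j)
    (hy : NT cs h X y j) : ∃ g g' : Y, ∃ K₁ : Subgroup Y,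
      (g * y * g⁻¹) * (g' * x * g'⁻¹) * (g * y * g⁻¹)⁻¹ ∈ K₁ ∧
      (g * y * g⁻¹)⁻¹ * (g' * x * g'⁻¹) * (g * y * g⁻¹) ∈ K₁ ∧ g' * x * g'⁻¹ ∉ K₁ := by
  obtain ⟨g1, hg1, hg1'⟩ := hxi
  have hVj := AA_le_V D hall (mem_V_of_not_NT hxj g1 hg1)
  obtain ⟨v, hv⟩ := (pN1 R D).ex (by rw [sup_comm]; exact hVj)
  have hv1 : v ≠ 1 := by
    rintro rfl
    exact hg1' (N1_le_V D hv.mem)
  obtain ⟨r, hr, t, ht, e⟩ := exists_conj R D hv hv1 (one_mem V1)
  rw [mul_one] at e
  obtain ⟨g, hg, hg'⟩ := hy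
  have hU : g * y * g⁻¹ ∈ X (sr j) ⊔ VJ cs h X {j} := by
    refine (RGD.Sup_le fun z hz => ?_ : RGD.Sup X (RGD.Pos cs h) ≤ _) hg
    rcases mem_PosJ_or_NotJ {j} hz.1 hz.2 with h2 | h2
    · have h3 : z = sr j := hz.1.eq_sr hz.2 j fun k hk => h2.2.2 k hk
      rw [h3]
      exact le_sup_left
    · exact le_trans (RGD.le_Sup h2) le_sup_right
  obtain ⟨x0, hx0, q, hq, e2⟩ := XV_split R (PosJ_subset {j} (sr_mem_PosJ rfl)) hU
  have hx0' : x0 ∈ GG1 := by rwa [rt_zero_one]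
  have hx01 : x0 ≠ 1 := by
    rintro rfl
    apply hg'
    rw [e2, one_mul]
    exact hq
  have e3 : r * g1 * x * (r * g1)⁻¹ = t * v := by rw [← e]; group
  have hd3 : (t * v) ^ 3 = 1 := by
    rw [← e3, conj_pow, hx3]; group
  obtain ⟨K₁, h1, h2, h3⟩ := inner_core R D hab ht hv.1 hv1 hx0' hx01 (AA_le_V D hall hq) hd3
  refine ⟨g, r * g1, K₁, ?_, ?_, ?_⟩
  · rw [e2, e3]; exact h1
  · rw [e2, e3]; exact h2
  · rw [e3]; exact h3

/-- **Long against short**, elements of order three. -/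
theorem gpair_inner [Finite Y] {x y : Y} (hx3 : x ^ 3 = 1) (hy3 : y ^ 3 = 1) (hxi : NT cs h X x i)
    (hxj : ¬ NT cs h X x j) (hy : NT cs h X y j) : Cfsg.Agent.H491.Wf.GR.GPair 3 (⊤ : Subgroup Y) y x := by
  obtain ⟨g, g', K₁, h1, h2, h3⟩ := inner_key R D hab hall hx3 hxi hxj hy
  refine Cfsg.Agent.H491.Wf.GR.GPair.of_conj (s := g) (t := g') (Subgroup.mem_top _) (Subgroup.mem_top _) ?_
  exact Cfsg.Agent.H491.Wf.GR.GPair.of_key (by rw [conj_pow, hy3]; group) h1 h2 h3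

end Main

end Cfsg.Agent.H491.Wf.GKey
end

-- part: H491/Wf/GOut
section
/-!
# A triple bond in characteristic three: automorphisms centralising the long root groups (S3826)

`outer_core` : the wreath lemma for an automorphism `conj u * β`, `β` a frame automorphism of order three, trivial on
`X α_i` (long) and not on `X α_j`, against an inner automorphism `d` acting non-trivially on a panel of type `i` and on
no panel of type `j`.
-/

set_option autoImplicit false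
set_option linter.unusedSectionVars false
set_option maxHeartbeats 400000

namespace Cfsg.Agent.H491.Wf.GOut

open CoxeterSystem Cfsg.Agent.ChevalleyStructure.CoxeterGeom Cfsg.Agent.Tits.Roots Cfsg.Agent.Tits.Core
  Cfsg.Agent.Tits.RootComb Cfsg.Agent.Tits.Exchange Cfsg.Agent.Nodes.Reps Cfsg.Agent.Nodes.BNOf
  Cfsg.Agent.Nodes.StabComb Cfsg.Agent.Nodes.Bruhat Cfsg.Agent.Nodes.OppDec Cfsg.Agent.Nodes.LeviDec
  Cfsg.Agent.Nodes.Coroot Cfsg.Agent.KFacts.RgdSL Cfsg.Agent.KFacts.RgdBorelTits Cfsg.Agent.KFacts.RgdFilt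
  Cfsg.Agent.KFacts.RgdAut Cfsg.Agent.KFacts.RgdDiag
  Cfsg.Agent.H533.T5 Cfsg.Agent.H798 Cfsg.Agent.H798.T5Geo Cfsg.Agent.H798.T5Root Cfsg.Agent.H798.T5Bond
  Cfsg.Agent.H798.T5BTwo
  Cfsg.Agent.H798.T5GTwo Cfsg.Agent.H798.T5GThree Cfsg.Agent.H491.Wf.GKey
open scoped commutatorElement

section Gen

variable {Y : Type*} [Group Y]

/-- the elements of `⟨d1, d2⟩ N`, for `A / N` abelian -/
theorem mem_zz {A N : Subgroup Y} (hN : ∀ g ∈ A, ∀ x ∈ N, g * x * g⁻¹ ∈ N) (hc : ∀ a ∈ A, ∀ b ∈ A, ⁅a, b⁆ ∈ N)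
    {d1 d2 d : Y} (A1 : d1 ∈ A) (A2 : d2 ∈ A) (p1 : d1 ^ (3 : ℤ) = 1) (p2 : d2 ^ (3 : ℤ) = 1)
    (h : d ∈ Subgroup.zpowers d1 ⊔ (Subgroup.zpowers d2 ⊔ N)) :
    ∃ a b : ℤ, (a = 0 ∨ a = 1 ∨ a = 2) ∧ (b = 0 ∨ b = 1 ∨ b = 2) ∧ ∃ n1 ∈ N, d = d1 ^ a * (d2 ^ b * n1) := by
  have nrm : ∀ {a : Y} {N : Subgroup Y}, (∀ y ∈ N, a * y * a⁻¹ ∈ N) → (∀ y ∈ N, a⁻¹ * y * a⁻¹⁻¹ ∈ N) →
      Subgroup.zpowers a ≤ Subgroup.normalizer (N : Set Y) := by
    intro a N h1 h2
    rw [Subgroup.zpowers_le, Subgroup.mem_normalizer_iff]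
    intro y
    refine ⟨h1 y, fun hy => ?_⟩
    have h3 := h2 _ hy
    have e : a⁻¹ * (a * y * a⁻¹) * a⁻¹⁻¹ = y := by group
    rwa [e] at h3
  have nz : ∀ {a : Y}, a ∈ A → ∀ y ∈ Subgroup.zpowers d2 ⊔ N, a * y * a⁻¹ ∈ Subgroup.zpowers d2 ⊔ N :=
    fun {a} ha => conj_sup (fun y hy => by
      have hyA : y ∈ A := (Subgroup.zpowers_le.2 A2) hy
      exact conj_of_comm (Subgroup.mem_sup_right (hc a ha y hyA)) (Subgroup.mem_sup_left hy))
      (fun y hy => Subgroup.mem_sup_right (hN a ha y hy))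
  have h1 : d ∈ ((Subgroup.zpowers d1 ⊔ (Subgroup.zpowers d2 ⊔ N) : Subgroup Y) : Set Y) := h
  rw [Subgroup.coe_mul_of_left_le_normalizer_right _ _ (nrm (nz A1) (nz (inv_mem A1))), Set.mem_mul] at h1
  obtain ⟨y1, hy1, y2, hy2, e1⟩ := h1
  rw [Subgroup.coe_mul_of_left_le_normalizer_right _ _ (nrm (hN d2 A2) (hN d2⁻¹ (inv_mem A2))), Set.mem_mul] at hy2
  obtain ⟨y3, hy3, n1, hn1, e2⟩ := hy2
  obtain ⟨a, rfl⟩ := Subgroup.mem_zpowers_iff.1 hy1
  obtain ⟨b, rfl⟩ := Subgroup.mem_zpowers_iff.1 hy3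
  subst e2
  rw [zpow_eq_zpow_emod a p1, zpow_eq_zpow_emod b p2] at e1
  refine ⟨a % 3, b % 3, by omega, by omega, n1, hn1, e1.symm⟩

/-- the pigeonhole -/
theorem exists_b {V : Subgroup Y} (hV : ∀ a ∈ V, ∀ b ∈ V, a * b = b * a) (h3 : ∀ a ∈ V, a ^ 3 = 1) {β : MulAut Y}
    (hβ : ∀ a ∈ V, β a ∈ V) (hβ' : ∀ a ∈ V, β⁻¹ a ∈ V) {b0 : Y} (hb0 : b0 ∈ V) (hN : b0 * β b0 * β⁻¹ b0 ≠ 1)
    (a c : Y) : ∃ b ∈ V, b ≠ β b * a ∧ b * β b * β⁻¹ b * c ≠ 1 := by
  have hinv : ∀ y : Y, β⁻¹ (β y) = y := fun y => β.symm_apply_apply y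
  have sq : ∀ y ∈ V, y ≠ 1 → y ≠ y⁻¹ := by
    intro y hy hy1 h
    apply hy1
    have e1 : y * y = 1 := by
      conv_lhs => rw [h]
      group
      have h2 := h3 y hy
      have : y⁻¹ * y = 1 := inv_mul_cancel y
      rw [← h] at this
      have e2 : y ^ 3 = y * y * y := by simp only [pow_succ, pow_zero, one_mul]
      rw [e2, this, one_mul] at h2
      rw [h2]; simp
    have e2 : y ^ 3 = y * y * y := by simp only [pow_succ, pow_zero, one_mul]
    have h2 := h3 y hy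
    rw [e2, e1, one_mul] at h2
    exact h2
  set s := b0 * β b0 * β⁻¹ b0 with hs
  have hsV : s ∈ V := mul_mem (mul_mem hb0 (hβ _ hb0)) (hβ' _ hb0)
  set l := (β b0)⁻¹ * b0 with hl
  have hlV : l ∈ V := mul_mem (inv_mem (hβ _ hb0)) hb0
  have hl1 : l ≠ 1 := by
    intro h
    apply hN
    have e1 : b0 = β b0 := by
      have := inv_mul_eq_one.1 h
      exact this.symm
    have e2 : β⁻¹ b0 = b0 := by
      conv_lhs => rw [e1]
      exact hinv b0
    rw [hs, e2, ← e1]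
    have := h3 b0 hb0
    simpa only [pow_succ, pow_zero, one_mul] using this
  have c1 : a ≠ 1 → c ≠ 1 → ∃ b ∈ V, b ≠ β b * a ∧ b * β b * β⁻¹ b * c ≠ 1 := fun h1 h2 =>
    ⟨1, one_mem V, by rw [map_one, one_mul]; exact h1.symm, by rw [map_one, map_one, one_mul, one_mul, one_mul]; exact h2⟩
  have c2 : a ≠ l → s * c ≠ 1 → ∃ b ∈ V, b ≠ β b * a ∧ b * β b * β⁻¹ b * c ≠ 1 := fun h1 h2 =>
    ⟨b0, hb0, fun h => h1 (by
      have : a = (β b0)⁻¹ * (β b0 * a) := by group
      rw [this, ← h]), h2⟩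
  have c3 : a ≠ l⁻¹ → s⁻¹ * c ≠ 1 → ∃ b ∈ V, b ≠ β b * a ∧ b * β b * β⁻¹ b * c ≠ 1 := by
    intro h1 h2
    refine ⟨b0⁻¹, inv_mem hb0, fun h => h1 ?_, ?_⟩
    · have e1 : a = β b0 * (β b0⁻¹ * a) := by rw [map_inv]; group
      rw [e1, ← h, hl, mul_inv_rev, inv_inv]
      exact hV _ (hβ _ hb0) _ (inv_mem hb0)
    · have e1 : b0⁻¹ * β b0⁻¹ * β⁻¹ b0⁻¹ = s⁻¹ := by
        rw [hs, map_inv, map_inv, mul_inv_rev, mul_inv_rev, hV _ (inv_mem hb0) _ (inv_mem (hβ _ hb0))]
        exact hV _ (mul_mem (inv_mem (hβ _ hb0)) (inv_mem hb0)) _ (inv_mem (hβ' _ hb0))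
      rw [e1]; exact h2
  have hs1 : s⁻¹ ≠ 1 := inv_ne_one.2 hN
  by_cases ha : a = 1
  · by_cases h1 : s * c = 1
    · refine c3 (by rw [ha]; exact fun h => hl1 (inv_eq_one.1 h.symm)) fun h2 => sq s hsV hN ?_
      exact mul_right_cancel (h1.trans h2.symm)
    · exact c2 (by rw [ha]; exact hl1.symm) h1
  · by_cases hc : c = 1
    · by_cases h1 : a = l
      · exact c3 (by rw [h1]; exact sq l hlV hl1) (by rw [hc, mul_one]; exact hs1)
      · exact c2 h1 (by rw [hc, mul_one]; exact hN)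
    · exact c1 ha hc

end Gen

variable {I W Y : Type*} [Fintype I] [DecidableEq I] [Group W] [Group Y] {M : CoxeterMatrix I}
  {cs : CoxeterSystem M W} {A : I → I → ℤ} {h : IsCartan M A} {p : ℕ} {T : Subgroup Y} {n : I → Y}
  {X : (I → ℤ) → Subgroup Y} {i j : I}

attribute [local irreducible] T5Root.rt

local notation "V0" => X (T5Root.rt i j 1 0)
local notation "V1" => X (T5Root.rt i j 1 1)
local notation "V2" => X (T5Root.rt i j 1 2)
local notation "V3" => X (T5Root.rt i j 1 3)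
local notation "ZZ" => X (T5Root.rt i j 2 3)
local notation "GG1" => X (T5Root.rt i j 0 1)
local notation "GM" => X (T5Root.rt i j 0 (-1))
local notation "AM" => X (T5Root.rt i j (-1) 0)
local notation "NN2" => (X (T5Root.rt i j 1 2) ⊔ X (T5Root.rt i j 1 3) ⊔ X (T5Root.rt i j 2 3))
local notation "NN3" => (X (T5Root.rt i j 1 3) ⊔ X (T5Root.rt i j 2 3))
local notation "NN1" => (X (T5Root.rt i j 1 1) ⊔ (X (T5Root.rt i j 1 2) ⊔ X (T5Root.rt i j 1 3) ⊔ X (T5Root.rt i j 2 3)))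
local notation "AA" => (X (T5Root.rt i j 1 0) ⊔ (X (T5Root.rt i j 1 1) ⊔ (X (T5Root.rt i j 1 2) ⊔ X (T5Root.rt i j 1 3) ⊔ X (T5Root.rt i j 2 3))))

/-! ### the components of an element of `V_j` modulo `NN2` -/

/-- `z ≡ b v` modulo `NN2` -/
def Pr (X : (I → ℤ) → Subgroup Y) (i j : I) (z b v : Y) : Prop :=
  b ∈ X (T5Root.rt i j 1 1) ∧ v ∈ X (T5Root.rt i j 1 0) ∧
    z * (b * v)⁻¹ ∈ (X (T5Root.rt i j 1 2) ⊔ X (T5Root.rt i j 1 3) ⊔ X (T5Root.rt i j 2 3))

section Pr

variable [Finite W] (R : RGD cs h p T n X) (D : G2 cs h X i j)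

omit [Finite W] in
theorem Pr.mem {z b v : Y} (hz : Pr X i j z b v) : z ∈ AA := by
  have e : z = z * (b * v)⁻¹ * (b * v) := by group
  rw [e]
  exact mul_mem (Subgroup.mem_sup_right (Subgroup.mem_sup_right hz.2.2))
    (mul_mem (Subgroup.mem_sup_right (Subgroup.mem_sup_left hz.1)) (Subgroup.mem_sup_left hz.2.1))

omit [Finite W] in
theorem Pr.of_N2 {z : Y} (hz : z ∈ NN2) : Pr X i j z 1 1 :=
  ⟨one_mem _, one_mem _, by rw [mul_one, inv_one, mul_one]; exact hz⟩

include D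

omit [Finite W] in
theorem Pr.mul {z b v z' b' v' : Y} (hz : Pr X i j z b v) (hz' : Pr X i j z' b' v') :
    Pr X i j (z * z') (b * b') (v * v') := by
  refine ⟨mul_mem hz.1 hz'.1, mul_mem hz.2.1 hz'.2.1, ?_⟩
  have e1 : v * b' = b' * v := D.c10_11 hz.2.1 hz'.1
  have e : z * z' * (b * b' * (v * v'))⁻¹ = z * (b * v)⁻¹ * ((b * v) * (z' * (b' * v')⁻¹) * (b * v)⁻¹) := by
    have e2 : b * b' * (v * v') = b * v * (b' * v') := by
      calc b * b' * (v * v') = b * (b' * v) * v' := by group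
        _ = b * (v * b') * v' := by rw [e1]
        _ = _ := by group
    rw [e2]; group
  rw [e]
  exact mul_mem hz.2.2 (nA_N2 D _ (mul_mem (Subgroup.mem_sup_right (Subgroup.mem_sup_left hz.1))
    (Subgroup.mem_sup_left hz.2.1)) _ hz'.2.2)

omit [Finite W] in
theorem Pr.inv {z b v : Y} (hz : Pr X i j z b v) : Pr X i j z⁻¹ b⁻¹ v⁻¹ := by
  refine ⟨inv_mem hz.1, inv_mem hz.2.1, ?_⟩
  have e1 : b⁻¹ * v⁻¹ = (b * v)⁻¹ := by rw [mul_inv_rev, D.c10_11 (inv_mem hz.2.1) (inv_mem hz.1)]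
  rw [e1]
  have e : z⁻¹ * (b * v)⁻¹⁻¹ = (b * v)⁻¹ * (z * (b * v)⁻¹)⁻¹ * (b * v)⁻¹⁻¹ := by group
  rw [e]
  exact nA_N2 D _ (inv_mem (mul_mem (Subgroup.mem_sup_right (Subgroup.mem_sup_left hz.1))
    (Subgroup.mem_sup_left hz.2.1))) _ (inv_mem hz.2.2)

omit [Finite W] in
theorem Pr.zpow {z b v : Y} (hz : Pr X i j z b v) (a : ℤ) : Pr X i j (z ^ a) (b ^ a) (v ^ a) := by
  have key : ∀ n : ℕ, Pr X i j (z ^ n) (b ^ n) (v ^ n) := by
    intro n
    induction n with
    | zero => rw [pow_zero, pow_zero, pow_zero]; exact Pr.of_N2 (one_mem _)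
    | succ n ih => rw [pow_succ, pow_succ, pow_succ]; exact Pr.mul D ih hz
  cases a with
  | ofNat n => rw [Int.ofNat_eq_natCast, zpow_natCast, zpow_natCast, zpow_natCast]; exact key n
  | negSucc n => rw [zpow_negSucc, zpow_negSucc, zpow_negSucc]; exact Pr.inv D (key _)

include R

theorem Pr.uniq {z b v b' v' : Y} (hz : Pr X i j z b v) (hz' : Pr X i j z b' v') : b = b' ∧ v = v' := by
  have key : ∀ {b v : Y}, Pr X i j z b v → Cp NN1 V0 z v := by
    intro b v hz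
    refine ⟨hz.2.1, ?_⟩
    have e : z * v⁻¹ = z * (b * v)⁻¹ * b := by group
    rw [e]
    exact mul_mem (Subgroup.mem_sup_right hz.2.2) (Subgroup.mem_sup_left hz.1)
  have hv := (pN1 R D).uniq (key hz) (key hz')
  subst hv
  refine ⟨?_, rfl⟩
  have key2 : ∀ {b : Y}, Pr X i j z b v → Cp NN2 V1 (z * v⁻¹) b := by
    intro b hz
    refine ⟨hz.1, ?_⟩
    have e : z * v⁻¹ * b⁻¹ = z * (b * v)⁻¹ := by group
    rw [e]
    exact hz.2.2
  exact (pN2 R D).uniq (key2 hz) (key2 hz')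

end Pr

section Out

variable [Finite W] (R : RGD cs h 3 T n X) (D : G2 cs h X i j)
  (hab : ∀ z, IsRoot cs h z → ∀ a ∈ X z, ∀ b ∈ X z, a * b = b * a)

include R D hab

/-- **The core**, outer automorphisms. -/
theorem outer_core {β : MulAut Y} (Dg : _root_.Cfsg.Agent.KFacts.RgdDiag.Diag T X β 1) (h0 : ∀ v ∈ V0, β v = v) (hexp : ∀ x ∈ GG1, x ^ 3 = 1)
    {x : Y} (hx : x ∈ GG1) (hxN : x * β x * β⁻¹ x ≠ 1) {x0 q0 : Y} (hx0 : x0 ∈ GG1) (hq0 : q0 ∈ NN1) {d v : Y}
    (hd : Cp NN1 V0 d v) (hv1 : v ≠ 1) (hd3 : d ^ 3 = 1) : ∃ r : Y, ∃ K₁ : Subgroup Y,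
      x0 * q0 * β (r * d * r⁻¹) * (x0 * q0)⁻¹ ∈ K₁ ∧ β⁻¹ ((x0 * q0)⁻¹ * (r * d * r⁻¹) * (x0 * q0)) ∈ K₁ ∧
      r * d * r⁻¹ ∉ K₁ := by
  have hinv : ∀ y : Y, β⁻¹ (β y) = y := fun y => β.symm_apply_apply y
  have hinv' : ∀ y : Y, β (β⁻¹ y) = y := fun y => β.apply_symm_apply y
  have hX : ∀ z, IsRoot cs h z → ∀ y, β y ∈ X z ↔ y ∈ X z := fun z hz y => Dg.root_comp R (fun _ _ => rfl) hz y
  have hX' : ∀ z, IsRoot cs h z → ∀ y, β⁻¹ y ∈ X z ↔ y ∈ X z := fun z hz y => by
    rw [← hX z hz, hinv']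
  have h0' : ∀ v ∈ V0, β⁻¹ v = v := fun v hv => by
    conv_lhs => rw [← h0 v hv]
    exact hinv v
  -- the joins are invariant
  have joinN2 : ∀ {γ : MulAut Y}, (∀ z, IsRoot cs h z → ∀ y, γ y ∈ X z ↔ y ∈ X z) → ∀ y ∈ NN2, γ y ∈ NN2 := by
    intro γ hγ y hy
    have h1 : NN2 ≤ (NN2).comap γ.toMonoidHom := sup_le (sup_le
      (fun y hy => Subgroup.mem_sup_left (Subgroup.mem_sup_left ((hγ _ D.r12 y).2 hy)))
      (fun y hy => Subgroup.mem_sup_left (Subgroup.mem_sup_right ((hγ _ D.r13 y).2 hy))))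
      (fun y hy => Subgroup.mem_sup_right ((hγ _ D.r23 y).2 hy))
    exact h1 hy
  have mapPr : ∀ {γ : MulAut Y}, (∀ z, IsRoot cs h z → ∀ y, γ y ∈ X z ↔ y ∈ X z) → ∀ {z b v : Y}, Pr X i j z b v →
      Pr X i j (γ z) (γ b) (γ v) := by
    intro γ hγ z b v hz
    refine ⟨(hγ _ D.r11 b).2 hz.1, (hγ _ D.r10 v).2 hz.2.1, ?_⟩
    rw [← map_mul, ← map_inv, ← map_mul]
    exact joinN2 hγ _ hz.2.2
  obtain ⟨m, hm, hcp⟩ := comp_ne R D hd.1 hv1
  have hv := hd.1
  -- `β (m y m⁻¹) = m β(y) m⁻¹`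
  have hβm : ∀ y ∈ GG1, β (m * y * m⁻¹) = m * β y * m⁻¹ := by
    intro y hy
    have h1 := hcp y⁻¹ (inv_mem hy)
    rw [inv_inv] at h1
    have h2 := hcp (β y⁻¹) ((hX _ D.r01 _).2 (inv_mem hy))
    rw [map_inv, inv_inv] at h2
    have h3 : Cp NN2 V1 (β ⁅y⁻¹, v⁆) (β (m * y * m⁻¹)) :=
      ⟨(hX _ D.r11 _).2 h1.1, by rw [← map_inv, ← map_mul]; exact joinN2 hX _ h1.2⟩
    have e : β ⁅y⁻¹, v⁆ = ⁅(β y)⁻¹, v⁆ := by
      simp only [commutatorElement_def, map_mul, map_inv, h0 v hv]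
    rw [e] at h3
    exact (pN2 R D).uniq h3 h2
  have hVm : ∀ y ∈ V1, m⁻¹ * y * m ∈ GG1 := fun y hy => by
    have := i11 R D (minv R hm) hy
    rwa [inv_inv] at this
  have hexp1 : ∀ y ∈ V1, y ^ 3 = 1 := by
    intro y hy
    have e : y = m * (m⁻¹ * y * m) * m⁻¹ := by group
    rw [e, conj_pow, hexp _ (hVm y hy)]; group
  have hβm' : ∀ y ∈ GG1, β⁻¹ (m * y * m⁻¹) = m * β⁻¹ y * m⁻¹ := by
    intro y hy
    apply β.injective
    rw [hβm _ ((hX' _ D.r01 y).2 hy)]
    show β (β⁻¹ (m * y * m⁻¹)) = m * β (β⁻¹ y) * m⁻¹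
    rw [hinv', hinv']
  set b0 := m * x * m⁻¹ with hb0
  have hb0V : b0 ∈ V1 := i01 R D hm hx
  have hbN : b0 * β b0 * β⁻¹ b0 ≠ 1 := by
    intro h1
    apply hxN
    rw [hb0, hβm x hx, hβm' x hx] at h1
    calc x * β x * β⁻¹ x = m⁻¹ * (m * x * m⁻¹ * (m * β x * m⁻¹) * (m * β⁻¹ x * m⁻¹)) * m := by group
      _ = 1 := by rw [h1]; group
  set a := m * x0⁻¹ * m⁻¹ with ha
  have haV : a ∈ V1 := i01 R D hm (inv_mem hx0)
  have hVab : ∀ a ∈ V1, ∀ b ∈ V1, a * b = b * a := fun a ha b hb => hab _ D.r11 a ha b hb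
  obtain ⟨b, hb, hb1, hb2⟩ := exists_b hVab hexp1 (β := β) (fun y hy => (hX _ D.r11 y).2 hy)
    (fun y hy => (hX' _ D.r11 y).2 hy) hb0V hbN a (a * β⁻¹ a⁻¹)
  obtain ⟨r, hr, t, ht, e⟩ := exists_conj R D hd hv1 hb
  set d0 := r * d * r⁻¹ with hd0
  have hd03 : d0 ^ 3 = 1 := by rw [hd0, conj_pow, hd3]; group
  have P0 : Pr X i j d0 b v := by
    refine ⟨hb, hv, ?_⟩
    rw [e]
    have : t * b * v * (b * v)⁻¹ = t := by group
    rw [this]; exact ht
  -- conjugation by `GG1` and `NN1`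
  have cG : ∀ {y z c : Y}, y ∈ GG1 → Pr X i j z c v → Pr X i j (y * z * y⁻¹) (c * (m * y⁻¹ * m⁻¹)) v := by
    intro y z c hy hz
    have h1 := hcp y hy
    refine ⟨mul_mem hz.1 h1.1, hv, ?_⟩
    have e : y * z * y⁻¹ * (c * (m * y⁻¹ * m⁻¹) * v)⁻¹ = (y * (z * (c * v)⁻¹) * y⁻¹) * ⁅y, c⁆ *
        (c * (⁅y, v⁆ * (m * y⁻¹ * m⁻¹)⁻¹) * c⁻¹) := by
      simp only [commutatorElement_def]; group
    rw [e]
    exact mul_mem (mul_mem (n01_N2 D hy _ hz.2.2) (D.k01_11 hy hz.1)) (n11_N2 D hz.1 _ h1.2)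
  have cN : ∀ {y z c w : Y}, y ∈ AA → Pr X i j z c w → Pr X i j (y * z * y⁻¹) c w := by
    intro y z c w hy hz
    refine ⟨hz.1, hz.2.1, ?_⟩
    have e : y * z * y⁻¹ * (c * w)⁻¹ = ⁅y, z⁆ * (z * (c * w)⁻¹) := by
      simp only [commutatorElement_def]; group
    rw [e]
    exact mul_mem (Subgroup.mem_sup_right (comm_AA D hab hy (Pr.mem hz))) hz.2.2
  have hq0A : q0 ∈ AA := Subgroup.mem_sup_right hq0
  set d1 := x0 * q0 * β d0 * (x0 * q0)⁻¹ with hd1
  set d2 := β⁻¹ ((x0 * q0)⁻¹ * d0 * (x0 * q0)) with hd2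
  have P1 : Pr X i j d1 (β b * a) v := by
    have h1 := mapPr hX P0
    rw [h0 v hv] at h1
    have h2 := cG hx0 (cN hq0A h1)
    have e : x0 * (q0 * β d0 * q0⁻¹) * x0⁻¹ = d1 := by rw [hd1]; group
    rwa [e] at h2
  have P2 : Pr X i j d2 (β⁻¹ (b * a⁻¹)) v := by
    have h1 := cN (inv_mem hq0A) (cG (inv_mem hx0) P0)
    have e1 : m * x0⁻¹⁻¹ * m⁻¹ = a⁻¹ := by rw [ha]; group
    rw [e1] at h1
    have h2 := mapPr hX' h1
    rw [h0' v hv] at h2
    have e : β⁻¹ (q0⁻¹ * (x0⁻¹ * d0 * x0⁻¹⁻¹) * q0⁻¹⁻¹) = d2 := by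
      rw [hd2]; congr 1; group
    rwa [e] at h2
  have p1 : d1 ^ (3 : ℤ) = 1 := by
    rw [hd1, conj_zpow, show (3 : ℤ) = ((3 : ℕ) : ℤ) from rfl, zpow_natCast, ← map_pow, hd03, map_one]; group
  have p2 : d2 ^ (3 : ℤ) = 1 := by
    have e : (x0 * q0)⁻¹ * d0 * (x0 * q0) = (x0 * q0)⁻¹ * d0 * (x0 * q0)⁻¹⁻¹ := by rw [inv_inv]
    rw [hd2, show (3 : ℤ) = ((3 : ℕ) : ℤ) from rfl, zpow_natCast, ← map_pow, e, conj_pow, hd03]
    rw [mul_one, mul_inv_cancel, map_one]
  refine ⟨r, Subgroup.zpowers d1 ⊔ (Subgroup.zpowers d2 ⊔ NN2), Subgroup.mem_sup_left (Subgroup.mem_zpowers d1),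
    Subgroup.mem_sup_right (Subgroup.mem_sup_left (Subgroup.mem_zpowers d2)), fun hmem => ?_⟩
  obtain ⟨α, γ, hα, hγ, n1, hn1, e1⟩ := mem_zz (nA_N2 D) (fun a ha b hb =>
    Subgroup.mem_sup_right (comm_AA D hab ha hb)) P1.mem P2.mem p1 p2 hmem
  have h1 : Pr X i j d0 ((β b * a) ^ α * ((β⁻¹ (b * a⁻¹)) ^ γ * 1)) (v ^ α * (v ^ γ * 1)) := by
    rw [hd0, e1]
    exact Pr.mul D (Pr.zpow D P1 α) (Pr.mul D (Pr.zpow D P2 γ) (Pr.of_N2 hn1))
  obtain ⟨h2, h3⟩ := Pr.uniq R D P0 h1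
  rw [mul_one] at h2 h3
  have hv3 : v ^ 3 = 1 := by
    have h4 := CPair.zpow (pN1 R D) hd 3
    rw [show (3 : ℤ) = ((3 : ℕ) : ℤ) from rfl, zpow_natCast, zpow_natCast, hd3] at h4
    exact (pN1 R D).uniq h4 (Cp.of_K (one_mem _))
  have h4 : v ^ (α + γ - 1) = 1 := by
    rw [zpow_sub, zpow_add, zpow_one, ← h3, mul_inv_cancel]
  have h5 : ((orderOf v : ℕ) : ℤ) ∣ α + γ - 1 := orderOf_dvd_iff_zpow_eq_one.2 h4
  rw [orderOf_eq_prime hv3 hv1] at h5
  have h6 : (α = 1 ∧ γ = 0) ∨ (α = 0 ∧ γ = 1) ∨ (α = 2 ∧ γ = 2) := by omega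
  rcases h6 with ⟨rfl, rfl⟩ | ⟨rfl, rfl⟩ | ⟨rfl, rfl⟩
  · rw [zpow_one, zpow_zero, mul_one] at h2
    exact hb1 h2
  · rw [zpow_one, zpow_zero, one_mul] at h2
    apply hb1
    have h7 := congrArg β h2
    rw [hinv'] at h7
    rw [h7]; group
  · apply hb2
    have hβb : β b ∈ V1 := (hX _ D.r11 b).2 hb
    have hβb' : β⁻¹ b ∈ V1 := (hX' _ D.r11 b).2 hb
    have hβa' : β⁻¹ a⁻¹ ∈ V1 := (hX' _ D.r11 _).2 (inv_mem haV)
    have q : ∀ y ∈ V1, y ^ (2 : ℤ) = y⁻¹ := by
      intro y hy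
      rw [eq_inv_iff_mul_eq_one, ← zpow_add_one]
      have := hexp1 y hy
      rwa [← zpow_natCast] at this
    rw [q _ (mul_mem hβb haV), q _ ((hX' _ D.r11 _).2 (mul_mem hb (inv_mem haV))), map_mul] at h2
    -- `b = (β b a)⁻¹ (β⁻¹ b β⁻¹ a⁻¹)⁻¹`
    calc b * β b * β⁻¹ b * (a * β⁻¹ a⁻¹) = (β⁻¹ b * β⁻¹ a⁻¹) * (β b * a) * b := by
          rw [hVab b hb (β b) hβb, mul_assoc (β b) b, hVab b hb _ hβb']
          rw [← hVab _ (mul_mem hβb haV) _ (mul_mem hβb' hβa')]
          have c1 := hVab b hb a haV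
          have c2 := hVab b hb (β⁻¹ a⁻¹) hβa'
          have c3 := hVab (β⁻¹ b) hβb' a haV
          calc β b * (β⁻¹ b * b) * (a * β⁻¹ a⁻¹) = β b * β⁻¹ b * (b * a) * β⁻¹ a⁻¹ := by group
            _ = β b * (β⁻¹ b * a) * (b * β⁻¹ a⁻¹) := by rw [c1]; group
            _ = β b * (a * β⁻¹ b) * (β⁻¹ a⁻¹ * b) := by rw [c3, c2]
            _ = _ := by group
      _ = (β⁻¹ b * β⁻¹ a⁻¹) * (β b * a) * ((β b * a)⁻¹ * (β⁻¹ b * β⁻¹ a⁻¹)⁻¹) := by rw [← h2]
      _ = 1 := by group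

end Out

end Cfsg.Agent.H491.Wf.GOut
end

-- part: H491/Wf/GAsm
section
/-!
# A triple bond in characteristic three: assembly (S3826)

* `act_of_diag`, `tp_ub` : the automorphisms `conj u * β`, `β` a frame automorphism;
* `grow_of` : `GRow 3 K` for a root group datum with a triple bond, whose outer automorphisms of order three are
  conjugate to some `conj u * β`, `β` trivial on the long simple root group.
-/

set_option autoImplicit false
set_option linter.unusedSectionVars false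
set_option maxHeartbeats 400000

namespace Cfsg.Agent.H491.Wf.GAsm

open Cfsg CoxeterSystem Cfsg.Agent.ChevalleyStructure.CoxeterGeom Cfsg.Agent.Tits.Roots Cfsg.Agent.Tits.Core
  Cfsg.Agent.Tits.Core.Bldg
  Cfsg.Agent.Tits.OfBN Cfsg.Agent.Schreier.BNSch Cfsg.Agent.Tits.OppRes Cfsg.Agent.FixBN.OfBN
  Cfsg.Agent.Tits.RootComb Cfsg.Agent.Nodes.Comb Cfsg.Agent.Nodes.Reps Cfsg.Agent.Nodes.BNOf
  Cfsg.Agent.Nodes.StabComb Cfsg.Agent.Nodes.Bruhat Cfsg.Agent.Nodes.OppDec Cfsg.Agent.Nodes.LeviDec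
  Cfsg.Agent.LieExceptional.BNPairCore
open Cfsg.Agent.FixBN (Sys Split)
open Cfsg.Agent.FixOdd (Tw)
open Cfsg.Agent.H460.Typed Cfsg.Agent.H460.EllC Cfsg.Agent.H460.PanL
  Cfsg.Agent.H185.TypedTw Cfsg.Agent.H460.EllPan Cfsg.Agent.H460.Engine
open Cfsg.Agent.H694 (PJ_sub mem_PJ)
open Cfsg.Agent.KFacts.RgdAut Cfsg.Agent.KFacts.RgdDiag Cfsg.Agent.KFacts.RgdField Cfsg.Agent.KFacts.RgdNodes
open Cfsg.Agent.H533.T5 Cfsg.Agent.H491.Wf.GR
open Cfsg.Agent.H798 Cfsg.Agent.H798.T5Geo Cfsg.Agent.H798.T5Pan Cfsg.Agent.H798.T5Tp Cfsg.Agent.H798.T5Asm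
open Cfsg.Agent.H798.T5Root (X_inf_V)
open Cfsg.Agent.H491.Wf.Pan Cfsg.Agent.H491.Wf.GKey Cfsg.Agent.H491.Wf.GOut

section Act

variable {K : Type*} [Group K] [Finite K] {ℓ : ℕ} [Fact ℓ.Prime] {l : ℕ} {M : CoxeterMatrix (Fin l)} {Q : Fin l → ℕ}
  {A : Fin l → Fin l → ℤ} {h : IsCartan M A} {T : Subgroup K} {n : Fin l → K}
  {X : (Fin l → ℤ) → Subgroup K} [Finite M.Group]

variable (R : RGD M.toCoxeterSystem h ℓ T n X) {E : Eng ℓ K M Q} (hB : E.P.B = RGD.B M.toCoxeterSystem h T X)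
  (he : ∀ i, (E.e i : K) = n i)

include R hB

/-- the action of a frame automorphism -/
theorem act_of_diag {φ : MulAut K} (D : _root_.Cfsg.Agent.KFacts.RgdDiag.Diag T X φ 1) (hA : ∀ σ : Equiv.Perm (Fin l),
    (∀ i j, M (σ i) (σ j) = M i j) → σ ^ ℓ = 1 → σ = 1) (hφ : φ ^ ℓ = 1) :
    ∃ θ, Act E φ θ ∧ ∀ g : K, θ (QuotientGroup.mk g) = QuotientGroup.mk (φ g) := by
  obtain ⟨t, ht, hp⟩ := E.exists_t φ
  have hθ := hp ℓ hφ
  have hσ : ∀ i, t.σ i = i := fun i => by
    rw [hA t.σ (E.sigma_M t) (E.sigma_pow hθ)]; rfl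
  have hact : Act E φ t.θ := by
    have := Act.of_tw (E := E) (t := t) hσ
    rwa [ht] at this
  have hX : ∀ z, IsRoot M.toCoxeterSystem h z → ∀ y, φ y ∈ X z ↔ y ∈ X z := by
    intro z hz y
    have := D.root_comp R (fun _ _ => rfl) hz y
    exact this
  have hBB : ∀ b ∈ E.P.B, φ b ∈ E.P.B := by
    intro b hb
    rw [hB] at hb ⊢
    have h1 : RGD.B M.toCoxeterSystem h T X ≤ (RGD.B M.toCoxeterSystem h T X).comap φ.toMonoidHom := by
      refine sup_le (fun y hy => ?_) (RGD.Sup_le fun z hz y hy => ?_)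
      · exact RGD.T_le_B ((D.tor y).2 hy)
      · exact RGD.U_le_B (RGD.le_Sup (S := RGD.Pos M.toCoxeterSystem h) hz ((hX z hz.1 y).2 hy))
    exact h1 hb
  have hc : t.θ (QuotientGroup.mk 1) = QuotientGroup.mk 1 := by
    refine (_root_.Cfsg.Agent.H460.Engine.fixed_iff t 1).2 fun b hb => ?_
    rw [H459.Gallery.cx_one, ht]
    exact hBB b hb
  refine ⟨t.θ, hact, fun g => ?_⟩
  have h1 := theta_mk_of_fixed hc g
  rw [one_mul, one_mul, H459.Gallery.cx_one, ht] at h1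
  exact h1

include he

/-- `conj u * φ` on the panel of type `i` of the standard chamber -/
theorem tp_ub {φ : MulAut K} (D : _root_.Cfsg.Agent.KFacts.RgdDiag.Diag T X φ 1) (hA : ∀ σ : Equiv.Perm (Fin l), (∀ i j, M (σ i) (σ j) = M i j) →
    σ ^ ℓ = 1 → σ = 1) (hφ : φ ^ ℓ = 1) {u : K} (hu : u ∈ RGD.Sup X (RGD.Pos M.toCoxeterSystem h)) {i : Fin l} {r : K}
    (hr : r ∈ X (sr i)) (hn : r⁻¹ * u * φ r ∉ VJ M.toCoxeterSystem h X {i}) : TP E (MulAut.conj u * φ) i := by
  obtain ⟨θ, hact, hθ⟩ := act_of_diag R hB D hA hφ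
  have hX : ∀ y, φ y ∈ X (sr i) ↔ y ∈ X (sr i) := fun y => D.pos i y
  refine ⟨_, (Act.inner u).mul hact, QuotientGroup.mk 1, ?_, QuotientGroup.mk (1 * (r * n i)), ?_, ?_⟩
  · show u • θ (QuotientGroup.mk 1) = _
    rw [hθ, map_one, smul_mk, mul_one, mk_eq, hB, mul_one]
    exact inv_mem (RGD.U_le_B hu)
  · rw [E.Δ.Pan_eq_Res, mem_Res, bldg_δ_mk, inv_mul_cancel_left, ← _root_.Cfsg.Agent.H694.mem_PJ E.e E.cs E.hcs, PJ_singleton, ← he i]
    refine mul_mem (B_le_parabolic E.P _ ?_) (mem_parabolic_self E.P _)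
    rw [hB]
    exact RGD.X_le_B (isRoot_sr _ h i) (sr_nonneg i) hr
  · intro h1
    have h1' : u • θ (QuotientGroup.mk (1 * (r * n i))) = QuotientGroup.mk (1 * (r * n i)) := h1
    rw [hθ, smul_mk] at h1'
    have h2 := mk_eq.1 h1'.symm
    have h3 : Rp M.toCoxeterSystem R.nsys (M.toCoxeterSystem.simple i) (φ (n i)) := D.rp (R := R) i
    have h4 : (n i)⁻¹ * φ (n i) ∈ T := by
      have := (rp_simple M.toCoxeterSystem R.nsys i).inv.mul h3
      rw [inv_mul_cancel] at this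
      exact this.mem_of_one
    have h5 : (n i)⁻¹ * (r⁻¹ * u * φ r) * (n i)⁻¹⁻¹ ∈ RGD.B M.toCoxeterSystem h T X := by
      rw [hB] at h2
      have e : (n i)⁻¹ * (r⁻¹ * u * φ r) * (n i)⁻¹⁻¹ = (1 * (r * n i))⁻¹ * (u * φ (1 * (r * n i))) *
          ((n i)⁻¹ * φ (n i))⁻¹ := by
        rw [one_mul, map_mul]; group
      rw [e]
      exact mul_mem h2 (inv_mem (RGD.T_le_B h4))
    have hk : Rp M.toCoxeterSystem R.nsys (M.toCoxeterSystem.simple i) (n i)⁻¹ := by
      have := (rp_simple M.toCoxeterSystem R.nsys i).inv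
      rwa [M.toCoxeterSystem.inv_simple] at this
    have hXU : X (sr i) ≤ RGD.Sup X (RGD.Pos M.toCoxeterSystem h) :=
      RGD.le_Sup (S := RGD.Pos M.toCoxeterSystem h) ⟨isRoot_sr _ h i, sr_nonneg i⟩
    apply hn
    refine mem_V_of_conj R hk (a := i) ?_ (mul_mem (mul_mem (inv_mem (hXU hr)) hu) (hXU ((hX r).2 hr))) h5
    rw [rep_simple_sr]
    exact neg_nonpos.2 (sr_nonneg i)

end Act

section Asm

variable {K : Type*} [Group K] [Finite K] {l : ℕ} {M : CoxeterMatrix (Fin l)} {Q : Fin l → ℕ}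
  {A : Fin l → Fin l → ℤ} {h : IsCartan M A} {T : Subgroup K} {n : Fin l → K}
  {X : (Fin l → ℤ) → Subgroup K} [Finite M.Group]

/-- a frame automorphism of order three, trivial on the long simple root group, and not on the short one -/
structure OD (T : Subgroup K) (X : (Fin l → ℤ) → Subgroup K) (i j : Fin l) (β : MulAut K) : Prop where
  diag : _root_.Cfsg.Agent.KFacts.RgdDiag.Diag T X β 1
  pow : β ^ 3 = 1
  long : ∀ v ∈ X (sr i), β v = v
  short : ∃ x ∈ X (sr j), x * β x * β⁻¹ x ≠ 1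

/-- a fixed point of `β` is one of `β⁻¹` -/
theorem inv_apply_of {K : Type*} [Group K] {β : MulAut K} {x : K} (hx : β x = x) : β⁻¹ x = x := by
  conv_lhs => rw [← hx]
  exact β.symm_apply_apply x

variable (R : RGD M.toCoxeterSystem h 3 T n X) {E : Eng 3 K M Q} (hB : E.P.B = RGD.B M.toCoxeterSystem h T X)
  (he : ∀ i, (E.e i : K) = n i) {i j : Fin l} (D : T5GTwo.G2 M.toCoxeterSystem h X i j)

include R hB he

omit D in
/-- the short type occurs -/
theorem tp_short {β : MulAut K} (O : OD T X i j β) (hA : ∀ σ : Equiv.Perm (Fin l),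
    (∀ i j, M (σ i) (σ j) = M i j) → σ ^ 3 = 1 → σ = 1) (hexp : ∀ x ∈ X (sr j), x ^ 3 = 1) {u : K}
    (hu : u ∈ RGD.Sup X (RGD.Pos M.toCoxeterSystem h)) : TP E (MulAut.conj u * β) j := by
  by_cases h1 : u ∈ VJ M.toCoxeterSystem h X {j}
  · obtain ⟨x, hx, hxN⟩ := O.short
    refine tp_ub R hB he O.diag hA O.pow hu hx fun h2 => ?_
    have hP : x⁻¹ ∈ PJ M.toCoxeterSystem h T X {j} :=
      inv_mem (LJ_le_PJ (X_le_LJ (PosJ_subset {j} (sr_mem_PosJ rfl)) hx))
    have h3 : x⁻¹ * u * x⁻¹⁻¹ ∈ VJ M.toCoxeterSystem h X {j} := (P_conj_V R hP).2 h1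
    have e : x⁻¹ * u * β x = (x⁻¹ * u * x⁻¹⁻¹) * (x⁻¹ * β x) := by group
    rw [e] at h2
    have h4 := (mul_mem_cancel_left h3).1 h2
    have h5 := X_inf_V R (mul_mem (inv_mem hx) ((O.diag.pos j x).2 hx)) h4
    have h6 : β x = x := (inv_mul_eq_one.1 h5).symm
    apply hxN
    have h7 : β⁻¹ x = x := inv_apply_of h6
    rw [h6, h7]
    have := hexp x hx
    simpa only [pow_succ, pow_zero, one_mul] using this
  · refine tp_ub R hB he O.diag hA O.pow hu (one_mem _) ?_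
    rwa [inv_one, one_mul, map_one, mul_one]

include D

/-- an outer automorphism acting non-trivially on panels of short type only, against a long element -/
theorem gpair_outer (hall : ∀ k, k = i ∨ k = j) (hab : ∀ z, IsRoot M.toCoxeterSystem h z → ∀ a ∈ X z, ∀ b ∈ X z,
    a * b = b * a) (hexp : ∀ x ∈ X (sr j), x ^ 3 = 1) (hinj : Function.Injective (MulAut.conj : K →* MulAut K))
    {β : MulAut K} (O : OD T X i j β) {u : K} (hu : u ∈ VJ M.toCoxeterSystem h X {i})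
    (hc3 : (MulAut.conj u * β) ^ 3 = 1) {y : K} (hy3 : y ^ 3 = 1) (hyi : NT M.toCoxeterSystem h X y i)
    (hyj : ¬ NT M.toCoxeterSystem h X y j) :
    GPair 3 (MulAut.conj : K →* MulAut K).range (MulAut.conj u * β) (MulAut.conj y) := by
  -- `u = x0 q0`
  have hUj : u ∈ X (sr j) ⊔ VJ M.toCoxeterSystem h X {j} := by
    refine (RGD.Sup_le fun z hz => ?_ : RGD.Sup X (RGD.Pos M.toCoxeterSystem h) ≤ _) (VJ_le_U _ hu)
    rcases mem_PosJ_or_NotJ {j} hz.1 hz.2 with h2 | h2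
    · have h3 : z = sr j := hz.1.eq_sr hz.2 j fun k hk => h2.2.2 k hk
      rw [h3]
      exact le_sup_left
    · exact le_trans (RGD.le_Sup h2) le_sup_right
  obtain ⟨x0, hx0, q0, hq0, e0⟩ := T5Root.XV_split R (PosJ_subset {j} (sr_mem_PosJ rfl)) hUj
  have hx0' : x0 ∈ X (T5Root.rt i j 0 1) := by rwa [T5Root.rt_zero_one]
  have hx0V : x0 ∈ VJ M.toCoxeterSystem h X {i} :=
    RGD.le_Sup (S := NotJ M.toCoxeterSystem h {i}) (sr_mem_NotJ fun h4 => D.ne h4.symm) hx0
  have hq0V : q0 ∈ VJ M.toCoxeterSystem h X {i} := by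
    have e : q0 = x0⁻¹ * u := by rw [e0]; group
    rw [e]
    exact mul_mem (inv_mem hx0V) hu
  have hq0A := AA_le_V D hall hq0
  rw [sup_comm] at hq0A
  obtain ⟨v0, hv0⟩ := (pN1 R D).ex hq0A
  have hv01 : v0 = 1 := by
    have h1 : v0 ∈ VJ M.toCoxeterSystem h X {i} := by
      have e : v0 = (q0 * v0⁻¹)⁻¹ * q0 := by group
      rw [e]
      exact mul_mem (inv_mem (N1_le_V D hv0.2)) hq0V
    refine X_inf_V R ?_ h1
    have := hv0.1
    rwa [T5Root.rt_one_zero] at this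
  rw [hv01] at hv0
  have hq0N := hv0.mem
  -- `y`
  obtain ⟨g1, hg1, hg1'⟩ := hyi
  have hVj := AA_le_V D hall (mem_V_of_not_NT hyj g1 hg1)
  obtain ⟨v, hv⟩ := (pN1 R D).ex (by rw [sup_comm]; exact hVj)
  have hv1 : v ≠ 1 := by
    rintro rfl
    exact hg1' (N1_le_V D hv.mem)
  obtain ⟨x, hx, hxN⟩ := O.short
  have hx' : x ∈ X (T5Root.rt i j 0 1) := by rwa [T5Root.rt_zero_one]
  have hd3 : (g1 * y * g1⁻¹) ^ 3 = 1 := by rw [conj_pow, hy3]; group
  obtain ⟨r, K₁, k1, k2, k3⟩ := outer_core R D hab O.diag (fun v hv => O.long v (by rwa [T5Root.rt_one_zero] at hv))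
    (fun x hx => hexp x (by rwa [T5Root.rt_zero_one] at hx)) hx' hxN hx0' hq0N hv hv1 hd3
  rw [← e0] at k1 k2
  set d0 := r * (g1 * y * g1⁻¹) * r⁻¹ with hd0
  refine GPair.conj_right (s := MulAut.conj (r * g1)) ⟨_, rfl⟩ ?_
  have e1 : MulAut.conj (r * g1) * MulAut.conj y * (MulAut.conj (r * g1))⁻¹ = MulAut.conj d0 := by
    rw [← map_inv, ← map_mul, ← map_mul, hd0]
    congr 1
    group
  rw [e1]
  have e2 : ∀ (φ : MulAut K) (k : K), φ * MulAut.conj k * φ⁻¹ = MulAut.conj (φ k) := by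
    intro φ k
    ext z
    show φ (k * φ⁻¹ z * k⁻¹) = φ k * z * (φ k)⁻¹
    rw [map_mul, map_mul, map_inv]
    congr 2
    exact φ.apply_symm_apply z
  refine GPair.of_key hc3 (K₁ := K₁.map (MulAut.conj : K →* MulAut K)) ?_ ?_ ?_
  · rw [e2]
    exact ⟨_, k1, rfl⟩
  · have e3 : (MulAut.conj u * β)⁻¹ * MulAut.conj d0 * (MulAut.conj u * β) =
        MulAut.conj ((MulAut.conj u * β)⁻¹ d0) := by
      have := e2 (MulAut.conj u * β)⁻¹ d0
      rwa [inv_inv] at this
    rw [e3]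
    refine ⟨_, k2, ?_⟩
    congr 1
  · rintro ⟨z, hz, hz'⟩
    rw [hinj hz'] at hz
    exact k3 hz

/-- **The row.** -/
theorem grow_of [IsSimpleGroup K] (hcc : ∃ a b : K, a * b ≠ b * a) (hG : GG M.toCoxeterSystem h T X = ⊤)
    (hF : ∀ i, FNode E.P E.U (E.e i : K) (Q i)) (hall : ∀ k, k = i ∨ k = j)
    (hab : ∀ z, IsRoot M.toCoxeterSystem h z → ∀ a ∈ X z, ∀ b ∈ X z, a * b = b * a)
    (hexp : ∀ x ∈ X (sr j), x ^ 3 = 1)
    (hA : ∀ σ : Equiv.Perm (Fin l), (∀ i j, M (σ i) (σ j) = M i j) → σ ^ 3 = 1 → σ = 1)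
    (hout : ∀ c : MulAut K, orderOf c = 3 → (∃ g : K, c = MulAut.conj g) ∨
      ∃ (g u : K) (β : MulAut K), u ∈ RGD.Sup X (RGD.Pos M.toCoxeterSystem h) ∧ OD T X i j β ∧
        c = MulAut.conj g * (MulAut.conj u * β) * (MulAut.conj g)⁻¹) : GRow 3 K := by
  have pw : ∀ {c : MulAut K}, orderOf c = 3 → c ^ 3 = 1 := fun {c} hc => by rw [← hc, pow_orderOf_eq_one]
  have hne : Nonempty (Fin l) := ⟨i⟩
  have hNT : ∀ x : K, x ^ 3 = 1 → x ≠ 1 → NT M.toCoxeterSystem h X x i ∨ NT M.toCoxeterSystem h X x j := by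
    intro x hx hx1
    obtain ⟨k, hk⟩ := exists_NT R hG (c := x) (by
      rw [IsPGroup.iff_card]
      refine ⟨1, ?_⟩
      rw [Nat.card_zpowers, pow_one, orderOf_eq_prime hx hx1]) hx1
    rcases hall k with rfl | rfl
    · exact Or.inl hk
    · exact Or.inr hk
  have hinj : Function.Injective (MulAut.conj : K →* MulAut K) := by
    rw [injective_iff_map_eq_one]
    intro x hx
    by_contra hx1
    rcases (inferInstance : (MulAut.conj : K →* MulAut K).ker.Normal).eq_bot_or_eq_top with h3 | h3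
    · apply hx1
      rw [← Subgroup.mem_bot, ← h3]
      exact hx
    · obtain ⟨a, b, hab⟩ := hcc
      apply hab
      have h4 : a ∈ (MulAut.conj : K →* MulAut K).ker := h3 ▸ Subgroup.mem_top a
      have h5 : a * b * a⁻¹ = b := by
        have := congrArg (fun f : MulAut K => f b) (MonoidHom.mem_ker.1 h4)
        simpa only [_root_.MulAut.conj_apply, _root_.MulAut.one_apply] using this
      calc a * b = a * b * a⁻¹ * a := by group
        _ = b * a := by rw [h5]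
  have com : ∀ {c d : MulAut K} {k : Fin l}, c ^ 3 = 1 → d ^ 3 = 1 → TP E c k → TP E d k →
      GPair 3 (MulAut.conj : K →* MulAut K).range c d := fun {c d k} hc hd h1 h2 =>
    GPair.of_wpair (wpair_of_TP (by norm_num) (hF k) h1 h2 hc hd)
  have up : ∀ {x y : K}, GPair 3 (⊤ : Subgroup K) x y →
      GPair 3 (MulAut.conj : K →* MulAut K).range (MulAut.conj x) (MulAut.conj y) := by
    intro x y h
    have h6 := h.of_injective (MulAut.conj : K →* MulAut K) hinj
    rwa [← MonoidHom.range_eq_map] at h6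
  have i3 : ∀ {x : K}, x ^ 3 = 1 → (MulAut.conj x) ^ 3 = 1 := fun {x} hx => by rw [← map_pow, hx, map_one]
  -- outer against inner
  have oi : ∀ {c : MulAut K} {y : K}, c ^ 3 = 1 → y ^ 3 = 1 → y ≠ 1 → (∃ (g u : K) (β : MulAut K),
      u ∈ RGD.Sup X (RGD.Pos M.toCoxeterSystem h) ∧ OD T X i j β ∧
        c = MulAut.conj g * (MulAut.conj u * β) * (MulAut.conj g)⁻¹) →
      GPair 3 (MulAut.conj : K →* MulAut K).range c (MulAut.conj y) := by
    rintro c y hc hy hy1 ⟨g, u, β, hu, O, rfl⟩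
    refine GPair.conj_left (s := (MulAut.conj g)⁻¹) ⟨g⁻¹, map_inv _ _⟩ ?_
    have e : (MulAut.conj g)⁻¹ * (MulAut.conj g * (MulAut.conj u * β) * (MulAut.conj g)⁻¹) * (MulAut.conj g)⁻¹⁻¹ =
        MulAut.conj u * β := by group
    rw [e]
    have hc3 : (MulAut.conj u * β) ^ 3 = 1 := by
      rw [conj_pow] at hc
      have e1 : (MulAut.conj u * β) ^ 3 = (MulAut.conj g)⁻¹ * (MulAut.conj g * (MulAut.conj u * β) ^ 3 *
        (MulAut.conj g)⁻¹) * MulAut.conj g := by group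
      rw [e1, hc]; group
    by_cases h1 : NT M.toCoxeterSystem h X y j
    · exact com hc3 (i3 hy) (tp_short R hB he O hA hexp hu) (tp_of_NT R hB he h1)
    · have h2 := (hNT y hy hy1).resolve_right h1
      by_cases h3 : u ∈ VJ M.toCoxeterSystem h X {i}
      · exact gpair_outer R hB he D hall hab hexp hinj O h3 hc3 hy h2 h1
      · refine com (k := i) hc3 (i3 hy) ?_ (tp_of_NT R hB he h2)
        refine tp_ub R hB he O.diag hA O.pow hu (one_mem _) ?_
        rwa [inv_one, one_mul, map_one, mul_one]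
  intro c d hc hd
  rcases hout c hc with hc1 | hc1
  · obtain ⟨x, rfl, hx, hx1⟩ := exists_of_inner hcc hc1 hc
    rcases hout d hd with hd1 | hd1
    · obtain ⟨y, rfl, hy, hy1⟩ := exists_of_inner hcc hd1 hd
      by_cases a1 : NT M.toCoxeterSystem h X x i <;> by_cases a2 : NT M.toCoxeterSystem h X y i
      · exact com (i3 hx) (i3 hy) (tp_of_NT R hB he a1) (tp_of_NT R hB he a2)
      · have a3 := (hNT y hy hy1).resolve_left a2
        by_cases a4 : NT M.toCoxeterSystem h X x j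
        · exact com (i3 hx) (i3 hy) (tp_of_NT R hB he a4) (tp_of_NT R hB he a3)
        · exact (up (gpair_inner R D hab hall hx hy a1 a4 a3)).symm
      · have a3 := (hNT x hx hx1).resolve_left a1
        by_cases a4 : NT M.toCoxeterSystem h X y j
        · exact com (i3 hx) (i3 hy) (tp_of_NT R hB he a3) (tp_of_NT R hB he a4)
        · exact up (gpair_inner R D hab hall hy hx a2 a4 a3)
      · exact com (i3 hx) (i3 hy) (tp_of_NT R hB he ((hNT x hx hx1).resolve_left a1))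
          (tp_of_NT R hB he ((hNT y hy hy1).resolve_left a2))
    · exact (oi (pw hd) hx hx1 hd1).symm
  · rcases hout d hd with hd1 | hd1
    · obtain ⟨y, rfl, hy, hy1⟩ := exists_of_inner hcc hd1 hd
      exact oi (pw hc) hy hy1 hc1
    · obtain ⟨g, u, β, hu, O, rfl⟩ := hc1
      obtain ⟨g', u', β', hu', O', rfl⟩ := hd1
      have red : ∀ {g u : K} {β : MulAut K}, (MulAut.conj g * (MulAut.conj u * β) * (MulAut.conj g)⁻¹) ^ 3 = 1 →
          (MulAut.conj u * β) ^ 3 = 1 := by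
        intro g u β hc
        rw [conj_pow] at hc
        have e1 : (MulAut.conj u * β) ^ 3 = (MulAut.conj g)⁻¹ * (MulAut.conj g * (MulAut.conj u * β) ^ 3 *
          (MulAut.conj g)⁻¹) * MulAut.conj g := by group
        rw [e1, hc]; group
      refine GPair.of_conj (s := (MulAut.conj g)⁻¹) (t := (MulAut.conj g')⁻¹) ⟨g⁻¹, map_inv _ _⟩ ⟨g'⁻¹, map_inv _ _⟩ ?_
      have e : ∀ (g u : K) (β : MulAut K), (MulAut.conj g)⁻¹ * (MulAut.conj g * (MulAut.conj u * β) *
          (MulAut.conj g)⁻¹) * (MulAut.conj g)⁻¹⁻¹ = MulAut.conj u * β := fun g u β => by group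
      rw [e, e]
      exact com (red (pw hc)) (red (pw hd)) (tp_short R hB he O hA hexp hu) (tp_short R hB he O' hA hexp hu')

end Asm

end Cfsg.Agent.H491.Wf.GAsm
end

-- part: H491/Wf/D4Row
section
/-!
# `³D₄(3^a)`, own characteristic (S3826)

* `exists_trace_ne` : a field automorphism of order three has an element of non-zero trace;
* `fixes_of_card` : an automorphism of order three of a field with `q ^ 3` elements fixes the field with `q` elements;
* `hout_D4` : the automorphisms of order three of `³D₄(q)`, `3 ∣ q`, up to inner automorphisms `conj u * β`;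
* `wf_3D4` : the row.
-/

set_option autoImplicit false
set_option linter.unusedSectionVars false
set_option maxHeartbeats 400000

namespace Cfsg.Agent.H491.Wf.D4Row

open CoxeterSystem Cfsg.Agent.ChevalleyStructure.CoxeterGeom Cfsg.Agent.Tits.Roots Cfsg.Agent.Tits.Core
  Cfsg.Agent.Tits.Exchange Cfsg.Agent.Nodes.Reps Cfsg.Agent.Nodes.BNOf Cfsg.Agent.Nodes.BNOf.RGD
  Cfsg.Agent.Nodes.StabComb
  Cfsg.Agent.Nodes.Bruhat Cfsg.Agent.Nodes.OppDec Cfsg.Agent.Nodes.RGDTwGen Cfsg.Agent.Nodes.RGDChev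
  Cfsg.Agent.Nodes.RGDFold Cfsg.Agent.Nodes.RGDFoldSL
open Cfsg.Agent.KFacts.RgdOpp Cfsg.Agent.KFacts.RgdAut Cfsg.Agent.KFacts.RgdDiag Cfsg.Agent.KFacts.RgdRigid
  Cfsg.Agent.KFacts.RgdField Cfsg.Agent.KFacts.RgdTau Cfsg.Agent.KFacts.RgdNodes Cfsg.Agent.KFacts.RgdFilt
open Cfsg.Lie Cfsg.Agent.ChevalleyStructure Cfsg.Agent.ChevalleyStructure.Elts Cfsg.Agent.ChevStructure.FieldMap
open Cfsg.Agent.ChevalleyStructure.SL2Hom (up lo)
open Cfsg.Agent.FixBN Cfsg.Agent.FixBN.FieldRGD Cfsg.Agent.H460.Typed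
open Cfsg.Agent.H533.T5
open Cfsg.Agent.H798 Cfsg.Agent.H798.T5Geo Cfsg.Agent.H798.T5Pan Cfsg.Agent.H798.T5Tp Cfsg.Agent.H798.T5Asm
  Cfsg.Agent.H798.T5Tw
open Cfsg.Agent.H798.T5Untw (comm_of_not)
open Cfsg.Agent.CpAut Cfsg.Agent.CpAut.RgdConj
open Cfsg.Agent.H491.Wf.GR Cfsg.Agent.H491.Wf.GAsm
open scoped MatrixGroups

section Fields

/-- **Non-zero trace.** -/
theorem exists_trace_ne {F : Type*} [Field F] {τ : F ≃+* F} (hτ : τ ^ 3 = 1) (h1 : τ ≠ 1) :
    ∃ s : F, s + τ s + τ⁻¹ s ≠ 0 := by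
  by_contra hcon
  push Not at hcon
  obtain ⟨t, ht⟩ : ∃ t, τ t ≠ t := by
    by_contra h2
    push Not at h2
    exact h1 (RingEquiv.ext h2)
  have h2 : ∀ s, τ s * (τ t - t) + τ⁻¹ s * (τ⁻¹ t - t) = 0 := by
    intro s
    have e1 := hcon (s * t)
    have e2 := hcon s
    rw [map_mul, map_mul] at e1
    linear_combination e1 - t * e2
  have h3 := h2 1
  rw [map_one, map_one, one_mul, one_mul] at h3
  have h4 : ∀ s, τ s = τ⁻¹ s := by
    intro s
    have h5 : (τ s - τ⁻¹ s) * (τ t - t) = 0 := by linear_combination h2 s - τ⁻¹ s * h3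
    rcases mul_eq_zero.1 h5 with h6 | h6
    · exact sub_eq_zero.1 h6
    · exact absurd (sub_eq_zero.1 h6) ht
  have h5 : τ = τ⁻¹ := RingEquiv.ext h4
  have h6 : τ ^ 2 = 1 := by
    rw [pow_two]
    nth_rewrite 2 [h5]
    exact mul_inv_cancel τ
  apply h1
  rw [pow_succ, h6, one_mul] at hτ
  exact hτ

/-- An automorphism of order three of a field with `q ^ 3` elements fixes the field with `q` elements. -/
theorem fixes_of_card {F : Type*} [Field F] [Fintype F] {q : ℕ} (hq : 1 < q) (hK : Fintype.card F = q ^ 3)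
    {τ : F ≃+* F} (hτ : τ ^ 3 = 1) (h1 : τ ≠ 1) {a : F} (ha : a ^ q = a) : τ a = a := by
  classical
  have : Fact (Nat.Prime 3) := ⟨Nat.prime_three⟩
  have h2 := Line.card_eq_pow (p := 3) hτ h1
  rw [Nat.card_eq_fintype_card, hK] at h2
  have h3 : Nat.card {t : F // τ t = t} = q := (Nat.pow_left_injective (by norm_num : (3 : ℕ) ≠ 0) h2).symm
  -- the fixed field
  let F₀ : Subfield F :=
    { carrier := {t | τ t = t}
      mul_mem' := fun {x y} hx hy => by
        show τ (x * y) = x * y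
        rw [map_mul, show τ x = x from hx, show τ y = y from hy]
      one_mem' := map_one τ
      add_mem' := fun {x y} hx hy => by
        show τ (x + y) = x + y
        rw [map_add, show τ x = x from hx, show τ y = y from hy]
      zero_mem' := map_zero τ
      neg_mem' := fun {x} hx => by
        show τ (-x) = -x
        rw [map_neg, show τ x = x from hx]
      inv_mem' := fun x hx => by
        show τ x⁻¹ = x⁻¹
        rw [map_inv₀, show τ x = x from hx] }
  have : Fintype ↥F₀ := Fintype.ofFinite _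
  have h4 : Fintype.card ↥F₀ = q := by rw [← Nat.card_eq_fintype_card]; exact h3
  have h5 : ∀ t ∈ F₀, t ^ q = t := by
    intro t ht
    have := FiniteField.pow_card (⟨t, ht⟩ : ↥F₀)
    rw [h4] at this
    exact congrArg Subtype.val this
  -- the roots of `X ^ q - X`
  have h6 : (Polynomial.X ^ q - Polynomial.X : Polynomial F) ≠ 0 := FiniteField.X_pow_card_sub_X_ne_zero F hq
  have h7 : (Polynomial.X ^ q - Polynomial.X : Polynomial F).natDegree = q :=
    FiniteField.X_pow_card_sub_X_natDegree_eq F hq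
  have hmem : ∀ t : F, t ^ q = t → t ∈ (Polynomial.X ^ q - Polynomial.X : Polynomial F).roots.toFinset := by
    intro t ht
    rw [Multiset.mem_toFinset, Polynomial.mem_roots h6]
    simp [Polynomial.IsRoot, ht]
  have h8 : (Polynomial.X ^ q - Polynomial.X : Polynomial F).roots.toFinset.card ≤ q := by
    refine (Multiset.toFinset_card_le _).trans ((Polynomial.card_roots' _).trans (le_of_eq h7))
  let S₀ : Finset F := Finset.univ.filter fun t => τ t = t
  have h9 : S₀.card = q := by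
    rw [← h3, Nat.card_eq_fintype_card, Fintype.card_subtype]
  have h10 : S₀ ⊆ (Polynomial.X ^ q - Polynomial.X : Polynomial F).roots.toFinset := by
    intro t ht
    exact hmem t (h5 t (Finset.mem_filter.1 ht).2)
  have h11 := Finset.eq_of_subset_of_card_le h10 (h8.trans (le_of_eq h9.symm))
  have h12 := hmem a ha
  rw [← h11] at h12
  exact (Finset.mem_filter.1 h12).2

end Fields

section D4

open Cfsg.Agent.ChevalleyStructure.SignedSymm
open Cfsg.Agent.KFacts.TwDFour.Out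
open Cfsg.Agent.Nodes.RGDTwD4 Cfsg.Agent.Nodes.RGDTwNode.D4
open Cfsg.Agent.ParSys.Fam.D4 (hf)
open Cfsg.Agent.CpAut.RgdTwD4 (st rs st_pow ntau_st ntau_of_dtau dtau_pow eq_one_of_rs phi_three)

variable {K : Type} [Field K] [Fintype K] [CharP K 3] {q : ℕ} {φ : K →+* K}
  (hφ : ∀ x, φ x = x ^ q) (hK : Fintype.card K = q ^ 3)

local notation "cG" => CoxeterMatrix.toCoxeterSystem CoxeterMatrix.G₂

include hφ hK

theorem ab_simple (i : Fin 2) : ∀ a ∈ X φ q (sr i), ∀ b ∈ X φ q (sr i), a * b = b * a := by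
  intro a ha b hb
  obtain ⟨a, rfl⟩ := ((coordD hφ hK i).mem _).1 ha
  obtain ⟨b, rfl⟩ := ((coordD hφ hK i).mem _).1 hb
  rw [← (coordD hφ hK i).add, ← (coordD hφ hK i).add, add_comm]

theorem exp_simple (i : Fin 2) : ∀ a ∈ X φ q (sr i), a ^ 3 = 1 := by
  intro a ha
  obtain ⟨a, rfl⟩ := ((coordD hφ hK i).mem _).1 ha
  have C := coordD hφ hK i
  have h3 : a + a + a = 0 := by
    have : (3 : KD φ i) = 0 := by
      have := CharP.cast_eq_zero (KD φ i) 3
      exact_mod_cast this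
    linear_combination a * this
  rw [pow_succ, pow_two, ← C.add, ← C.add, h3, C.zero]

theorem ab_root : ∀ z, IsRoot cG Nodes.RGDTwD4.isCartan z → ∀ a ∈ X φ q z, ∀ b ∈ X φ q z, a * b = b * a := by
  have : Fact (Nat.Prime 3) := ⟨Nat.prime_three⟩
  have R := Cfsg.Agent.Nodes.RGDTwD4.rgd cG hK hφ 3
  rintro z ⟨w, i, rfl⟩ a ha b hb
  obtain ⟨k, hk⟩ := exists_rp cG R.nsys w
  rw [← R.conj_rp hk (isRoot_sr cG _ i), mem_cj] at ha hb
  have h1 := ab_simple hφ hK i _ ha _ hb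
  have e : ∀ c d : ↥(twistedD4 K q), k⁻¹ * c * k * (k⁻¹ * d * k) = k⁻¹ * (c * d) * k := fun c d => by group
  rw [e, e] at h1
  exact mul_left_cancel (mul_right_cancel h1)

/-- **The outer automorphisms of order three.** -/
theorem hout_D4 (hq : IsPrimePow q) {α : MulAut ↥(twistedD4 K q)} (hα : orderOf α = 3) :
    (∃ g : ↥(twistedD4 K q), α = MulAut.conj g) ∨
      ∃ (g u : ↥(twistedD4 K q)) (β : MulAut ↥(twistedD4 K q)),
        u ∈ RGD.Sup (X φ q) (RGD.Pos cG Nodes.RGDTwD4.isCartan) ∧ OD (T K q) (X φ q) 0 1 β ∧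
        α = MulAut.conj g * (MulAut.conj u * β) * (MulAut.conj g)⁻¹ := by
  have : Fact (Nat.Prime 3) := ⟨Nat.prime_three⟩
  have hW := finW_D4
  have R := Cfsg.Agent.Nodes.RGDTwD4.rgd cG hK hφ 3
  have hG1 := _root_.Cfsg.Agent.Nodes.RGDTwD4.G1_eq_top cG hK hφ
  have hG := KFacts.RgdFilt.GG_eq_top (T := T K q) hG1
  have hα3 : α ^ 3 = 1 := by rw [← hα, pow_orderOf_eq_one]
  obtain ⟨g, hg⟩ := exists_fix_U R hG (k := 1) (x := α) (by rw [pow_one]; exact hα3)
  obtain ⟨α', hα'⟩ : ∃ α', α' = (MulAut.conj g)⁻¹ * α * MulAut.conj g := ⟨_, rfl⟩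
  rw [← hα'] at hg
  have hα'p : α' ^ 3 = 1 := by
    have e : (MulAut.conj g)⁻¹ * α * MulAut.conj g = (MulAut.conj g)⁻¹ * α * (MulAut.conj g)⁻¹⁻¹ := by
      rw [inv_inv]
    rw [hα', e, conj_pow, hα3]
    group
  have hαα' : α = MulAut.conj g * α' * (MulAut.conj g)⁻¹ := by rw [hα']; group
  obtain ⟨u, hu, hU, hUN, hpow, σ, D⟩ := exists_frame_pow R hG hg
  obtain ⟨β, hβ⟩ : ∃ β, β = MulAut.conj u * α' := ⟨_, rfl⟩
  rw [← hβ] at hU hUN hpow D
  have hβp : β ^ 3 = 1 := hpow 3 hα'p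
  have hσ1 : σ = 1 := by
    apply perm_G2 σ
    intro h3
    have h4 := Diag.card_eq D 0
    rw [h3] at h4
    exact card_ne hφ hK hq.one_lt h4
  subst hσ1
  have hα'β : α' = MulAut.conj u⁻¹ * β := by rw [hβ, map_inv]; group
  obtain ⟨τ, S'⟩ := exists_dtau hφ hK cG 3 D
  have S := ntau_of_dtau hφ hK S'
  have hτ3 : τ ^ 3 = 1 := by
    have h2 := dtau_pow hφ hK S' 3
    rw [hβp] at h2
    exact DTau.unique hφ hK h2 (DTau.one hφ hK)
  by_cases hτ1 : τ = 1
  · left
    subst hτ1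
    have hrs1 : rs hφ (1 : K ≃+* K) = 1 := by
      funext i
      ext a
      rfl
    rw [hrs1] at S
    have h1 : β = 1 := NTau.eq_one (coordD hφ hK) R hG1 (k := 1) S (by rw [pow_one]; exact hβp)
    refine ⟨g * u⁻¹ * g⁻¹, ?_⟩
    rw [hαα', hα'β, h1, mul_one, map_mul, map_mul, map_inv, map_inv]
  · right
    refine ⟨g, u⁻¹, β, inv_mem hu, ⟨D, hβp, ?_, ?_⟩, by rw [hαα', hα'β]⟩
    · -- trivial on the long simple root group
      intro v hv
      obtain ⟨a₀, ha₀, e⟩ := NTau.pure (coordD hφ hK) R S (k := 1) (by rw [pow_one]; exact hβp) 0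
      obtain ⟨a, rfl⟩ := ((coordD hφ hK 0).mem v).1 hv
      have h1 : a = a₀ * (a₀⁻¹ * a) := by rw [mul_inv_cancel_left₀ ha₀]
      have h2 : ∀ b : KD φ 0, rs hφ τ 0 b = b := by
        intro b
        apply Subtype.ext
        show τ (b : K) = b
        apply fixes_of_card hq.one_lt hK hτ3 hτ1
        have := mem_Fx.1 b.2
        have h3 : φ (b : K) = b := this
        rwa [hφ] at h3
      have h4 := e (a₀⁻¹ * a)
      rw [h2, ← h1] at h4
      exact h4
    · obtain ⟨a₀, ha₀, e⟩ := NTau.pure (coordD hφ hK) R S (k := 1) (by rw [pow_one]; exact hβp) 1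
      have h3 : rs hφ τ 1 ^ 3 = 1 := by
        apply RingEquiv.ext
        intro b
        apply Subtype.ext
        have := congrArg (fun e : K ≃+* K => e (b : K)) hτ3
        exact this
      have h4 : rs hφ τ 1 ≠ 1 := by
        intro h5
        apply hτ1
        apply RingEquiv.ext
        intro b
        have hb : b ∈ KD φ 1 := by
          rw [F3_eq_top hK hφ]
          exact Subfield.mem_top b
        exact congrArg Subtype.val (congrArg (fun e : KD φ 1 ≃+* KD φ 1 => e ⟨b, hb⟩) h5)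
      obtain ⟨s, hs⟩ := exists_trace_ne h3 h4
      have C := coordD hφ hK 1
      refine ⟨PhiD hφ hK 1 (up (a₀ * s)), (C.mem _).2 ⟨_, rfl⟩, ?_⟩
      have e2 : ∀ a, β⁻¹ (PhiD hφ hK 1 (up (a₀ * a))) = PhiD hφ hK 1 (up (a₀ * (rs hφ τ 1)⁻¹ a)) := by
        intro a
        have h6 := e ((rs hφ τ 1)⁻¹ a)
        have h7 : rs hφ τ 1 ((rs hφ τ 1)⁻¹ a) = a := (rs hφ τ 1).apply_symm_apply a
        rw [h7] at h6
        have h8 := congrArg (fun z => β⁻¹ z) h6
        exact h8.symm.trans (β.symm_apply_apply _)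
      have e1 := e s
      rw [e2]
      intro h5
      have h6 : (fun a => PhiD hφ hK 1 (up a)) (a₀ * s) * β ((fun a => PhiD hφ hK 1 (up a)) (a₀ * s)) *
          (fun a => PhiD hφ hK 1 (up a)) (a₀ * (rs hφ τ 1)⁻¹ s) = 1 := h5
      rw [e1, ← C.add, ← C.add] at h6
      have h7 : a₀ * s + a₀ * rs hφ τ 1 s + a₀ * (rs hφ τ 1)⁻¹ s = 0 := C.inj (h6.trans C.zero.symm)
      have h8 : a₀ * (s + rs hφ τ 1 s + (rs hφ τ 1)⁻¹ s) = 0 := by rw [mul_add, mul_add]; exact h7
      exact hs ((mul_eq_zero.1 h8).resolve_left ha₀)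

/-- the row in terms of automorphisms -/
theorem grow_D4 (hq : IsPrimePow q) [IsSimpleGroup ↥(twistedD4 K q)] (hna : ¬ IsMulCommutative ↥(twistedD4 K q)) :
    GRow 3 ↥(twistedD4 K q) := by
  have : Fact (Nat.Prime 3) := ⟨Nat.prime_three⟩
  have hW := finW_D4
  have R := Cfsg.Agent.Nodes.RGDTwD4.rgd cG hK hφ 3
  have hG1 := _root_.Cfsg.Agent.Nodes.RGDTwD4.G1_eq_top cG hK hφ
  obtain ⟨E, hB, he, hF⟩ := exists_eng_of (Q := fun i => Nat.card (KD φ i)) R (gen_D4 3 hφ hK)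
    (TwGood.isSolvable_T Nodes.RGDTwD4.hp) (fun i => fnode_D4 3 hφ hK i) (by norm_num)
  exact grow_of (i := 0) (j := 1) R hB he ⟨by decide, by decide, by decide, intComm_D4 3 hφ hK⟩ (comm_of_not hna)
    (KFacts.RgdFilt.GG_eq_top (T := T K q) hG1) hF (by decide) (ab_root hφ hK) (exp_simple hφ hK 1)
    (fun σ _ h3 => RgdUntw.symTwo_G2.eq_one Nat.prime_three (by norm_num) σ ‹_› h3)
    (fun c hc => hout_D4 hφ hK hq hc)

end D4

universe w

/-- **`³D₄(q)`**, `3 ∣ q`. -/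
theorem wf_3D4 (K : Type) [Field K] [Fintype K] [CharP K 3] {q : ℕ} (hq : IsPrimePow q)
    (hK : Fintype.card K = q ^ 3) : Cfsg.Agent.H533.Wf.WfRow.{w, 0} 3 ↥(twistedD4 K q) := by
  have : Fact (Nat.Prime 3) := ⟨Nat.prime_three⟩
  obtain ⟨hs, hna⟩ := Cfsg.Agent.S1071.result hq hK
  obtain ⟨φ, hφ⟩ := D4Fixed.exists_frob hq hK
  exact WfRow.of_grow (grow_D4 hφ hK hq hna)

end Cfsg.Agent.H491.Wf.D4Row
end

private theorem dce_3c4a3e5a1510 : _root_.True := by
  try have : _root_.True := by simp only [_root_.Cfsg.Agent.H12.WfO.rs.eq_1]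
  try have : _root_.True := by simp only [_root_.Cfsg.Agent.H12.WfO.PP.eq_1]
  exact _root_.True.intro
end

-- part: H800/Wf/HNMid
section
prune_inst 0x420401044404010000000059651003d42c6000592002b8801d1810ec0068ef7a14500af20f4803e03490a2b2400380048024c00d90050000004200600411900a080a870821300a00466009f80b887580c00000000000000000000000000041004000000000
set_option linter.all false
open scoped Cfsg.Agent.FastGrp

-- part: H800/Wf/Orb
section
/-!
# An orbit lemma (helper800, for S3826)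

`Q ⊴ M` of odd order with Sylow 3-subgroup of order 81, no involution of `M` commutes with a 3-element `≠ 1` of `Q`, `8 ∣ |M|`,
and `M` is generated modulo `Q` by elements of order 5: then the 3-elements `≠ 1` of `Q` form at most two classes of `M`.
-/

set_option autoImplicit false
set_option linter.unusedSectionVars false
set_option maxHeartbeats 2000000

namespace Cfsg.Agent.H800.Wf.Orb

open Subgroup

variable {M : Type*} [Group M] [Finite M]

/-- the action of the normalizer -/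
noncomputable local instance act (T : Subgroup M) : MulAction ↥(normalizer (T : Set M)) ↥T :=
  MulAction.compHom ↥T (Subgroup.normalizerMonoidHom T)

theorem coe_smul (T : Subgroup M) (n : ↥(normalizer (T : Set M))) (t : T) :
    ((n • t : T) : M) = n * t * (n : M)⁻¹ := rfl

theorem odd_of_not_even {n : ℕ} (h : ¬ 2 ∣ n) : Odd n := by
  rw [← Nat.not_even_iff_odd, even_iff_two_dvd]; exact h

/-- elements of order 5 lie in the normal subgroups of index prime to 5 -/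
theorem mem_of_index {L : Subgroup M} [L.Normal] (h5 : ¬ 5 ∣ L.index) {f : M} (hf : f ^ 5 = 1) : f ∈ L := by
  rw [← QuotientGroup.eq_one_iff]
  have h1 : (QuotientGroup.mk f : M ⧸ L) ^ 5 = 1 := by rw [← QuotientGroup.mk_pow, hf, QuotientGroup.mk_one]
  have h2 : orderOf (QuotientGroup.mk f : M ⧸ L) ∣ 5 := orderOf_dvd_of_pow_eq_one h1
  have h3 : orderOf (QuotientGroup.mk f : M ⧸ L) ∣ L.index := _root_.orderOf_dvd_natCard _
  rcases (Nat.dvd_prime Nat.prime_five).1 h2 with h | h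
  · exact orderOf_eq_one_iff.1 h
  · exact absurd (h ▸ h3) h5

theorem card_orbit (T : Subgroup M) (t : T) :
    Nat.card (MulAction.orbit ↥(normalizer (T : Set M)) t) *
      Nat.card (MulAction.stabilizer ↥(normalizer (T : Set M)) t) = Nat.card ↥(normalizer (T : Set M)) := by
  rw [← Nat.card_prod]
  exact Nat.card_congr (MulAction.orbitProdStabilizerEquivGroup _ t)

/-- the orbits are divisible by 8 -/
theorem eight_dvd (T : Subgroup M) (h8 : 8 ∣ Nat.card ↥(normalizer (T : Set M))) (t : T)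
    (ha : ∀ i : M, orderOf i = 2 → i * t ≠ t * i) :
    8 ∣ Nat.card (MulAction.orbit ↥(normalizer (T : Set M)) t) := by
  have hodd : Odd (Nat.card (MulAction.stabilizer ↥(normalizer (T : Set M)) t)) := by
    apply odd_of_not_even
    intro h2
    have : Fact (Nat.Prime 2) := ⟨Nat.prime_two⟩
    obtain ⟨i, hi⟩ := exists_prime_orderOf_dvd_card' 2 h2
    refine ha ((i : ↥(normalizer (T : Set M))) : M) (by rw [Subgroup.orderOf_coe, Subgroup.orderOf_coe]; exact hi) ?_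
    have h3 := congrArg Subtype.val (MulAction.mem_stabilizer_iff.1 i.2)
    rw [coe_smul] at h3
    exact mul_inv_eq_iff_eq_mul.1 h3
  have h1 := card_orbit T t
  have h2 : Nat.Coprime 8 (Nat.card (MulAction.stabilizer ↥(normalizer (T : Set M)) t)) := by
    rw [show (8 : ℕ) = 2 ^ 3 by norm_num]
    exact Nat.Coprime.pow_left 3 (Nat.coprime_two_left.2 hodd)
  rw [← h1] at h8
  exact h2.dvd_of_dvd_mul_right h8

/-- a 5-group which fixes a point `≠ 1` centralises the group of order 81 -/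
theorem centralizes (T : Subgroup M) (hT : Nat.card T = 81) (F : Subgroup ↥(normalizer (T : Set M)))
    (hF : IsPGroup 5 F) {t : T} (ht : t ≠ 1) (hft : ∀ f ∈ F, f • t = t) : ∀ f ∈ F, ∀ x : T, f • x = x := by
  have : Fact (Nat.Prime 5) := ⟨Nat.prime_five⟩
  let D : Subgroup T :=
    { carrier := {x | ∀ f ∈ F, f • x = x}
      one_mem' := fun f _ => Subtype.ext (by rw [coe_smul]; simp)
      mul_mem' := fun {a b} ha hb f hf => Subtype.ext (by
        have h1 := congrArg Subtype.val (ha f hf)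
        have h2 := congrArg Subtype.val (hb f hf)
        rw [coe_smul] at h1 h2 ⊢
        calc (f : M) * (a * b : T) * (f : M)⁻¹ = ((f : M) * a * (f : M)⁻¹) * ((f : M) * b * (f : M)⁻¹) := by
              rw [Subgroup.coe_mul]; group
          _ = _ := by rw [h1, h2, Subgroup.coe_mul])
      inv_mem' := fun {a} ha f hf => Subtype.ext (by
        have h1 := congrArg Subtype.val (ha f hf)
        rw [coe_smul] at h1 ⊢
        calc (f : M) * (a⁻¹ : T) * (f : M)⁻¹ = ((f : M) * a * (f : M)⁻¹)⁻¹ := by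
              rw [Subgroup.coe_inv]; group
          _ = _ := by rw [h1, Subgroup.coe_inv]) }
  have h1 : Nat.card T ≡ Nat.card (MulAction.fixedPoints F T) [MOD 5] := hF.card_modEq_card_fixedPoints T
  have h2 : Nat.card (MulAction.fixedPoints F T) = Nat.card D := by
    refine Nat.card_congr (Equiv.subtypeEquivRight fun x => ?_)
    constructor
    · intro h f hf
      exact h ⟨f, hf⟩
    · intro h f
      exact h f f.2
  have h3 : Nat.card D ∣ 3 ^ 4 := by
    have := D.card_subgroup_dvd_card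
    rwa [hT] at this
  obtain ⟨j, hj, hD⟩ := (Nat.dvd_prime_pow Nat.prime_three).1 h3
  rw [h2, hD, hT] at h1
  have h4 : j ≠ 0 := by
    rintro rfl
    rw [pow_zero, Subgroup.card_eq_one] at hD
    have h5 : t ∈ D := hft
    rw [hD] at h5
    exact ht (Subgroup.mem_bot.1 h5)
  have h5 : j = 4 := by
    have h6 : 81 % 5 = 3 ^ j % 5 := h1
    interval_cases j <;> simp at h6 h4 ⊢
  have h6 : D = ⊤ := Subgroup.eq_top_of_card_eq D (by rw [hD, h5, hT]; norm_num)
  intro f hf x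
  have h7 : x ∈ D := by rw [h6]; exact Subgroup.mem_top x
  exact h7 f hf

/-- the orbits are divisible by 5 -/
theorem five_dvd (Q : Subgroup M) [hQn : Q.Normal] (hQ : Odd (Nat.card Q))
    (ha : ∀ i : M, orderOf i = 2 → ∀ t ∈ Q, (∃ k, t ^ 3 ^ k = 1) → i * t = t * i → t = 1)
    {f₁ f₂ : M} (h1 : f₁ ^ 5 = 1) (h2 : f₂ ^ 5 = 1) (h12 : ¬ Odd (orderOf (f₁ * f₂)))
    (T : Subgroup M) (hT : Nat.card T = 81) (hTQ : T ≤ Q) (hN : normalizer (T : Set M) ⊔ Q = ⊤) {t : T} (ht : t ≠ 1) :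
    5 ∣ Nat.card (MulAction.orbit ↥(normalizer (T : Set M)) t) := by
  have : Fact (Nat.Prime 5) := ⟨Nat.prime_five⟩
  have : Fact (Nat.Prime 2) := ⟨Nat.prime_two⟩
  by_contra h5
  -- a Sylow 5-subgroup of the stabilizer
  obtain ⟨F₀⟩ : Nonempty (Sylow 5 ↥(MulAction.stabilizer ↥(normalizer (T : Set M)) t)) := Sylow.nonempty
  set F : Subgroup ↥(normalizer (T : Set M)) :=
    (F₀ : Subgroup _).map (MulAction.stabilizer ↥(normalizer (T : Set M)) t).subtype with hF
  have hFp : IsPGroup 5 F := F₀.2.map _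
  have hFt : ∀ f ∈ F, f • t = t := by
    rintro _ ⟨f, -, rfl⟩
    exact MulAction.mem_stabilizer_iff.1 f.2
  have hFi : ¬ 5 ∣ F.index := by
    intro h
    have h3 := F.card_mul_index
    have h4 : Nat.card F = Nat.card (F₀ : Subgroup ↥(MulAction.stabilizer ↥(normalizer (T : Set M)) t)) :=
      card_map_of_injective (Subgroup.subtype_injective _)
    have h6 : ¬ 5 ∣ (F₀ : Subgroup ↥(MulAction.stabilizer ↥(normalizer (T : Set M)) t)).index := F₀.not_dvd_index
    have h7 := (F₀ : Subgroup ↥(MulAction.stabilizer ↥(normalizer (T : Set M)) t)).card_mul_index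
    rw [← card_orbit T t, ← h7, h4] at h3
    have hpos : 0 < Nat.card (F₀ : Subgroup ↥(MulAction.stabilizer ↥(normalizer (T : Set M)) t)) := Nat.card_pos
    generalize Nat.card (F₀ : Subgroup ↥(MulAction.stabilizer ↥(normalizer (T : Set M)) t)) = a at h3 hpos
    generalize (F₀ : Subgroup ↥(MulAction.stabilizer ↥(normalizer (T : Set M)) t)).index = b at h3 h6
    generalize Nat.card (MulAction.orbit ↥(normalizer (T : Set M)) t) = c at h3 h5
    generalize F.index = d at h3 h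
    have h8 : d = c * b := by
      apply Nat.eq_of_mul_eq_mul_left hpos
      rw [h3]; ring
    rw [h8, Nat.prime_five.dvd_mul] at h
    exact h.elim h5 h6
  have hcen := centralizes T hT F hFp ht hFt
  -- the centralizer
  set K : Subgroup M := centralizer (T : Set M) with hK
  have hKn : ∀ n ∈ normalizer (T : Set M), ∀ x ∈ K, n * x * n⁻¹ ∈ K := by
    intro n hn x hx
    rw [hK, mem_centralizer_iff] at hx ⊢
    intro s hs
    have h3 : n⁻¹ * s * n ∈ T := by
      have := (mem_normalizer_iff.1 (inv_mem hn) s).1 hs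
      rwa [inv_inv] at this
    have h4 := hx _ h3
    calc s * (n * x * n⁻¹) = n * (n⁻¹ * s * n * x) * n⁻¹ := by group
      _ = n * (x * (n⁻¹ * s * n)) * n⁻¹ := by rw [h4]
      _ = _ := by group
  let L : Subgroup M := Q ⊔ K
  have hLN : normalizer (L : Set M) = ⊤ := by
    rw [eq_top_iff, ← hN, sup_le_iff]
    constructor
    · intro n hn
      have key : ∀ m ∈ normalizer (T : Set M), ∀ x ∈ L, m * x * m⁻¹ ∈ L := by
        intro m hm x hx
        have h3 : L ≤ L.comap (MulAut.conj m).toMonoidHom := by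
          refine sup_le (fun y hy => ?_) (fun y hy => ?_)
          · exact mem_sup_left (hQn.conj_mem y hy m)
          · exact mem_sup_right (hKn m hm y hy)
        exact h3 hx
      rw [mem_normalizer_iff]
      intro x
      refine ⟨key n hn x, fun hx => ?_⟩
      have h3 := key n⁻¹ (inv_mem hn) _ hx
      have h4 : n⁻¹ * (n * x * n⁻¹) * n⁻¹⁻¹ = x := by group
      rwa [h4] at h3
    · exact le_sup_left.trans Subgroup.le_normalizer
  have hLn : L.Normal := normalizer_eq_top_iff.1 hLN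
  have hLi : ¬ 5 ∣ L.index := by
    intro h
    apply hFi
    refine h.trans ?_
    have hNL : normalizer (T : Set M) ⊔ L = ⊤ := by
      rw [eq_top_iff, ← hN]; exact sup_le_sup_left le_sup_left _
    have h3 : L.relIndex (normalizer (T : Set M) ⊔ L) = L.relIndex (normalizer (T : Set M)) :=
      relIndex_sup_right _ _
    rw [hNL, relIndex_top_right] at h3
    have h4 : F.index = (F.map (normalizer (T : Set M)).subtype).relIndex (normalizer (T : Set M)) := by
      rw [relIndex, ← comap_subtype, comap_map_eq_self_of_injective (Subgroup.subtype_injective _)]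
    rw [h3, h4]
    apply relIndex_dvd_of_le_left
    rintro _ ⟨f, hf, rfl⟩
    apply mem_sup_right
    rw [hK, mem_centralizer_iff]
    intro s hs
    have h5 := congrArg Subtype.val (hcen f hf ⟨s, hs⟩)
    rw [coe_smul] at h5
    exact (mul_inv_eq_iff_eq_mul.1 h5).symm
  have hf := mul_mem (mem_of_index hLi h1) (mem_of_index hLi h2)
  -- `K` has even order
  have hKe : 2 ∣ Nat.card K := by
    by_contra hK2
    apply h12
    have h3 : Odd (Nat.card L) := by
      have h4 : Nat.card L = Nat.card Q * Q.relIndex K := by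
        have h5 := relIndex_mul_relIndex ⊥ Q L bot_le le_sup_left
        rw [relIndex_bot_left, relIndex_bot_left] at h5
        rw [← h5, show L = K ⊔ Q from sup_comm _ _, relIndex_sup_right]
      rw [h4]
      refine hQ.mul (Odd.of_dvd_nat (odd_of_not_even hK2) ?_)
      exact relIndex_dvd_card Q K
    refine Odd.of_dvd_nat h3 ?_
    have h4 := _root_.orderOf_dvd_natCard (⟨f₁ * f₂, hf⟩ : L)
    rwa [← Subgroup.orderOf_coe] at h4
  obtain ⟨i, hi⟩ := exists_prime_orderOf_dvd_card' 2 hKe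
  apply ht
  apply Subtype.ext
  refine ha (i : M) (by rw [Subgroup.orderOf_coe]; exact hi) t (hTQ t.2) ?_ ?_
  · refine ⟨4, ?_⟩
    have h3 : t ^ Nat.card T = 1 := pow_card_eq_one'
    rw [hT] at h3
    have h4 := congrArg Subtype.val h3
    rw [show (3 : ℕ) ^ 4 = 81 by norm_num]
    exact h4
  · exact (mem_centralizer_iff.1 i.2 _ t.2).symm

/-- 3-elements of `Q` are conjugate into the Sylow subgroup -/
theorem exists_conj (Q : Subgroup M) [Q.Normal] (T : Sylow 3 Q) {y : M} (hy : y ∈ Q) (hy3 : ∃ k, y ^ 3 ^ k = 1) :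
    ∃ g : M, g * y * g⁻¹ ∈ (T : Subgroup Q).map Q.subtype := by
  have : Fact (Nat.Prime 3) := ⟨Nat.prime_three⟩
  obtain ⟨k, hk⟩ := hy3
  have h1 : IsPGroup 3 (zpowers (⟨y, hy⟩ : Q)) := by
    rw [IsPGroup.iff_card]
    rw [Nat.card_zpowers]
    have h2 : orderOf (⟨y, hy⟩ : Q) ∣ 3 ^ k := orderOf_dvd_of_pow_eq_one (Subtype.ext hk)
    obtain ⟨j, -, hj⟩ := (Nat.dvd_prime_pow Nat.prime_three).1 h2
    exact ⟨j, hj⟩
  obtain ⟨P, hP⟩ := h1.exists_le_sylow
  obtain ⟨g, hg⟩ := MulAction.exists_smul_eq Q P T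
  refine ⟨g, g * ⟨y, hy⟩ * g⁻¹, ?_, rfl⟩
  rw [← hg]
  exact Subgroup.smul_mem_pointwise_smul _ (MulAut.conj g) _ (hP (mem_zpowers _))

/-- **The orbit lemma.** -/
theorem main (Q : Subgroup M) [hQn : Q.Normal] (hQ : Odd (Nat.card Q)) (hT : (Nat.card Q).factorization 3 = 4)
    (ha : ∀ i : M, orderOf i = 2 → ∀ t ∈ Q, (∃ k, t ^ 3 ^ k = 1) → i * t = t * i → t = 1)
    (h8 : 8 ∣ Nat.card M) {f₁ f₂ : M} (h1 : f₁ ^ 5 = 1) (h2 : f₂ ^ 5 = 1) (h12 : ¬ Odd (orderOf (f₁ * f₂)))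
    {y w t : M} (hy : y ∈ Q) (hw : w ∈ Q) (ht : t ∈ Q) (hy3 : ∃ k, y ^ 3 ^ k = 1) (hw3 : ∃ k, w ^ 3 ^ k = 1)
    (ht3 : ∃ k, t ^ 3 ^ k = 1) (hy1 : y ≠ 1) (hw1 : w ≠ 1) (ht1 : t ≠ 1) (hyw : ¬ IsConj y w) :
    IsConj y t ∨ IsConj w t := by
  have : Fact (Nat.Prime 3) := ⟨Nat.prime_three⟩
  by_contra hno
  rw [not_or] at hno
  obtain ⟨T₀⟩ : Nonempty (Sylow 3 Q) := Sylow.nonempty
  obtain ⟨gy, hgy⟩ := exists_conj Q T₀ hy hy3
  obtain ⟨gw, hgw⟩ := exists_conj Q T₀ hw hw3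
  obtain ⟨gt, hgt⟩ := exists_conj Q T₀ ht ht3
  have hN := Sylow.normalizer_sup_eq_top (N := Q) T₀
  have hcard : Nat.card ↥((T₀ : Subgroup Q).map Q.subtype) = 81 := by
    rw [card_map_of_injective (Subgroup.subtype_injective _), T₀.card_eq_multiplicity, hT]
    norm_num
  have hle : (T₀ : Subgroup Q).map Q.subtype ≤ Q := map_subtype_le _
  generalize (T₀ : Subgroup Q).map Q.subtype = T at *
  -- the normalizer
  have h8N : 8 ∣ Nat.card ↥(normalizer (T : Set M)) := by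
    have h3 := (normalizer (T : Set M)).card_mul_index
    have h4 : (normalizer (T : Set M)).index ∣ Nat.card Q := by
      have h5 : (normalizer (T : Set M)).index = (normalizer (T : Set M)).relIndex (normalizer (T : Set M) ⊔ Q) := by
        rw [hN, relIndex_top_right]
      rw [h5]
      have h6 : (normalizer (T : Set M)).relIndex (normalizer (T : Set M) ⊔ Q) ∣
          (normalizer (T : Set M) ⊓ Q).relIndex Q := by
        have a1 := relIndex_mul_relIndex ⊥ (normalizer (T : Set M) ⊓ Q) Q bot_le inf_le_right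
        have a2 := relIndex_mul_relIndex ⊥ (normalizer (T : Set M)) (normalizer (T : Set M) ⊔ Q) bot_le le_sup_left
        have a3 := relIndex_mul_relIndex ⊥ Q (normalizer (T : Set M) ⊔ Q) bot_le le_sup_right
        have a4 := relIndex_mul_relIndex ⊥ (normalizer (T : Set M) ⊓ Q) (normalizer (T : Set M)) bot_le inf_le_left
        rw [relIndex_sup_right] at a3
        rw [inf_comm, inf_relIndex_right] at a4
        rw [inf_comm] at a1
        have hpos : 0 < (⊥ : Subgroup M).relIndex (Q ⊓ normalizer (T : Set M)) * Q.relIndex (normalizer (T : Set M)) := by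
          rw [a4, relIndex_bot_left]; exact Nat.card_pos
        refine dvd_of_eq (Nat.eq_of_mul_eq_mul_left hpos ?_)
        rw [inf_comm (normalizer (T : Set M)) Q]
        calc (⊥ : Subgroup M).relIndex (Q ⊓ normalizer (T : Set M)) * Q.relIndex (normalizer (T : Set M)) *
              (normalizer (T : Set M)).relIndex (normalizer (T : Set M) ⊔ Q)
            = (⊥ : Subgroup M).relIndex Q * Q.relIndex (normalizer (T : Set M)) := by rw [a4, a2, a3]
          _ = _ := by rw [← a1]; ring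
      refine h6.trans ?_
      have h7 := relIndex_mul_relIndex ⊥ (normalizer (T : Set M) ⊓ Q) Q bot_le inf_le_right
      rw [relIndex_bot_left, relIndex_bot_left] at h7
      exact ⟨_, by rw [← h7, mul_comm]⟩
    have h5 : Nat.Coprime 8 (normalizer (T : Set M)).index := by
      rw [show (8 : ℕ) = 2 ^ 3 by norm_num]
      exact Nat.Coprime.pow_left 3 (Nat.coprime_two_left.2 (Odd.of_dvd_nat hQ h4))
    rw [← h3] at h8
    exact h5.dvd_of_dvd_mul_right h8
  have hpel : ∀ x : T, ∃ k, (x : M) ^ 3 ^ k = 1 := by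
    intro x
    refine ⟨4, ?_⟩
    have h3 : x ^ Nat.card T = 1 := pow_card_eq_one'
    rw [hcard] at h3
    rw [show (3 : ℕ) ^ 4 = 81 by norm_num]
    exact congrArg Subtype.val h3
  have horb : ∀ x : T, x ≠ 1 → 40 ≤ (MulAction.orbit ↥(normalizer (T : Set M)) x).ncard := by
    intro x hx
    have h3 := eight_dvd T h8N x (fun i hi h => hx (Subtype.ext (ha i hi x (hle x.2) (hpel x) h)))
    have h4 := five_dvd Q hQ ha h1 h2 h12 T hcard hle hN hx
    have h5 : 8 * 5 ∣ Nat.card (MulAction.orbit ↥(normalizer (T : Set M)) x) :=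
      Nat.Coprime.mul_dvd_of_dvd_of_dvd (by norm_num) h3 h4
    rw [← Nat.card_coe_set_eq]
    have hne : Nonempty (MulAction.orbit ↥(normalizer (T : Set M)) x) := ⟨⟨x, MulAction.mem_orbit_self x⟩⟩
    exact Nat.le_of_dvd Nat.card_pos h5
  have hdis : ∀ x z : T, ¬ IsConj (x : M) z → Disjoint (MulAction.orbit ↥(normalizer (T : Set M)) x)
      (MulAction.orbit ↥(normalizer (T : Set M)) z) := by
    intro x z hxz
    rw [Set.disjoint_left]
    rintro u ⟨n, rfl⟩ ⟨m, hm⟩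
    apply hxz
    have h3 := congrArg Subtype.val hm
    simp only [coe_smul] at h3
    have h4 : IsConj (x : M) (n * x * (n : M)⁻¹) := isConj_iff.2 ⟨n, rfl⟩
    have h5 : IsConj (z : M) (m * z * (m : M)⁻¹) := isConj_iff.2 ⟨m, rfl⟩
    rw [h3] at h5
    exact h4.trans h5.symm
  have hcj : ∀ {u v gu gv : M}, ¬ IsConj u v → ¬ IsConj (gu * u * gu⁻¹) (gv * v * gv⁻¹) := by
    intro u v gu gv h h'
    exact h (((isConj_iff.2 ⟨gu, rfl⟩ : IsConj u _).trans h').trans (isConj_iff.2 ⟨gv, rfl⟩ : IsConj v _).symm)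
  have hne1 : ∀ {u g : M}, u ≠ 1 → g * u * g⁻¹ ≠ 1 := by
    intro u g hu h
    exact hu (conj_eq_one_iff.1 h)
  have e1 := horb ⟨_, hgy⟩ (fun h => hne1 hy1 (congrArg Subtype.val h))
  have e2 := horb ⟨_, hgw⟩ (fun h => hne1 hw1 (congrArg Subtype.val h))
  have e3 := horb ⟨_, hgt⟩ (fun h => hne1 ht1 (congrArg Subtype.val h))
  have d1 := hdis ⟨_, hgy⟩ ⟨_, hgw⟩ (hcj hyw)
  have d2 := hdis ⟨_, hgy⟩ ⟨_, hgt⟩ (hcj hno.1)
  have d3 := hdis ⟨_, hgw⟩ ⟨_, hgt⟩ (hcj hno.2)
  have h3 := Set.ncard_union_eq d1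
  have h4 := Set.ncard_union_eq (Set.disjoint_union_left.2 ⟨d2, d3⟩)
  have h5 := Set.ncard_le_card (MulAction.orbit ↥(normalizer (T : Set M)) (⟨_, hgy⟩ : T) ∪
    MulAction.orbit ↥(normalizer (T : Set M)) (⟨_, hgw⟩ : T) ∪ MulAction.orbit ↥(normalizer (T : Set M)) (⟨_, hgt⟩ : T))
  rw [hcard] at h5
  omega

end Cfsg.Agent.H800.Wf.Orb
end

-- part: H800/Wf/HNMid
section
/-!
# `C(X3)` in HN (helper800, for S3826)

`MM = C(X3)` (H569), `Q = O(MM)`: `YA ∉ Q`, the 3-elements of `Q` commuting with `S3` are powers of `X3`, all involutions of `MM`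
are conjugate.
-/

set_option autoImplicit false
set_option maxRecDepth 100000

namespace Cfsg.Agent.H800.Wf.HNMid

open Subgroup Cfsg
open Cfsg.Agent
open Cfsg.Agent.HN.XWords (W0 W0_sq)
open Cfsg.Agent.KFacts.HN (PP mem_PP ρ φA φB W0_ne A5 comm_AB φB_inj φA_inj ρ_surj card_PP LL mem_LL φ2_inj)
open Cfsg.Agent.CpAutHN.LqFacts
open Cfsg.Agent.CpAutHN.PPFacts
open Cfsg.Agent.CpAutHN.Alt
open Cfsg.Agent.CpAutHN.Tr
open Cfsg.Agent.CpAutHN.Pairs
open Cfsg.Agent.H569.HNThree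
open Equiv.Perm (mem_alternatingGroup)

/-- the core of `C(X3)` -/
noncomputable abbrev QQ : Subgroup MM := pPrimeCore 2 MM

instance normal_QQ : QQ.Normal := Lib.Cores.pPrimeCore_normal 2

theorem odd_QQ : Odd (Nat.card QQ) := H569.KleinIso.odd_core

theorem odd_of_mem {q : MM} (hq : q ∈ QQ) : Odd (orderOf q) := by
  have h2 : orderOf (⟨q, hq⟩ : QQ) ∣ Nat.card QQ := _root_.orderOf_dvd_natCard _
  rw [← Subgroup.orderOf_coe] at h2
  exact Odd.of_dvd_nat odd_QQ h2

/-- `X3` in its centralizer -/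
noncomputable def XX : MM := ⟨X3, mem_centralizer_singleton_iff.2 rfl⟩

theorem order_XX : orderOf XX = 3 := by rw [← Subgroup.orderOf_coe]; exact order_X3

theorem comm_XX (m : MM) : m * XX = XX * m := Subtype.ext (mem_centralizer_singleton_iff.1 m.2)

theorem ya_comm : ya * x3 = x3 * ya := by decide +kernel

/-- `YA` in `C(X3)` -/
noncomputable def yy : MM := _root_.Cfsg.Agent.H569.HNThree.mk ya ya_mem ya_comm

theorem order_yy : orderOf yy = 3 := by rw [← Subgroup.orderOf_coe]; exact order_YA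

/-- `(4 1 2)` -/
def f0p : Equiv.Perm (Fin 5) := ([4, 1, 2] : List (Fin 5)).formPerm
theorem f0p_mem : f0p ∈ alternatingGroup (Fin 5) := by rw [mem_alternatingGroup]; decide +kernel
/-- `(4 1 2)` -/
def f0 : A5 := ⟨f0p, f0p_mem⟩
theorem chk1 : (c0 * (f0 * c0 * f0⁻¹)) ^ 2 = 1 := Subtype.ext (by decide +kernel)
theorem chk2 : c0 * (f0 * c0 * f0⁻¹) ≠ 1 := fun h => absurd (congrArg Subtype.val h) (by decide +kernel)

/-- elements of order 3 of `A5` -/
theorem exists_f {b : A5} (h3 : b ^ 3 = 1) (h1 : b ≠ 1) : ∃ f : A5, (b * (f * b * f⁻¹)) ^ 2 = 1 ∧ b * (f * b * f⁻¹) ≠ 1 := by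
  obtain ⟨h, hh⟩ := conj_c0 h3 h1
  refine ⟨h⁻¹ * f0 * h, ?_⟩
  have h2 : b * (h⁻¹ * f0 * h * b * (h⁻¹ * f0 * h)⁻¹) = h⁻¹ * (c0 * (f0 * c0 * f0⁻¹)) * h := by
    rw [← hh]; group
  rw [h2]
  constructor
  · have h4 := conj_pow (a := h⁻¹) (b := c0 * (f0 * c0 * f0⁻¹)) (i := 2)
    rw [inv_inv] at h4
    rw [h4, chk1]; group
  · intro h4
    apply chk2
    calc c0 * (f0 * c0 * f0⁻¹) = h * (h⁻¹ * (c0 * (f0 * c0 * f0⁻¹)) * h) * h⁻¹ := by group
      _ = 1 := by rw [h4]; group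

theorem ya_ne (i : ℕ) (hi : i < 3) : ya ≠ x3 ^ i := by
  interval_cases i <;> decide +kernel

/-- **`YA` is not in the core** -/
theorem yy_not_mem : yy ∉ QQ := by
  intro hmem
  obtain ⟨g, hg, hs, hρ⟩ := t1_x3
  have hyP : g * YA * g⁻¹ ∈ PP := by
    rw [mem_PP, ← hs]
    calc g * YA * g⁻¹ * (g * S3 * g⁻¹) = g * (YA * S3) * g⁻¹ := by group
      _ = g * (S3 * YA) * g⁻¹ := by rw [comm_SY]
      _ = _ := by group
  set x' : PP := ⟨g * X3 * g⁻¹, hg⟩ with hx'
  set y' : PP := ⟨g * YA * g⁻¹, hyP⟩ with hy'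
  have hx3 : orderOf x' = 3 := order_sub hg (order_conj order_X3 g)
  have hy3 : orderOf y' = 3 := order_sub hyP (order_conj order_YA g)
  have hxy : y' * x' = x' * y' := by
    apply Subtype.ext
    change g * YA * g⁻¹ * (g * X3 * g⁻¹) = g * X3 * g⁻¹ * (g * YA * g⁻¹)
    calc g * YA * g⁻¹ * (g * X3 * g⁻¹) = g * (YA * X3) * g⁻¹ := by group
      _ = g * (X3 * YA) * g⁻¹ := by rw [comm_YX]
      _ = _ := by group
  have hc : ρ y' * φA c0 = φA c0 * ρ y' := by rw [← hρ, ← map_mul, hxy, map_mul]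
  obtain ⟨a, b, hab⟩ := mem_LL.1 (mem_LL_of_comm c0_ne hc)
  have hpow : ∀ n : ℕ, ρ y' ^ n = φA (a ^ n) * φB (b ^ n) := by
    intro n
    rw [← hab, (show Commute (φA a) (φB b) from comm_AB a b).mul_pow, map_pow, map_pow]
  have h3 : a ^ 3 = 1 ∧ b ^ 3 = 1 := by
    apply φ2_inj
    rw [← hpow, ← map_pow, ← hy3, pow_orderOf_eq_one, map_one, map_one, map_one, one_mul]
  have hac : a * c0 = c0 * a := by
    have h1 := conj_A a b c0
    rw [hab, hc, mul_inv_cancel_right] at h1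
    exact (mul_inv_eq_iff_eq_mul.1 (φA_inj h1).symm)
  by_cases hb1 : b = 1
  · -- `YA` is a power of `X3`
    obtain ⟨i, hi, hai⟩ : ∃ i < 3, a = c0 ^ i := by
      rcases cent_c0 hac with h | h | h
      · exact ⟨0, by norm_num, by rw [h, pow_zero]⟩
      · exact ⟨1, by norm_num, by rw [h, pow_one]⟩
      · exact ⟨2, by norm_num, by rw [h, pow_two]⟩
    have hk : y' * (x' ^ i)⁻¹ ∈ ρ.ker := by
      rw [MonoidHom.mem_ker, map_mul, map_inv, map_pow, hρ, ← map_pow, ← hai, ← hab, hb1, map_one, mul_one,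
        mul_inv_cancel]
    have hk3 : (y' * (x' ^ i)⁻¹) ^ 3 = 1 := by
      have hcm : Commute y' (x' ^ i)⁻¹ := ((show Commute y' x' from hxy).pow_right i).inv_right
      rw [hcm.mul_pow, inv_pow, ← pow_mul, mul_comm i 3, pow_mul, ← hx3, pow_orderOf_eq_one, hx3, ← hy3,
        pow_orderOf_eq_one, one_pow, inv_one, mul_one]
    have hk1 : y' * (x' ^ i)⁻¹ = 1 := by
      obtain ⟨m, hm⟩ := isPGroup_ker ⟨_, hk⟩
      have hm' : (y' * (x' ^ i)⁻¹) ^ 2 ^ m = 1 := congrArg Subtype.val hm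
      have h4 := orderOf_dvd_of_pow_eq_one hk3
      have h5 := orderOf_dvd_of_pow_eq_one hm'
      have h6 : Nat.Coprime 3 (2 ^ m) := Nat.Coprime.pow_right m (by norm_num)
      exact orderOf_eq_one_iff.1 (Nat.eq_one_of_dvd_coprimes h6 h4 h5)
    have hk2 : y' = x' ^ i := mul_inv_eq_one.1 hk1
    have h4 : g * YA * g⁻¹ = g * X3 ^ i * g⁻¹ := by
      have h5 := congrArg Subtype.val hk2
      rw [Subgroup.coe_pow] at h5
      change g * YA * g⁻¹ = (g * X3 * g⁻¹) ^ i at h5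
      rw [h5, conj_pow]
    have h5 : YA = X3 ^ i := mul_left_cancel (mul_right_cancel h4)
    have h6 : Φ ⟨ya, ya_mem⟩ = Φ (⟨x3, x3_mem⟩ ^ i) := by rw [map_pow]; exact h5
    exact ya_ne i hi (congrArg Subtype.val (Φ_inj h6))
  · obtain ⟨F, hF2, hF1⟩ := exists_f h3.2 hb1
    obtain ⟨v, hv⟩ := ρ_surj (φB F)
    have hcv : ρ v * ρ x' = ρ x' * ρ v := by rw [hv, hρ]; exact (comm_AB c0 F).symm
    obtain ⟨q, hq, hqv⟩ := CpAutTh.RankOne.exists_comm Nat.prime_two Nat.prime_three (by norm_num) ρ isPGroup_ker hx3 hcv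
    have hρv : ρ (q * v) = φB F := by rw [map_mul, MonoidHom.mem_ker.1 hq, one_mul, hv]
    generalize hw : q * v = w at hqv hρv
    -- the element of `MM`
    have hm : g⁻¹ * (w : G) * g ∈ MM := by
      rw [mem_centralizer_singleton_iff]
      have h5 : (w : G) * (g * X3 * g⁻¹) = g * X3 * g⁻¹ * (w : G) := congrArg Subtype.val hqv
      calc g⁻¹ * (w : G) * g * X3 = g⁻¹ * ((w : G) * (g * X3 * g⁻¹)) * g := by group
        _ = g⁻¹ * (g * X3 * g⁻¹ * (w : G)) * g := by rw [h5]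
        _ = _ := by group
    have h4 : yy * (⟨_, hm⟩ * yy * (⟨_, hm⟩ : MM)⁻¹) ∈ QQ := QQ.mul_mem hmem (normal_QQ.conj_mem _ hmem _)
    obtain ⟨k, hk⟩ := odd_of_mem h4
    have h5 : (y' * (w * y' * w⁻¹)) ^ (2 * k + 1) = 1 := by
      have h6 : (yy * (⟨_, hm⟩ * yy * (⟨_, hm⟩ : MM)⁻¹)) ^ (2 * k + 1) = 1 := by rw [← hk, pow_orderOf_eq_one]
      have h7 : (YA * ((g⁻¹ * (w : G) * g) * YA * (g⁻¹ * (w : G) * g)⁻¹)) ^ (2 * k + 1) = 1 := congrArg Subtype.val h6
      apply Subtype.ext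
      rw [Subgroup.coe_pow]
      change (g * YA * g⁻¹ * ((w : G) * (g * YA * g⁻¹) * (w : G)⁻¹)) ^ (2 * k + 1) = 1
      have h8 : g * YA * g⁻¹ * ((w : G) * (g * YA * g⁻¹) * (w : G)⁻¹) =
          g * (YA * ((g⁻¹ * (w : G) * g) * YA * (g⁻¹ * (w : G) * g)⁻¹)) * g⁻¹ := by group
      rw [h8, conj_pow, h7]
      group
    have h6 : ρ (y' * (w * y' * w⁻¹)) = φA (a * a) * φB (b * (F * b * F⁻¹)) := by
      rw [map_mul, map_mul, map_mul, map_inv, hρv, ← hab, map_mul, map_mul, map_mul, map_mul, map_inv]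
      have e1 := comm_AB a F
      have e2 := comm_AB a b
      calc φA a * φB b * (φB F * (φA a * φB b) * (φB F)⁻¹) = φA a * φB b * ((φB F * φA a) * φB b * (φB F)⁻¹) := by group
        _ = φA a * (φB b * φA a) * φB F * φB b * (φB F)⁻¹ := by rw [← e1]; group
        _ = _ := by rw [← e2]; group
    have h7 : φA ((a * a) ^ (2 * k + 1)) * φB ((b * (F * b * F⁻¹)) ^ (2 * k + 1)) = φA 1 * φB 1 := by
      rw [map_pow, map_pow, ← (show Commute (φA (a * a)) (φB (b * (F * b * F⁻¹))) from comm_AB _ _).mul_pow, ← h6,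
        ← map_pow, h5, map_one, map_one, map_one, one_mul]
    have h8 := (φ2_inj h7).2
    rw [pow_succ, pow_mul, hF2, one_pow, one_mul] at h8
    exact hF1 h8

/-! ### the 3-elements of the core commuting with `S3` -/

theorem three_dvd_index : 3 ∣ QQ.index := by
  have h1 : (QuotientGroup.mk yy : MM ⧸ QQ) ^ 3 = 1 := by
    rw [← QuotientGroup.mk_pow, ← order_yy, pow_orderOf_eq_one, QuotientGroup.mk_one]
  have h2 : orderOf (QuotientGroup.mk yy : MM ⧸ QQ) = 3 := by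
    have : Fact (Nat.Prime 3) := ⟨Nat.prime_three⟩
    refine orderOf_eq_prime h1 ?_
    intro h
    exact yy_not_mem ((QuotientGroup.eq_one_iff _).1 h)
  rw [← h2]
  exact _root_.orderOf_dvd_natCard _

/-- the centralizer of `ss` -/
noncomputable abbrev CC : Subgroup MM := centralizer ({ss} : Set MM)

theorem card_CC_dvd : Nat.card CC ∣ 3686400 := by
  rw [← card_cent_S3]
  let f : CC →* ↥(centralizer ({S3} : Set G)) :=
    { toFun := fun c => ⟨((c : MM) : G), mem_centralizer_singleton_iff.2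
        (congrArg Subtype.val (mem_centralizer_singleton_iff.1 c.2))⟩
      map_one' := rfl
      map_mul' := fun _ _ => rfl }
  refine card_dvd_of_injective f ?_
  intro a b hab
  exact Subtype.ext (Subtype.ext ((congrArg (fun w : ↥(centralizer ({S3} : Set G)) => (w : G)) hab :)))

theorem card_CC : Nat.card ↥(QQ ⊓ CC) * QQ.index = Nat.card CC := by
  have h1 := H569.KleinIso.core_sup order_ss comm_core
  have h2 : QQ.relIndex (CC ⊔ QQ) = QQ.relIndex CC := relIndex_sup_right _ _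
  rw [sup_comm, h1, relIndex_top_right] at h2
  have h3 := relIndex_mul_relIndex ⊥ (QQ ⊓ CC) CC bot_le inf_le_right
  rw [relIndex_bot_left, relIndex_bot_left, inf_relIndex_right, ← h2] at h3
  exact h3

theorem XX_mem : XX ∈ QQ ⊓ CC := by
  refine ⟨?_, mem_centralizer_singleton_iff.2 (comm_XX ss).symm⟩
  have hn : (zpowers XX).Normal := ⟨by
    rintro _ ⟨k, rfl⟩ g
    change g * XX ^ k * g⁻¹ ∈ zpowers XX
    have h1 : g * XX ^ k = XX ^ k * g := ((show Commute g XX from comm_XX g).zpow_right k).eq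
    rw [h1, mul_inv_cancel_right]
    exact ⟨k, rfl⟩⟩
  refine Lib.Cores.le_pPrimeCore (p := 2) hn ?_ (mem_zpowers XX)
  rw [Nat.card_zpowers, order_XX]
  norm_num

instance normal_Z : (zpowers XX).Normal := ⟨by
  rintro _ ⟨k, rfl⟩ g
  change g * XX ^ k * g⁻¹ ∈ zpowers XX
  have h1 : g * XX ^ k = XX ^ k * g := ((show Commute g XX from comm_XX g).zpow_right k).eq
  rw [h1, mul_inv_cancel_right]
  exact ⟨k, rfl⟩⟩

/-- **3-elements of the core commuting with `S3`** -/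
theorem mem_Z {t : MM} (ht : t ∈ QQ) (h3 : ∃ k, t ^ 3 ^ k = 1) (hts : t * ss = ss * t) : t ∈ zpowers XX := by
  have : Fact (Nat.Prime 3) := ⟨Nat.prime_three⟩
  by_contra hno
  obtain ⟨k, hk⟩ := h3
  have hp1 : IsPGroup 3 (zpowers t) := by
    rw [IsPGroup.iff_card, Nat.card_zpowers]
    obtain ⟨j, -, hj⟩ := (Nat.dvd_prime_pow Nat.prime_three).1 (orderOf_dvd_of_pow_eq_one hk)
    exact ⟨j, hj⟩
  have hp2 : IsPGroup 3 (zpowers XX) := IsPGroup.of_card (n := 1) (by rw [Nat.card_zpowers, order_XX, pow_one])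
  have hJ := hp1.to_sup_of_normal_right hp2
  obtain ⟨n, hn⟩ := IsPGroup.iff_card.1 hJ
  have hle : zpowers t ⊔ zpowers XX ≤ QQ ⊓ CC := by
    refine sup_le (zpowers_le.2 ⟨ht, mem_centralizer_singleton_iff.2 hts⟩) (zpowers_le.2 XX_mem)
  have hlt : Nat.card (zpowers XX) < Nat.card ↥(zpowers t ⊔ zpowers XX) := by
    refine lt_of_le_of_ne (Nat.le_of_dvd Nat.card_pos (card_dvd_of_le le_sup_right)) ?_
    intro h
    apply hno
    have h5 : zpowers XX = zpowers t ⊔ zpowers XX := Subgroup.eq_of_le_of_card_ge le_sup_right h.ge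
    rw [h5]
    exact mem_sup_left (mem_zpowers t)
  rw [Nat.card_zpowers, order_XX, hn] at hlt
  have hn2 : 2 ≤ n := by
    by_contra h
    have h5 : 3 ^ n ≤ 3 ^ 1 := Nat.pow_le_pow_right (by norm_num) (by omega)
    omega
  have h9 : 9 ∣ Nat.card ↥(QQ ⊓ CC) := by
    refine dvd_trans ?_ (card_dvd_of_le hle)
    rw [hn, show (9 : ℕ) = 3 ^ 2 by norm_num]
    exact pow_dvd_pow 3 hn2
  have h27 : 9 * 3 ∣ Nat.card CC := by
    rw [← card_CC]
    exact Nat.mul_dvd_mul h9 three_dvd_index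
  have h28 := h27.trans card_CC_dvd
  norm_num at h28

/-! ### involutions -/

theorem conj_or_comm {X : Type*} [Group X] [Finite X] {i s : X} (hi : i * i = 1) (hs : s * s = 1) :
    (∃ g : X, g * s * g⁻¹ = i) ∨ ∃ z : X, orderOf z = 2 ∧ z * i = i * z ∧ z * s = s * z := by
  have hi' : i⁻¹ = i := inv_eq_of_mul_eq_one_left hi
  have hs' : s⁻¹ = s := inv_eq_of_mul_eq_one_left hs
  have hinv : ∀ k : ℕ, s * (i * s) ^ k * s = ((i * s) ^ k)⁻¹ := by
    intro k
    have h1 : s * (i * s) * s⁻¹ = (i * s)⁻¹ := by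
      rw [hs', mul_inv_rev, hi', hs']
      calc s * (i * s) * s = s * i * (s * s) := by group
        _ = s * i := by rw [hs, mul_one]
    have h2 : s * (i * s) ^ k * s⁻¹ = ((i * s)⁻¹) ^ k := by rw [← h1, conj_pow]
    rw [hs', inv_pow] at h2
    exact h2
  rcases Nat.even_or_odd (orderOf (i * s)) with ⟨k, hk⟩ | ⟨k, hk⟩
  · right
    have hpos : 0 < orderOf (i * s) := orderOf_pos _
    have h1 : (i * s) ^ k * (i * s) ^ k = 1 := by rw [← pow_add, ← hk, pow_orderOf_eq_one]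
    have h2 : (i * s) ^ k ≠ 1 := pow_ne_one_of_lt_orderOf (by omega) (by omega)
    have h3 : (i * s) ^ k * s = s * (i * s) ^ k := by
      have h4 := hinv k
      have h5 : ((i * s) ^ k)⁻¹ = (i * s) ^ k := inv_eq_of_mul_eq_one_left h1
      rw [h5] at h4
      calc (i * s) ^ k * s = s * (i * s) ^ k * s * s := by rw [h4]
        _ = s * (i * s) ^ k * (s * s) := by group
        _ = _ := by rw [hs, mul_one]
    have h4 : (i * s) ^ k * (i * s) = (i * s) * (i * s) ^ k := by rw [← pow_succ, pow_succ']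
    refine ⟨(i * s) ^ k, orderOf_eq_prime (by rw [pow_two]; exact h1) h2, ?_, h3⟩
    calc (i * s) ^ k * i = (i * s) ^ k * (i * s) * s := by rw [mul_assoc, mul_assoc i, hs, mul_one]
      _ = i * s * ((i * s) ^ k * s) := by rw [h4, mul_assoc]
      _ = i * (s * s) * (i * s) ^ k := by rw [h3]; group
      _ = _ := by rw [hs, mul_one]
  · left
    refine ⟨(i * s) ^ (k + 1), ?_⟩
    have h1 := hinv (k + 1)
    calc (i * s) ^ (k + 1) * s * ((i * s) ^ (k + 1))⁻¹ = (i * s) ^ (k + 1) * s * (s * (i * s) ^ (k + 1) * s) := by rw [h1]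
      _ = (i * s) ^ (k + 1) * (s * s) * (i * s) ^ (k + 1) * s := by group
      _ = (i * s) ^ (orderOf (i * s)) * (i * s) * s := by
        rw [hs, mul_one, ← pow_add, ← pow_succ, hk]
        congr 2
        omega
      _ = i := by rw [pow_orderOf_eq_one, one_mul, mul_assoc, hs, mul_one]

/-- the involutions of `C(X3)` are conjugate -/
theorem conj_ss {i : MM} (hi : orderOf i = 2) : ∃ m : MM, m * ss * m⁻¹ = i := by
  have hii : i * i = 1 := by rw [← pow_two, ← hi, pow_orderOf_eq_one]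
  have hss : ss * ss = 1 := by rw [← pow_two, ← order_ss, pow_orderOf_eq_one]
  have huniq : ∀ z : MM, orderOf z = 2 → z * ss = ss * z → z = ss := fun z hz hzs => Subtype.ext
    (t1_x3.unique (by rw [Subgroup.orderOf_coe]; exact hz) (mem_centralizer_singleton_iff.1 z.2) (congrArg Subtype.val hzs))
  rcases conj_or_comm hii hss with ⟨g, hg⟩ | ⟨z, hz, hzi, hzs⟩
  · exact ⟨g, hg⟩
  · have h1 := huniq z hz hzs
    rw [h1] at hzi
    have h2 := huniq i hi hzi.symm
    exact ⟨1, by rw [h2]; group⟩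

/-- **3-elements of the core commuting with an involution** -/
theorem mem_Z' {t i : MM} (ht : t ∈ QQ) (h3 : ∃ k, t ^ 3 ^ k = 1) (hi : orderOf i = 2) (hti : i * t = t * i) :
    t ∈ zpowers XX := by
  obtain ⟨m, rfl⟩ := conj_ss hi
  have h1 : m⁻¹ * t * m ∈ zpowers XX := by
    refine mem_Z ?_ ?_ ?_
    · have := normal_QQ.conj_mem t ht m⁻¹
      rwa [inv_inv] at this
    · obtain ⟨k, hk⟩ := h3
      refine ⟨k, ?_⟩
      have h4 := conj_pow (a := m⁻¹) (b := t) (i := 3 ^ k)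
      rw [inv_inv] at h4
      rw [h4, hk]
      group
    · calc m⁻¹ * t * m * ss = m⁻¹ * (t * (m * ss * m⁻¹)) * m := by group
        _ = m⁻¹ * (m * ss * m⁻¹ * t) * m := by rw [hti]
        _ = _ := by group
  have h2 := normal_Z.conj_mem _ h1 m
  have h4 : m * (m⁻¹ * t * m) * m⁻¹ = t := by group
  rwa [h4] at h2

/-! ### orders -/

theorem fac_eq {n m : ℕ} (p k : ℕ) (hp : p.Prime) (h : n = p ^ k * m) (hm : ¬ p ∣ m) (hn : n ≠ 0) : n.factorization p = k := by
  have hm0 : m ≠ 0 := by rintro rfl; exact hn (by rw [h, mul_zero])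
  rw [h, Nat.factorization_mul (pow_ne_zero _ hp.ne_zero) hm0, Finsupp.add_apply, hp.factorization_pow,
    Finsupp.single_eq_same, Nat.factorization_eq_zero_of_not_dvd hm, add_zero]

theorem fac_MM : (Nat.card MM).factorization 3 = 6 := by
  have h1 := MM.card_mul_index
  rw [card_G] at h1
  have h0 : Nat.card MM ≠ 0 := Nat.card_pos.ne'
  have hi0 : MM.index ≠ 0 := by
    intro h
    rw [h, mul_zero] at h1
    exact absurd h1 (by norm_num)
  have h2 : (Nat.card MM * MM.index).factorization 3 = 6 :=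
    fac_eq 3 6 Nat.prime_three (m := 374528000000) (by rw [h1]; norm_num) (by norm_num) (by rw [h1]; norm_num)
  rw [Nat.factorization_mul h0 hi0, Finsupp.add_apply, Nat.factorization_eq_zero_of_not_dvd index_X3, add_zero] at h2
  exact h2

theorem fac_index : QQ.index.factorization 3 = 1 := by
  have h3 : 3 ∣ Nat.card ↥(QQ ⊓ CC) := by
    have h1 : orderOf (⟨XX, XX_mem⟩ : ↥(QQ ⊓ CC)) ∣ _ := _root_.orderOf_dvd_natCard _
    rwa [← Subgroup.orderOf_coe, order_XX] at h1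
  obtain ⟨k, hk⟩ := three_dvd_index
  have h9 : ¬ 3 ∣ k := by
    rintro ⟨j, rfl⟩
    obtain ⟨l, hl⟩ := h3
    have h1 := card_CC_dvd
    rw [← card_CC, hk, hl] at h1
    have h2 : 27 ∣ 3 * l * (3 * (3 * j)) := ⟨l * j, by ring⟩
    have h4 := h2.trans h1
    norm_num at h4
  refine fac_eq 3 1 Nat.prime_three (m := k) (by rw [hk, pow_one]) h9 ?_
  intro h
  have h1 := QQ.card_mul_index
  rw [h, mul_zero] at h1
  exact Nat.card_pos.ne h1

theorem fac_QQ : (Nat.card QQ).factorization 3 = 5 := by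
  have h1 := QQ.card_mul_index
  have h0 : Nat.card QQ ≠ 0 := Nat.card_pos.ne'
  have hi0 : QQ.index ≠ 0 := by
    intro h
    rw [h, mul_zero] at h1
    exact Nat.card_pos.ne h1
  have h2 := fac_MM
  rw [← h1, Nat.factorization_mul h0 hi0, Finsupp.add_apply, fac_index] at h2
  omega

end Cfsg.Agent.H800.Wf.HNMid
end
end

-- part: H897/WfGF_mg
section
prune_inst 0x400400444006210000000058631000000000004000000000000010080000082a04500a00000003001400a810000000020024c0080404000000e200400000104010080120201400100200098000080000000000000000000000000000000000004200000000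
set_option linter.all false
open scoped Cfsg.Agent.FastGrp

-- part: H897/T5LatS
section
/-!
# Stabilisers of classes modulo `p` of the root lattice: two root lengths (S3826)

`R` is an orbit of short roots (norm `2`) spanning the root lattice.
`mem_VV_of_rep` : if `w μ ≡ μ` modulo `p` then `w` is a product of reflections in roots `β` with `p ∣ ⟨μ, β⟩`.
-/

set_option autoImplicit false
set_option linter.unusedSectionVars false

namespace Cfsg.Agent.H897.T5LatS

open CoxeterSystem Cfsg.Agent.ChevalleyStructure.CoxeterGeom Cfsg.Agent.Tits.Roots Cfsg.Agent.Tits.Core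
  Cfsg.Agent.Tits.RootComb Cfsg.Agent.Nodes.Comb Cfsg.Agent.Nodes.Reps Cfsg.Agent.Nodes.SubComb
  Cfsg.Agent.Nodes.Coroot Cfsg.Agent.Nodes.SimplyLaced Cfsg.Agent.Nodes.StabComb
open Cfsg.Agent.H897.T5Lat (VV VV_congr Min mem_VV_of_fix bf bf_apply)

variable {I W : Type*} [Fintype I] [DecidableEq I] [Group W] {M : CoxeterMatrix I}
  (cs : CoxeterSystem M W) {A : I → I → ℤ} (h : IsCartan M A)

/-- A form for which the roots of the spanning set `R` have norm `2`. -/
structure FrmS (B : LinearMap.BilinForm ℤ (I → ℤ)) (R : (I → ℤ) → Prop) : Prop where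
  symm : ∀ x y, B x y = B y x
  pos : ∀ x, x ≠ 0 → 0 < B x x
  inv : ∀ (w : W) x y, B (rep cs h w x) (rep cs h w y) = B x y
  root : ∀ x, R x → IsRoot cs h x
  act : ∀ (w : W) x, R x → R (rep cs h w x)
  self : ∀ x, R x → B x x = 2
  mult : ∀ x y, IsRoot cs h y → 2 * B x y = B y y * Cfsg.Agent.Nodes.Coroot.cpr cs h x y
  span : ∀ i, ∃ L : List (I → ℤ), (∀ y ∈ L, R y) ∧ L.sum = sr i

variable {cs h} {B : LinearMap.BilinForm ℤ (I → ℤ)} {R : (I → ℤ) → Prop}

namespace FrmS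

variable [Finite W] (F : FrmS cs h B R)
include F

theorem cpr {x y : I → ℤ} (hy : R y) : B x y = Cfsg.Agent.Nodes.Coroot.cpr cs h x y := by
  have h1 := F.mult x y (F.root y hy)
  rw [F.self y hy] at h1
  linarith

theorem refl {x y : I → ℤ} (hx : R x) (hy : R y) : R (x - Cfsg.Agent.Nodes.Coroot.cpr cs h x y • y) := by
  obtain ⟨w, i, rfl⟩ := F.root y hy
  have h1 := F.act (rfl' cs w i) x hx
  rwa [rep_rfl'_eq] at h1

theorem neg {x : I → ℤ} (hx : R x) : R (-x) := by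
  have h1 := F.refl hx hx
  rw [cpr_self cs h (F.root x hx), two_smul] at h1
  have h2 : x - (x + x) = -x := by abel
  rwa [h2] at h1

/-- the norm of a sum -/
theorem norm_add (x y : I → ℤ) : B (x + y) (x + y) = B x x + 2 * B x y + B y y := by
  simp only [map_add, LinearMap.add_apply]
  rw [F.symm y x]
  ring

theorem norm_sub_smul (x y : I → ℤ) (m : ℤ) : B (x - m • y) (x - m • y) = B x x - 2 * m * B x y + m * m * B y y := by
  rw [sub_eq_add_neg, F.norm_add]
  simp only [map_neg, LinearMap.neg_apply, map_smul, LinearMap.smul_apply, smul_eq_mul]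
  ring

theorem sl {x y : I → ℤ} (hx : R x) (hy : R y) (h1 : x ≠ y) (h2 : x ≠ -y) : |B x y| ≤ 1 := by
  have h3 := F.pos (x + y) (fun h0 => h2 (eq_neg_of_add_eq_zero_left h0))
  have h4 := F.pos (x - y) (sub_ne_zero.2 h1)
  rw [F.norm_add, F.self x hx, F.self y hy] at h3
  have h5 := F.norm_sub_smul x y 1
  rw [one_smul, F.self x hx, F.self y hy] at h5
  rw [h5] at h4
  rw [abs_le]
  constructor <;> omega

theorem nonneg (x : I → ℤ) : 0 ≤ B x x := by
  by_cases hx : x = 0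
  · rw [hx, map_zero]
  · exact (F.pos x hx).le

theorem eq_zero {x : I → ℤ} (hx : B x x ≤ 0) : x = 0 := by
  by_contra hcon
  exact absurd (F.pos x hcon) (not_lt.2 hx)

theorem sum_nonneg (x : I → ℤ) : ∀ L : List (I → ℤ), (∀ y ∈ L, 0 ≤ B x y) → 0 ≤ B x L.sum
  | [], _ => by rw [List.sum_nil, map_zero]
  | y :: L, hL => by
    rw [List.sum_cons, map_add]
    exact add_nonneg (hL y List.mem_cons_self) (sum_nonneg x L fun z hz => hL z (List.mem_cons_of_mem _ hz))

theorem sum_le (x : I → ℤ) (c : ℤ) : ∀ L : List (I → ℤ), (∀ y ∈ L, B x y ≤ c) → B x L.sum ≤ c * L.length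
  | [], _ => by rw [List.sum_nil, map_zero]; simp
  | y :: L, hL => by
    rw [List.sum_cons, map_add, List.length_cons]
    have h1 := hL y List.mem_cons_self
    have h2 := sum_le x c L fun z hz => hL z (List.mem_cons_of_mem _ hz)
    push_cast
    linarith

/-- Sums of roots without obtuse pairs are long. -/
theorem norm_sum : ∀ L : List (I → ℤ), (∀ x ∈ L, R x) → L.Pairwise (fun x y => 0 ≤ B x y) →
    2 * (L.length : ℤ) ≤ B L.sum L.sum
  | [], _, _ => by rw [List.sum_nil, map_zero]; simp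
  | x :: L, hL, hP => by
    rw [List.pairwise_cons] at hP
    rw [List.sum_cons, F.norm_add, F.self _ (hL x List.mem_cons_self), List.length_cons]
    have h1 := norm_sum L (fun z hz => hL z (List.mem_cons_of_mem _ hz)) hP.2
    have h2 := F.sum_nonneg x L hP.1
    push_cast
    linarith

/-- Every sum of roots is a sum of at most as many roots without obtuse pairs. -/
theorem exists_pairwise : ∀ (n : ℕ) (L : List (I → ℤ)), L.length ≤ n → (∀ x ∈ L, R x) →
    ∃ L' : List (I → ℤ), L'.length ≤ L.length ∧ (∀ x ∈ L', R x) ∧ L'.sum = L.sum ∧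
      L'.Pairwise (fun x y => 0 ≤ B x y) := by
  intro n
  induction n with
  | zero =>
    intro L hL _
    have h0 : L = [] := List.length_eq_zero_iff.1 (Nat.le_zero.1 hL)
    subst h0
    exact ⟨[], le_refl _, by simp, rfl, List.Pairwise.nil⟩
  | succ n ih =>
    intro L hL hR
    rcases L with _ | ⟨x, L1⟩
    · exact ⟨[], le_refl _, by simp, rfl, List.Pairwise.nil⟩
    rw [List.length_cons] at hL
    obtain ⟨L2, hl, hr, hs, hp⟩ := ih L1 (by omega) fun z hz => hR z (List.mem_cons_of_mem _ hz)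
    have hx := hR x List.mem_cons_self
    by_cases hall : ∀ y ∈ L2, 0 ≤ B x y
    · refine ⟨x :: L2, ?_, ?_, ?_, List.pairwise_cons.2 ⟨hall, hp⟩⟩
      · rw [List.length_cons, List.length_cons]; omega
      · intro z hz
        rcases List.mem_cons.1 hz with rfl | hz
        · exact hx
        · exact hr z hz
      · rw [List.sum_cons, List.sum_cons, hs]
    · push Not at hall
      obtain ⟨y, hy, hxy⟩ := hall
      have hyr := hr y hy
      obtain ⟨L3, hL3⟩ : ∃ L3, L2.Perm (y :: L3) := ⟨_, List.perm_cons_erase hy⟩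
      have hlen : L2.length = L3.length + 1 := by rw [hL3.length_eq, List.length_cons]
      have hsum : L2.sum = y + L3.sum := by rw [hL3.sum_eq, List.sum_cons]
      have hr3 : ∀ z ∈ L3, R z := fun z hz => hr z (hL3.mem_iff.2 (List.mem_cons_of_mem _ hz))
      by_cases hxy' : x = -y
      · -- cancel
        obtain ⟨L4, h1, h2, h3, h4⟩ := ih L3 (by omega) hr3
        refine ⟨L4, ?_, h2, ?_, h4⟩
        · rw [List.length_cons]; omega
        · rw [h3, List.sum_cons, ← hs, hsum, hxy']; abel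
      · have hne : x ≠ y := by
          rintro rfl
          rw [F.self _ hx] at hxy
          omega
        have hc := F.sl hx hyr hne hxy'
        rw [F.cpr hyr] at hxy hc
        have hc1 : Cfsg.Agent.Nodes.Coroot.cpr cs h x y = -1 := by
          rw [abs_le] at hc
          omega
        have h1 := F.refl hx hyr
        rw [hc1] at h1
        have h2 : x - (-1 : ℤ) • y = x + y := by rw [neg_smul, one_smul, sub_neg_eq_add]
        rw [h2] at h1
        obtain ⟨L4, h3, h4, h5, h6⟩ := ih ((x + y) :: L3) (by rw [List.length_cons]; omega) (by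
          intro z hz
          rcases List.mem_cons.1 hz with rfl | hz
          · exact h1
          · exact hr3 z hz)
        refine ⟨L4, ?_, h4, ?_, h6⟩
        · rw [List.length_cons] at h3 ⊢; omega
        · rw [h5, List.sum_cons, List.sum_cons, ← hs, hsum, add_assoc]

theorem sum_neg : ∀ L : List (I → ℤ), (∀ y ∈ L, R y) → ∃ L' : List (I → ℤ), (∀ y ∈ L', R y) ∧ L'.sum = -L.sum
  | [], _ => ⟨[], by simp, by simp⟩
  | y :: L, hL => by
    obtain ⟨L', h1, h2⟩ := sum_neg L fun z hz => hL z (List.mem_cons_of_mem _ hz)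
    refine ⟨-y :: L', fun z hz => ?_, by rw [List.sum_cons, List.sum_cons, h2]; abel⟩
    rcases List.mem_cons.1 hz with rfl | hz
    · exact F.neg (hL y List.mem_cons_self)
    · exact h1 z hz

omit F in
theorem sum_smul {L : List (I → ℤ)} (hL : ∀ y ∈ L, R y) : ∀ n : ℕ, ∃ L' : List (I → ℤ), (∀ y ∈ L', R y) ∧
    L'.sum = (n : ℤ) • L.sum
  | 0 => ⟨[], by simp, by simp⟩
  | n + 1 => by
    obtain ⟨L', h1, h2⟩ := sum_smul hL n
    refine ⟨L ++ L', fun y hy => ?_, ?_⟩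
    · rcases List.mem_append.1 hy with hy | hy
      · exact hL y hy
      · exact h1 y hy
    · rw [List.sum_append, h2]
      push_cast
      rw [add_smul, one_smul, add_comm]

theorem sum_sr_list : ∀ (s : List I) (x : I → ℤ), ∃ L : List (I → ℤ), (∀ y ∈ L, R y) ∧
    L.sum = (s.map fun i => x i • sr i).sum
  | [], _ => ⟨[], by simp, rfl⟩
  | i :: s, x => by
    obtain ⟨L, h1, h2⟩ := sum_sr_list s x
    obtain ⟨Li, hi1, hi2⟩ := F.span i
    obtain ⟨L', h3, h4⟩ : ∃ L' : List (I → ℤ), (∀ y ∈ L', R y) ∧ L'.sum = x i • sr i := by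
      rcases Int.eq_nat_or_neg (x i) with ⟨n, hn | hn⟩
      · obtain ⟨L', h3, h4⟩ := sum_smul hi1 n
        exact ⟨L', h3, by rw [h4, hi2, hn]⟩
      · obtain ⟨L', h3, h4⟩ := sum_smul hi1 n
        obtain ⟨L'', h5, h6⟩ := F.sum_neg L' h3
        exact ⟨L'', h5, by rw [h6, h4, hi2, hn, neg_smul]⟩
    refine ⟨L' ++ L, fun y hy => ?_, ?_⟩
    · rcases List.mem_append.1 hy with hy | hy
      · exact h3 y hy
      · exact h1 y hy
    · rw [List.sum_append, h4, h2, List.map_cons, List.sum_cons]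

/-- Every vector is a sum of short roots. -/
theorem exists_list (x : I → ℤ) : ∃ L : List (I → ℤ), (∀ y ∈ L, R y) ∧ L.sum = x := by
  obtain ⟨L, h1, h2⟩ := F.sum_sr_list (Finset.univ : Finset I).toList x
  refine ⟨L, h1, ?_⟩
  rw [h2, Finset.sum_map_toList]
  exact (eq_sum_sr x).symm

end FrmS

section Main

variable [Finite W] (F : FrmS cs h B R) {p : ℕ}
include F

theorem min_le {μ : I → ℤ} (hp : 0 < p) (hμ : _root_.Cfsg.Agent.H897.T5Lat.Min B p μ) {β : I → ℤ} (hβ : R β) : B μ β ≤ p := by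
  have h1 := hμ β
  rw [F.norm_sub_smul, F.self _ hβ] at h1
  have hp' : (0 : ℤ) < p := by exact_mod_cast hp
  by_contra hcon
  push Not at hcon
  nlinarith

/-- The step towards another minimal vector. -/
theorem exists_step (hp : 0 < p) {μ ν : I → ℤ} (hμ : _root_.Cfsg.Agent.H897.T5Lat.Min B p μ) (hμν : _root_.Cfsg.Agent.H897.T5Lat.Min B p (μ - (p : ℤ) • ν)) (hν : ν ≠ 0) :
    ∃ β, R β ∧ B μ β = p ∧ B ν β = 2 := by
  have hp' : (0 : ℤ) < p := by exact_mod_cast hp
  obtain ⟨L0, hR0, hs0⟩ := F.exists_list ν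
  obtain ⟨L, -, hR, hs, hP⟩ := F.exists_pairwise L0.length L0 (le_refl _) hR0
  rw [hs0] at hs
  rcases L with _ | ⟨β, L⟩
  · exact absurd hs.symm hν
  rw [List.pairwise_cons] at hP
  have hβ := hR β List.mem_cons_self
  have hR' : ∀ x ∈ L, R x := fun z hz => hR z (List.mem_cons_of_mem _ hz)
  rw [List.sum_cons] at hs
  -- the norms
  have h1 : (p : ℤ) * B ν ν = 2 * B μ ν := by
    have h2 := hμ ν
    have h3 := hμν (-ν)
    have h4 : μ - (p : ℤ) • ν - (p : ℤ) • (-ν) = μ := by rw [smul_neg]; abel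
    rw [h4] at h3
    have h5 := le_antisymm h2 h3
    rw [F.norm_sub_smul] at h5
    have h6 : (p : ℤ) * ((p : ℤ) * B ν ν - 2 * B μ ν) = 0 := by linarith only [h5]
    rcases mul_eq_zero.1 h6 with h7 | h7
    · omega
    · linarith only [h7]
  have h2 := F.norm_sum L hR' hP.2
  have h3 : B ν ν = 2 + 2 * B β L.sum + B L.sum L.sum := by rw [← hs, F.norm_add, F.self _ hβ]
  have h4 : B μ ν = B μ β + B μ L.sum := by rw [← hs, map_add]
  have h5 := F.sum_le μ p L fun y hy => min_le F hp hμ (hR' y hy)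
  have h6 := min_le F hp hμ hβ
  have h7 := F.sum_nonneg β L hP.1
  have h8 : (p : ℤ) * B β L.sum ≤ 0 := by nlinarith only [h1, h2, h3, h4, h5, h6]
  have h9 : B β L.sum = 0 := by
    by_contra hcon
    have : 0 < B β L.sum := lt_of_le_of_ne h7 (Ne.symm hcon)
    nlinarith only [hp, h8, this]
  refine ⟨β, hβ, ?_, ?_⟩
  · rw [h9] at h3
    nlinarith only [h1, h2, h3, h4, h5, h6]
  · rw [← hs, F.symm, map_add, F.self _ hβ, h9, add_zero]

/-- **Minimal vectors of a class are conjugate.** -/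
theorem trans (hp : 0 < p) : ∀ (n : ℕ) {μ ν : I → ℤ}, _root_.Cfsg.Agent.H897.T5Lat.Min B p μ → _root_.Cfsg.Agent.H897.T5Lat.Min B p (μ - (p : ℤ) • ν) → B ν ν ≤ n →
    ∃ v ∈ VV cs h p μ, rep cs h v μ = μ - (p : ℤ) • ν := by
  intro n
  induction n with
  | zero =>
    intro μ ν _ _ hn
    have h0 := F.eq_zero hn
    refine ⟨1, one_mem _, ?_⟩
    rw [map_one, Module.End.one_apply, h0, smul_zero, sub_zero]
  | succ n ih =>
    intro μ ν hμ hμν hn
    by_cases hν : ν = 0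
    · refine ⟨1, one_mem _, ?_⟩
      rw [map_one, Module.End.one_apply, hν, smul_zero, sub_zero]
    obtain ⟨β, hβ, h1, h2⟩ := exists_step F hp hμ hμν hν
    obtain ⟨w, i, rfl⟩ := F.root _ hβ
    obtain ⟨β, hβe⟩ : ∃ β, β = rep cs h w (sr i) := ⟨_, rfl⟩
    have h3 : rep cs h (rfl' cs w i) μ = μ - (p : ℤ) • β := by
      rw [rep_rfl'_eq, ← F.cpr hβ, h1, hβe]
    have hmem : rfl' cs w i ∈ VV cs h p μ := by
      refine Subgroup.subset_closure ⟨w, i, ?_, rfl⟩
      rw [← F.cpr hβ, h1]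
    have hmin : _root_.Cfsg.Agent.H897.T5Lat.Min B p (μ - (p : ℤ) • β) := by
      intro l
      have h4 : B (μ - (p : ℤ) • β) (μ - (p : ℤ) • β) = B μ μ := by rw [← h3, F.inv]
      rw [h4, sub_sub, ← smul_add]
      exact hμ _
    have h5 : μ - (p : ℤ) • β - (p : ℤ) • (ν - β) = μ - (p : ℤ) • ν := by rw [smul_sub]; abel
    obtain ⟨v, hv, hv1⟩ := ih (μ := μ - (p : ℤ) • β) (ν := ν - β) hmin (by rw [h5]; exact hμν) (by
      have h6 := F.norm_sub_smul ν β 1
      rw [one_smul] at h6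
      rw [h6, hβe, h2, F.self _ hβ]
      push_cast at hn
      linarith only [hn])
    rw [VV_congr] at hv
    refine ⟨v * rfl' cs w i, mul_mem hv hmem, ?_⟩
    rw [rep_mul_apply, h3, hv1, h5]

/-- every class has a minimal vector -/
theorem exists_min (p : ℕ) (μ : I → ℤ) : ∃ l, _root_.Cfsg.Agent.H897.T5Lat.Min B p (μ - (p : ℤ) • l) := by
  obtain ⟨l, hl⟩ : ∃ l : I → ℤ, ∀ l' : I → ℤ, (B (μ - (p : ℤ) • l) (μ - (p : ℤ) • l)).toNat ≤
      (B (μ - (p : ℤ) • l') (μ - (p : ℤ) • l')).toNat :=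
    ⟨_, fun l' => Function.argmin_le (fun l : I → ℤ => (B (μ - (p : ℤ) • l) (μ - (p : ℤ) • l)).toNat) l'⟩
  refine ⟨l, fun l' => ?_⟩
  have h1 := hl (l + l')
  have h2 : μ - (p : ℤ) • l - (p : ℤ) • l' = μ - (p : ℤ) • (l + l') := by rw [smul_add]; abel
  rw [h2]
  have h3 := F.nonneg (μ - (p : ℤ) • l)
  have h4 := F.nonneg (μ - (p : ℤ) • (l + l'))
  omega

/-- **An isometry fixing the class of `μ` fixes a minimal vector of the class, up to reflections.** -/
theorem exists_fix (hp : 0 < p) {θ : (I → ℤ) → I → ℤ} (hθ : ∀ x, B (θ x) (θ x) = B x x)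
    (hsub : ∀ x l, ∃ l', θ (x - (p : ℤ) • l) = θ x - (p : ℤ) • l')
    (hsub' : ∀ x l, ∃ l', θ l' = l ∧ θ (x - (p : ℤ) • l') = θ x - (p : ℤ) • l)
    {μ l0 : I → ℤ} (hμ : θ μ = μ - (p : ℤ) • l0) :
    ∃ l, _root_.Cfsg.Agent.H897.T5Lat.Min B p (μ - (p : ℤ) • l) ∧ ∃ v ∈ VV cs h p μ, rep cs h v (θ (μ - (p : ℤ) • l)) = μ - (p : ℤ) • l := by
  obtain ⟨l, hl⟩ := exists_min F p μ
  refine ⟨l, hl, ?_⟩
  obtain ⟨l1, h1⟩ := hsub μ l
  -- `θ` of the minimal vector is minimal
  have hmin : _root_.Cfsg.Agent.H897.T5Lat.Min B p (θ (μ - (p : ℤ) • l)) := by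
    intro l2
    obtain ⟨l3, -, h3⟩ := hsub' (μ - (p : ℤ) • l) l2
    rw [← h3, hθ, hθ]
    exact hl l3
  have h2 : μ - (p : ℤ) • l = θ (μ - (p : ℤ) • l) - (p : ℤ) • (l - l0 - l1) := by
    rw [h1, hμ, smul_sub, smul_sub]; abel
  have hn : B (l - l0 - l1) (l - l0 - l1) ≤ ((B (l - l0 - l1) (l - l0 - l1)).toNat : ℤ) := by
    rw [Int.toNat_of_nonneg (F.nonneg _)]
  obtain ⟨v, hv, hv1⟩ := trans F hp _ hmin (by rw [← h2]; exact hl) hn
  refine ⟨v, ?_, ?_⟩
  · have h3 : VV cs h p (θ (μ - (p : ℤ) • l)) = VV cs h p μ := by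
      have h4 : θ (μ - (p : ℤ) • l) = μ - (p : ℤ) • (l0 + l1) := by rw [h1, hμ, smul_add]; abel
      rw [h4, VV_congr]
    rwa [h3] at hv
  · rw [hv1, ← h2]

/-- **The stabiliser of a class modulo `p` is generated by reflections.** -/
theorem mem_VV_of_rep (hp : 0 < p) {w : W} {μ l0 : I → ℤ} (hw : rep cs h w μ = μ - (p : ℤ) • l0) :
    w ∈ VV cs h p μ := by
  obtain ⟨l, hl, v, hv, hv1⟩ := exists_fix F hp (θ := fun x => rep cs h w x) (fun x => F.inv w x x)
    (fun x l => ⟨rep cs h w l, by rw [map_sub, map_smul]⟩)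
    (fun x l => ⟨rep cs h w⁻¹ l, rep_apply_inv cs h w l, by
      show rep cs h w (x - (p : ℤ) • rep cs h w⁻¹ l) = _
      rw [map_sub, map_smul, rep_apply_inv]⟩) hw
  have h1 : v * w ∈ VV cs h p (μ - (p : ℤ) • l) := mem_VV_of_fix (by rw [rep_mul_apply]; exact hv1)
  rw [VV_congr] at h1
  have h2 : w = v⁻¹ * (v * w) := by group
  rw [h2]
  exact mul_mem (inv_mem hv) h1

end Main

end Cfsg.Agent.H897.T5LatS
end

-- part: H897/T5FormS
section
/-!
# The form of a symmetrised Cartan matrix (S3826)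
-/

set_option autoImplicit false
set_option linter.unusedSectionVars false

namespace Cfsg.Agent.H897.T5FormS

open CoxeterSystem Cfsg.Agent.ChevalleyStructure.CoxeterGeom Cfsg.Agent.Tits.Roots Cfsg.Agent.Tits.Core
  Cfsg.Agent.Tits.RootComb Cfsg.Agent.Nodes.Comb Cfsg.Agent.Nodes.Reps Cfsg.Agent.Nodes.SubComb
  Cfsg.Agent.Nodes.Coroot Cfsg.Agent.Nodes.SimplyLaced Cfsg.Agent.Nodes.StabComb Cfsg.Agent.H897.T5LatS
open Cfsg.Agent.H897.T5Lat (VV VV_congr Min mem_VV_of_fix bf bf_apply)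

variable {I W : Type*} [Fintype I] [DecidableEq I] [Group W] {M : CoxeterMatrix I}
  (cs : CoxeterSystem M W) {A : I → I → ℤ} (h : IsCartan M A)

/-- A symmetrised Cartan matrix `S`, with `S s0 s0 = 2`; `par` leads to `s0` along edges. -/
structure SymC (A S : I → I → ℤ) (s0 : I) (par : I → I) (n : ℕ) : Prop where
  symm : ∀ i j, S i j = S j i
  car : ∀ i j, 2 * S j i = S j j * A j i
  pos : ∀ i, 0 < S i i
  adj : ∀ j, j = s0 ∨ A j (par j) ≠ 0
  lead : ∀ j, par^[n] j = s0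
  two : S s0 s0 = 2

theorem bf_sr (S : I → I → ℤ) (i j : I) : bf S (sr i) (sr j) = S i j := by
  rw [bf_apply, Finset.sum_eq_single i]
  · rw [Finset.sum_eq_single j]
    · rw [sr_self, sr_self, one_mul, mul_one]
    · intro b _ hb; rw [sr_ne hb, mul_zero]
    · intro hj; exact absurd (Finset.mem_univ j) hj
  · intro b _ hb
    refine Finset.sum_eq_zero fun c _ => ?_
    rw [sr_ne hb, zero_mul, zero_mul]
  · intro hj; exact absurd (Finset.mem_univ i) hj

theorem pairing_sr (A : I → I → ℤ) (i j : I) : pairing A i (sr j) = A i j := by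
  rw [sr, pairing_single, mul_one]

namespace SymC

variable {S : I → I → ℤ} {s0 : I} {par : I → I} {n : ℕ} (H : SymC A S s0 par n)
include H

theorem two_form [Fintype W] (x : I → ℤ) (j : I) : 2 * form cs h x (sr j) = pairing A j x * form cs h (sr j) (sr j) := by
  rw [two_form_cpr cs h x (isRoot_sr cs h j), cpr_sr]

theorem step [Fintype W] {i j : I} (hij : A j i ≠ 0) :
    form cs h (sr j) (sr j) * S i i = form cs h (sr i) (sr i) * S j j := by
  have h1 := H.two_form cs h (sr i) j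
  have h2 := H.two_form cs h (sr j) i
  rw [pairing_sr] at h1 h2
  rw [form_comm, h1] at h2
  have h3 : S j j * A j i = S i i * A i j := by rw [← H.car, ← H.car, H.symm i j]
  have h4 : A j i * (form cs h (sr j) (sr j) * S i i) = A j i * (form cs h (sr i) (sr i) * S j j) := by
    calc A j i * (form cs h (sr j) (sr j) * S i i) = (A j i * form cs h (sr j) (sr j)) * S i i := by ring
      _ = (A i j * form cs h (sr i) (sr i)) * S i i := by rw [h2]
      _ = (S i i * A i j) * form cs h (sr i) (sr i) := by ring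
      _ = (S j j * A j i) * form cs h (sr i) (sr i) := by rw [h3]
      _ = _ := by ring
  exact mul_left_cancel₀ hij h4

theorem len [Fintype W] (j : I) : form cs h (sr j) (sr j) * 2 = form cs h (sr s0) (sr s0) * S j j := by
  have key : ∀ (m : ℕ) (j : I), par^[m] j = s0 →
      form cs h (sr j) (sr j) * 2 = form cs h (sr s0) (sr s0) * S j j := by
    intro m
    induction m with
    | zero =>
      intro j hj
      have hj' : j = s0 := hj
      rw [hj', H.two]
    | succ m ih =>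
      intro j hj
      rw [Function.iterate_succ_apply] at hj
      have h1 := ih _ hj
      rcases H.adj j with h2 | h2
      · rw [h2, H.two]
      · have h3 := H.step cs h h2
        have h4 := H.pos (par j)
        have h5 : S (par j) (par j) * (form cs h (sr j) (sr j) * 2) =
            S (par j) (par j) * (form cs h (sr s0) (sr s0) * S j j) := by
          calc S (par j) (par j) * (form cs h (sr j) (sr j) * 2)
              = (form cs h (sr j) (sr j) * S (par j) (par j)) * 2 := by ring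
            _ = (form cs h (sr (par j)) (sr (par j)) * S j j) * 2 := by rw [h3]
            _ = (form cs h (sr (par j)) (sr (par j)) * 2) * S j j := by ring
            _ = (form cs h (sr s0) (sr s0) * S (par j) (par j)) * S j j := by rw [h1]
            _ = _ := by ring
        exact mul_left_cancel₀ h4.ne' h5
  exact key n j (H.lead j)

theorem form_eq [Fintype W] (x y : I → ℤ) : 2 * form cs h x y = bf S x y * form cs h (sr s0) (sr s0) := by
  obtain ⟨c0, hc0⟩ : ∃ c0, c0 = form cs h (sr s0) (sr s0) := ⟨_, rfl⟩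
  rw [← hc0]
  have h1 : ∀ i, 2 * form cs h x (sr i) = bf S x (sr i) * c0 := by
    intro i
    have h2 := H.two_form cs h x i
    have h3 := H.len cs h i
    rw [← hc0] at h3
    have h4 : 2 * bf S x (sr i) = S i i * pairing A i x := by
      rw [bf_apply, pairing, Finset.mul_sum, Finset.mul_sum]
      refine Finset.sum_congr rfl fun k _ => ?_
      rw [Finset.sum_eq_single i]
      · rw [sr_self, mul_one, H.symm k i]
        have := H.car k i
        linear_combination (x k) * this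
      · intro b _ hb; rw [sr_ne hb, mul_zero]
      · intro hj; exact absurd (Finset.mem_univ i) hj
    have h5 : 2 * (2 * form cs h x (sr i)) = 2 * (bf S x (sr i) * c0) := by
      rw [h2]
      calc 2 * (pairing A i x * form cs h (sr i) (sr i)) = pairing A i x * (form cs h (sr i) (sr i) * 2) := by ring
        _ = pairing A i x * (c0 * S i i) := by rw [h3]
        _ = (S i i * pairing A i x) * c0 := by ring
        _ = (2 * bf S x (sr i)) * c0 := by rw [h4]
        _ = _ := by ring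
    exact mul_left_cancel₀ two_ne_zero h5
  have h2 : ∀ s : Finset I, 2 * form cs h x (∑ k ∈ s, y k • sr k) = bf S x (∑ k ∈ s, y k • sr k) * c0 := by
    classical
    intro s
    induction s using Finset.induction_on with
    | empty => rw [Finset.sum_empty, form_zero_right, map_zero, mul_zero, zero_mul]
    | insert a s ha ih =>
      rw [Finset.sum_insert ha, form_add_right, form_smul_right, map_add, map_smul, smul_eq_mul, mul_add, ih, add_mul]
      have := h1 a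
      linear_combination (y a) * this
  have h3 := h2 Finset.univ
  rwa [← eq_sum_sr y] at h3

variable [Finite W]

/-- **The form.** -/
theorem frmS (hspan : ∀ i, ∃ L : List (I → ℤ), (∀ y ∈ L, IsRoot cs h y ∧ bf S y y = 2) ∧ L.sum = sr i) :
    FrmS cs h (bf S) fun x => IsRoot cs h x ∧ bf S x x = 2 := by
  have := Fintype.ofFinite W
  have hc0 : 0 < form cs h (sr s0) (sr s0) := form_pos cs h (isRoot_sr cs h s0).ne_zero
  have hinv : ∀ (w : W) x y, bf S (rep cs h w x) (rep cs h w y) = bf S x y := by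
    intro w x y
    have h1 := H.form_eq cs h x y
    have h2 := H.form_eq cs h (rep cs h w x) (rep cs h w y)
    rw [form_rep, h1] at h2
    exact (mul_right_cancel₀ hc0.ne' h2).symm
  refine ⟨fun x y => ?_, fun x hx => ?_, hinv, fun x hx => hx.1, fun w x hx => ⟨hx.1.act w, by rw [hinv]; exact hx.2⟩,
    fun x hx => hx.2, fun x y hy => ?_, hspan⟩
  · have h1 := H.form_eq cs h x y
    have h2 := H.form_eq cs h y x
    rw [form_comm, h1] at h2
    exact mul_right_cancel₀ hc0.ne' h2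
  · have h1 := H.form_eq cs h x x
    have h2 := form_pos cs h hx
    by_contra hcon
    push Not at hcon
    nlinarith
  · have h1 := H.form_eq cs h x y
    have h2 := H.form_eq cs h y y
    have h3 := two_form_cpr cs h x hy
    have h4 : (2 * bf S x y) * form cs h (sr s0) (sr s0) =
        (bf S y y * Cfsg.Agent.Nodes.Coroot.cpr cs h x y) * form cs h (sr s0) (sr s0) := by
      calc (2 * bf S x y) * form cs h (sr s0) (sr s0) = 2 * (bf S x y * form cs h (sr s0) (sr s0)) := by ring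
        _ = 2 * (2 * form cs h x y) := by rw [h1]
        _ = 2 * (Cfsg.Agent.Nodes.Coroot.cpr cs h x y * form cs h y y) := by rw [h3]
        _ = Cfsg.Agent.Nodes.Coroot.cpr cs h x y * (2 * form cs h y y) := by ring
        _ = Cfsg.Agent.Nodes.Coroot.cpr cs h x y * (bf S y y * form cs h (sr s0) (sr s0)) := by rw [h2]
        _ = _ := by ring
    exact mul_right_cancel₀ hc0.ne' h4

/-- roots of the same length as the simple root `i0` are conjugate to it -/
theorem conj (i0 : I) (hconj : ∀ j, S j j = S i0 i0 → ∃ w : W, rep cs h w (sr j) = sr i0)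
    {a : I → ℤ} (ha : IsRoot cs h a) (hn : bf S a a = S i0 i0)
    (hinv : ∀ (w : W) x y, bf S (rep cs h w x) (rep cs h w y) = bf S x y) :
    ∃ w : W, rep cs h w a = sr i0 := by
  obtain ⟨w, j, rfl⟩ := ha
  rw [hinv, bf_sr] at hn
  obtain ⟨w', hw'⟩ := hconj j hn
  exact ⟨w' * w⁻¹, by rw [rep_mul_apply, rep_inv_apply, hw']⟩

end SymC

end Cfsg.Agent.H897.T5FormS
end

-- part: H897/T5RootS
section
/-!
# Elements of order `p ∣ q ± 1`, two root lengths (S3826)

`con_of_frmS`, `exists_frameS`, `inner_rootS` : the versions of `con_of_frm`, `exists_frame`, `inner_root` for a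
symmetrised Cartan matrix `S`.
-/

set_option autoImplicit false
set_option linter.unusedSectionVars false

namespace Cfsg.Agent.H897.T5RootS

open CoxeterSystem Cfsg Cfsg.Lie Cfsg.Lie.ChevalleyDatum
open Cfsg.Agent.ChevalleyStructure Cfsg.Agent.ChevalleyStructure.Elts Cfsg.Agent.ChevalleyStructure.CoxeterGeom
  Cfsg.Agent.ChevalleyStructure.CoxeterGeomTypes Cfsg.Agent.ChevalleyStructure.NPerm
open Cfsg.Agent.Tits.Roots Cfsg.Agent.Tits.Core Cfsg.Agent.Nodes Cfsg.Agent.Nodes.Reps Cfsg.Agent.Nodes.BNOf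
  Cfsg.Agent.Nodes.RGDChev Cfsg.Agent.Nodes.Bruhat Cfsg.Agent.Nodes.SubComb Cfsg.Agent.Nodes.Coroot
open Cfsg.Agent.KFacts.RgdField Cfsg.Agent.KFacts.RgdChevCoord Cfsg.Agent.BpExc.TorCent Cfsg.Agent.BpExc.TorChev
open Cfsg.Agent.GpExc.Field Cfsg.Agent.BpExc.Tow Cfsg.Agent.BpExc.TowChev Cfsg.Agent.BpExc.Fr
  Cfsg.Agent.BpExc.LangFr Cfsg.Agent.LangThm Cfsg.Agent.BpExc Cfsg.Agent.H129.TorusChar Cfsg.Agent.H129.TorusMain
open Cfsg.Agent.H795.SetCent Cfsg.Agent.H795.SetTor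
open Cfsg.Agent.H720.TorusReal Cfsg.Agent.H897.T5Cent Cfsg.Agent.H897.T5Root Cfsg.Agent.H897.T5Frame
open Cfsg.Agent.ChevalleyStructure.SL2Hom (up lo mem_closure_SL2)
open Cfsg.Agent.OddHalf.LongSL.Chev (phi phi_up phi_lo)
open Cfsg.Agent.H897.T5Lat (bf bf_apply)
open Cfsg.Agent.H897.T5LatS (FrmS)
open Cfsg.Agent.H897.T5FormS (SymC bf_sr)
open Cfsg.Agent.GenExc.Chev (commOK)

/-- `S⁻¹` up to `d` -/
def InvS {l : ℕ} (S B : Fin l → Fin l → ℤ) (d : ℕ) : Prop :=
  ∀ i j, ∑ m, B i m * S m j = if i = j then (d : ℤ) else 0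

instance {l : ℕ} (S B : Fin l → Fin l → ℤ) (d : ℕ) : Decidable (InvS S B d) := by
  unfold InvS; infer_instance

section Con

universe u v

variable {D : ChevalleyDatum} {l : ℕ} {M : CoxeterMatrix (Fin l)} (hp : IsType D l M) {k : Type u} [Field k]
  [IsAlgClosed k] {W : Type v} [Group W] [Finite W] (cs : CoxeterSystem M W) (hk : LocFin k) (r : ℕ) [Fact r.Prime]
  [CharP k r]

variable {p : ℕ} (hpp : p.Prime) (hpr : p ≠ r)

variable {S B : Fin l → Fin l → ℤ} {d : ℕ} (hB : InvS S B d) (hpd : d.Coprime p)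

include hpp hB hpd in
/-- **The character of an element of order `p` is the pairing with a lattice vector.** -/
theorem exists_muS {ζ : k} (hζ : IsPrimitiveRoot ζ p) {t : ↥(D.group k)} (ht : t ∈ TT D k) (htp : t ^ p = 1) :
    ∃ μ : Fin l → ℤ, ∀ x, cX hp t x = ζ ^ (bf S μ x) := by
  have hζ0 : ζ ≠ 0 := hζ.ne_zero hpp.ne_zero
  have h1 : ∀ i : Fin l, ∃ c : ℕ, ζ ^ c = cX hp t (sr i) := by
    intro i
    have h2 : cX hp t (sr i) ^ p = 1 := by rw [← cX_pow hp ht, htp, cX_one]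
    have : NeZero p := ⟨hpp.ne_zero⟩
    obtain ⟨c, -, hc⟩ := hζ.eq_pow_of_pow_eq_one h2
    exact ⟨c, hc⟩
  choose c hc using h1
  obtain ⟨u, hu⟩ : ∃ u : ℤ, (p : ℤ) ∣ u * d - 1 := by
    have h2 : IsCoprime (d : ℤ) (p : ℤ) := Nat.isCoprime_iff_coprime.2 hpd
    obtain ⟨a, b, hab⟩ := h2
    exact ⟨a, ⟨-b, by linarith only [hab]⟩⟩
  have hud : ζ ^ (u * d) = ζ := by
    obtain ⟨v, hv⟩ := hu
    have : u * d = 1 + p * v := by linarith only [hv]
    rw [this, zpow_add₀ hζ0, zpow_one, zpow_mul, zpow_natCast, hζ.pow_eq_one, one_zpow, mul_one]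
  refine ⟨fun i => u * ∑ m, (c m : ℤ) * B m i, fun x => ?_⟩
  have h2 : bf S (fun i => u * ∑ m, (c m : ℤ) * B m i) x = (u * d) * ∑ j, (c j : ℤ) * x j := by
    rw [bf_apply, Finset.sum_comm, Finset.mul_sum]
    refine Finset.sum_congr rfl fun j _ => ?_
    have h3 : ∀ m, ∑ i, B m i * S i j = if m = j then (d : ℤ) else 0 := fun m => hB m j
    calc ∑ i, u * (∑ m, (c m : ℤ) * B m i) * S i j * x j
        = u * (∑ i, ∑ m, (c m : ℤ) * (B m i * S i j)) * x j := by
          rw [Finset.mul_sum, Finset.sum_mul]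
          refine Finset.sum_congr rfl fun i _ => ?_
          have : ∑ m, (c m : ℤ) * (B m i * S i j) = (∑ m, (c m : ℤ) * B m i) * S i j := by
            rw [Finset.sum_mul]
            exact Finset.sum_congr rfl fun m _ => by ring
          rw [this]; ring
      _ = u * (∑ m, (c m : ℤ) * ∑ i, B m i * S i j) * x j := by
          rw [Finset.sum_comm]
          congr 2
          refine Finset.sum_congr rfl fun m _ => ?_
          rw [Finset.mul_sum]
      _ = u * ((c j : ℤ) * d) * x j := by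
          congr 2
          rw [Finset.sum_eq_single j]
          · rw [h3, if_pos rfl]
          · intro m _ hm
            rw [h3, if_neg hm, mul_zero]
          · intro hj; exact absurd (Finset.mem_univ j) hj
      _ = _ := by ring
  rw [h2, zpow_mul, hud]
  rw [(isMC_cX hp ht).eq_prod x]
  have h3 : ∀ s : Finset (Fin l), ∏ i ∈ s, cX hp t (sr i) ^ x i = ζ ^ (∑ j ∈ s, (c j : ℤ) * x j) := by
    intro s
    classical
    induction s using Finset.induction_on with
    | empty => rw [Finset.prod_empty, Finset.sum_empty, zpow_zero]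
    | insert a s ha ih =>
      rw [Finset.prod_insert ha, Finset.sum_insert ha, ih, zpow_add₀ hζ0, ← hc a, ← zpow_natCast, ← zpow_mul]
  exact h3 _

include hB hpd in
/-- vectors with the same pairings modulo `p` -/
theorem sub_of_dvdS (hA : ∀ i j, S i j = S j i) {ν : Fin l → ℤ}
    (h : ∀ x, (p : ℤ) ∣ bf S ν x) : ∃ l0 : Fin l → ℤ, ν = (p : ℤ) • l0 := by
  have h1 : ∀ m, (p : ℤ) ∣ ν m := by
    intro m
    have h2 : (d : ℤ) * ν m = ∑ j, B m j * bf S ν (sr j) := by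
      have h3 : ∀ j, bf S ν (sr j) = ∑ i, ν i * S i j := by
        intro j
        rw [bf_apply]
        refine Finset.sum_congr rfl fun i _ => ?_
        rw [Finset.sum_eq_single j]
        · rw [sr_self, mul_one]
        · intro b _ hb
          rw [sr_ne hb, mul_zero]
        · intro hj; exact absurd (Finset.mem_univ j) hj
      simp_rw [h3]
      calc (d : ℤ) * ν m = ∑ i, ν i * (if m = i then (d : ℤ) else 0) := by
            rw [Finset.sum_eq_single m]
            · rw [if_pos rfl, mul_comm]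
            · intro b _ hb; rw [if_neg (Ne.symm hb), mul_zero]
            · intro hj; exact absurd (Finset.mem_univ m) hj
        _ = ∑ i, ν i * ∑ j, B m j * S j i := by
            refine Finset.sum_congr rfl fun i _ => ?_
            rw [hB m i]
        _ = ∑ i, ∑ j, B m j * (ν i * S i j) := by
            refine Finset.sum_congr rfl fun i _ => ?_
            rw [Finset.mul_sum]
            refine Finset.sum_congr rfl fun j _ => ?_
            rw [hA i j]; ring
        _ = _ := by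
            rw [Finset.sum_comm]
            refine Finset.sum_congr rfl fun j _ => ?_
            rw [Finset.mul_sum]
    have h4 : (p : ℤ) ∣ d * ν m := by
      rw [h2]
      exact Finset.dvd_sum fun j _ => Dvd.dvd.mul_left (h _) _
    have h5 : IsCoprime (p : ℤ) (d : ℤ) := Nat.isCoprime_iff_coprime.2 hpd.symm
    exact h5.dvd_of_dvd_mul_left h4
  choose l0 hl0 using h1
  exact ⟨l0, funext fun m => by rw [Pi.smul_apply, smul_eq_mul, hl0 m]⟩


variable {R : (Fin l → ℤ) → Prop} (F : FrmS cs hp.isCartan (bf S) R)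

include F in
theorem S_symm (i j : Fin l) : S i j = S j i := by
  rw [← bf_sr S i j, ← bf_sr S j i, F.symm]

include F hB hpd in
/-- An isometry preserving the character. -/
theorem fix_classS {ζ : k} (hζ : IsPrimitiveRoot ζ p) (hp0 : p ≠ 0) {t : ↥(D.group k)} {μ : Fin l → ℤ}
    (hμ : ∀ x, cX hp t x = ζ ^ (bf S μ x)) {θ : (Fin l → ℤ) ≃+ (Fin l → ℤ)}
    (hθ : ∀ x y, bf S (θ x) (θ y) = bf S x y) (h : ∀ x, cX hp t (θ x) = cX hp t x) :
    ∃ l0 : Fin l → ℤ, θ μ = μ - (p : ℤ) • l0 := by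
  have h1 : ∀ x, (p : ℤ) ∣ bf S (μ - θ μ) x := by
    intro x
    have h2 : ζ ^ (bf S μ x) = ζ ^ (bf S (θ μ) x) := by
      have h3 := h (θ.symm x)
      rw [θ.apply_symm_apply, hμ, hμ] at h3
      rw [h3, ← hθ μ (θ.symm x), θ.apply_symm_apply]
    have h3 := dvd_sub_of_zpow hζ hp0 h2
    rwa [map_sub, LinearMap.sub_apply]
  obtain ⟨l0, hl0⟩ := sub_of_dvdS hB hpd (S_symm hp cs F) h1
  exact ⟨l0, by rw [← hl0]; abel⟩

include hk in
/-- the reflection group of the class of `μ` is represented in `MMZ` -/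
theorem VV_leS (hpp : p.Prime) (hp2 : p ≠ 2) {ζ : k} (hζ : IsPrimitiveRoot ζ p) {t : ↥(D.group k)} (ht : t ∈ TT D k)
    {μ : Fin l → ℤ} (F : FrmS cs hp.isCartan (bf S) R)
    (hμ : ∀ x, cX hp t x = ζ ^ (bf S μ x)) :
    Cfsg.Agent.H897.T5Lat.VV cs hp.isCartan p μ ≤ VV (tow hp cs hk r (k := k)) (ch hp) {t} := by
  refine (Subgroup.closure_le _).2 ?_
  rintro _ ⟨w, i, hd, rfl⟩
  have hr : IsRoot cs hp.isCartan (rep cs hp.isCartan w (sr i)) := ⟨w, i, rfl⟩
  refine rfl_mem_VV (tow hp cs hk r) (coL hp cs hk r) (chL hp cs hk r) (by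
    rw [Set.singleton_subset_iff]; exact (mem_TL' hp hk).2 ht) ⟨hr, fun s hs => ?_⟩
  rw [Set.mem_singleton_iff] at hs
  rw [hs, ← cX_root hp cs ht hr, hμ]
  have h1 : (p : ℤ) ∣ 2 * bf S μ (rep cs hp.isCartan w (sr i)) := by
    rw [F.mult _ _ hr]
    exact Dvd.dvd.mul_left hd _
  have h2 : (p : ℤ) ∣ bf S μ (rep cs hp.isCartan w (sr i)) := by
    refine IsCoprime.dvd_of_dvd_mul_left ?_ h1
    have h3 : Nat.Coprime p 2 := (Nat.coprime_primes hpp Nat.prime_two).2 hp2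
    exact_mod_cast Nat.isCoprime_iff_coprime.2 h3
  obtain ⟨m, hm⟩ := h2
  rw [hm, zpow_mul, zpow_natCast, hζ.pow_eq_one, one_zpow]

include hpp hpr hB hpd in
/-- **Two root lengths, `p` odd and prime to the determinant.** -/
theorem con_of_frmS (hp2 : p ≠ 2) (F : FrmS cs hp.isCartan (bf S) R) : _root_.Cfsg.Agent.H897.T5Cent.Con hp cs hk r p := by
  intro t ht htp w hw
  obtain ⟨ζ, hζ⟩ := exists_prim (k := k) r hpp hpr
  obtain ⟨μ, hμ⟩ := exists_muS hp hpp hB hpd hζ ht htp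
  have h1 : ∀ x, cX hp t (repAut cs hp.isCartan w x) = cX hp t x := by
    have h2 : IsMC fun x => cX hp t (repAut cs hp.isCartan w x) :=
      (isMC_cX hp ht).comp (repAut cs hp.isCartan w).toAddMonoidHom
    refine fun x => h2.ext (isMC_cX hp ht) (fun i => ?_) x
    show cX hp t (rep cs hp.isCartan w (sr i)) = _
    rw [cX_root hp cs ht ((isRoot_sr cs hp.isCartan i).act w), cX_root hp cs ht (isRoot_sr cs hp.isCartan i)]
    exact hw _ (isRoot_sr cs hp.isCartan i) t rfl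
  obtain ⟨l0, hl0⟩ := fix_classS hp cs hB hpd F hζ hpp.ne_zero hμ (θ := repAut cs hp.isCartan w)
    (fun x y => F.inv w x y) h1
  exact VV_leS hp cs hk r hpp hp2 hζ ht F hμ (T5LatS.mem_VV_of_rep F hpp.pos hl0)

end Con

/-! ### the frame -/

/-- a computable version of the reflections -/
def rcS {l : ℕ} (S : Fin l → Fin l → ℤ) (β x : Fin l → ℤ) : Fin l → ℤ := x - (2 * bc S x β / bc S β β) • β

theorem bf_eqS {l : ℕ} (S : Fin l → Fin l → ℤ) (x y : Fin l → ℤ) : bf S x y = bc S x y := by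
  rw [bf_apply, bc]

section Chev

variable {D : ChevalleyDatum} {l : ℕ} {M : CoxeterMatrix (Fin l)} (hp : IsType D l M) {k : Type} [Field k]
  [IsAlgClosed k] {W : Type} [Group W] [Finite W] (cs : CoxeterSystem M W) (hk : LocFin k) (r : ℕ) [Fact r.Prime]
  [CharP k r] (i0 : Fin l)
  {S : Fin l → Fin l → ℤ} {R : (Fin l → ℤ) → Prop} (F : FrmS cs hp.isCartan (bf S) R)

include F in
theorem norm_root {a : Fin l → ℤ} (ha : IsRoot cs hp.isCartan a) : ∃ i, bf S a a = S i i := by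
  obtain ⟨w, i, rfl⟩ := ha
  exact ⟨i, by rw [F.inv, bf_sr]⟩

include F in
/-- orthogonal root groups commute, if the sum has not the norm of a root -/
theorem comm_XXS {x y : Fin l → ℤ} (hx : IsRoot cs hp.isCartan x)
    (hy : IsRoot cs hp.isCartan y) (hxy : bf S x y = 0) (hn : ∀ i, S i i ≠ bf S x x + bf S y y)
    {a b : ↥(D.group k)} (ha : a ∈ XX D l k x) (hb : b ∈ XX D l k y) : a * b = b * a := by
  refine commOK hp cs x y hx hy ?_ ?_ a ha b hb
  · rintro rfl
    rw [map_neg, LinearMap.neg_apply, neg_eq_zero] at hxy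
    exact absurd (F.pos y hy.ne_zero) (by rw [hxy]; exact lt_irrefl _)
  · intro h0
    obtain ⟨i, hi⟩ := norm_root hp cs F h0
    apply hn i
    rw [← hi, F.norm_add, hxy]
    ring

include cs hk r F in
theorem comm_rangeS {T : Set (Fin l → ℤ)}
    (hT : ∀ a ∈ T, IsRoot cs hp.isCartan a) (h0 : ∀ a ∈ T, bf S a (sr i0) = 0)
    (hn : ∀ a ∈ T, ∀ i, S i i ≠ bf S a a + S i0 i0) {z : ↥(D.group k)}
    (hz : z ∈ RGD.Sup (XX D l k) T) : ∀ y ∈ (phi hp k i0).range, z * y = y * z := by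
  have C := coordsL hp cs hk r
  have hr := isRoot_sr cs hp.isCartan i0
  have key : ∀ b, (b = sr i0 ∨ b = -sr i0) → ∀ y ∈ XX D l k b, z * y = y * z := by
    intro b hb y hy
    have h1 : RGD.Sup (XX D l k) T ≤ Subgroup.centralizer {y} := by
      refine RGD.Sup_le fun a ha => ?_
      intro u hu
      rw [Subgroup.mem_centralizer_singleton_iff]
      rcases hb with rfl | rfl
      · exact comm_XXS hp cs F (hT a ha) hr (h0 a ha) (fun i => by rw [bf_sr]; exact hn a ha i) hu hy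
      · exact comm_XXS hp cs F (hT a ha) hr.neg (by rw [map_neg, h0 a ha, neg_zero]) (fun i => by
          rw [map_neg, map_neg, LinearMap.neg_apply, neg_neg, bf_sr]; exact hn a ha i) hu hy
    exact Subgroup.mem_centralizer_singleton_iff.1 (h1 hz)
  refine Cfsg.Agent.OddHalf.LongSL.commute_range _ (fun s => ?_) (fun s => ?_)
  · rw [phi_up']
    exact key _ (Or.inl rfl) _ (((C.coord _ hr).mem _).2 ⟨s, rfl⟩)
  · rw [phi_lo']
    exact key _ (Or.inr rfl) _ (((C.coord _ hr.neg).mem _).2 ⟨s, rfl⟩)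

include hk r F in
/-- a reflection in a root of `T` -/
theorem exists_rflS (hN : NSys M (TT D k) (nc hp k))
    {T : Set (Fin l → ℤ)} {a : Fin l → ℤ} (hr : IsRoot cs hp.isCartan a) (ha : a ∈ T) (hna : -a ∈ T) :
    ∃ w, ∃ m ∈ RGD.Sup (XX D l k) T, Rp cs hN w m ∧
      ∀ x, rep cs hp.isCartan w x = rcS S a x := by
  obtain ⟨w, i, h1, m, hm, hm'⟩ := Cfsg.Agent.H897.Cen.exists_rfl_Sup (tow hp cs hk r (k := k)) (coL hp cs hk r)
    hr ha hna
  rw [XL_eq hp hk] at hm
  refine ⟨_, m, hm, rp_cast hp cs _ (TL_eq hp hk) hN hm', fun x => ?_⟩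
  rw [rep_rfl'_eq, ← h1, rcS, ← bf_eqS, ← bf_eqS, F.mult x a hr,
    Int.mul_ediv_cancel_left _ (F.pos a hr.ne_zero).ne']

include hk r F in
/-- a product of reflections in the roots of the list `L` -/
theorem exists_prodS (hN : NSys M (TT D k) (nc hp k)) {T : Set (Fin l → ℤ)} :
    ∀ L : List (Fin l → ℤ), (∀ a ∈ L, IsRoot cs hp.isCartan a ∧ a ∈ T ∧ -a ∈ T) →
      ∃ w, ∃ m ∈ RGD.Sup (XX D l k) T, Rp cs hN w m ∧ ∀ x, rep cs hp.isCartan w x = L.foldr (rcS S) x
  | [], _ => ⟨1, 1, one_mem _, rp_one, fun x => by rw [map_one, Module.End.one_apply]; rfl⟩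
  | a :: L, hL => by
    obtain ⟨w, m, hm, hm', h1⟩ := exists_prodS hN L fun b hb => hL b (List.mem_cons_of_mem _ hb)
    obtain ⟨h2, h3, h4⟩ := hL a List.mem_cons_self
    obtain ⟨w', m', hm1, hm2, h5⟩ := exists_rflS hp cs hk r F hN h2 h3 h4
    refine ⟨w' * w, m' * m, mul_mem hm1 hm, hm2.mul hm', fun x => ?_⟩
    rw [rep_mul_apply, h1, h5, List.foldr_cons]

variable {e : ℕ} (he : 0 < e) {σ : MulAut ↥(D.group k)} {g : (Fin l → ℤ) ≃+ (Fin l → ℤ)} (hσ : IsFrob r e σ)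
  (Fσ : Fr cs hp.isCartan (TT D k) (XX D l k) σ g)

include hk he hσ Fσ F in
/-- **The frame.** -/
theorem exists_frameS (hN : NSys M (TT D k) (nc hp k)) (L : List (Fin l → ℤ))
    (hL : ∀ a ∈ L, ∃ q < D.nroots, vec D l q = a) (h0 : ∀ a ∈ L, bc S a (sr i0) = 0)
    (hn : ∀ a ∈ L, ∀ i, S i i ≠ bc S a a + S i0 i0) (hgL : ∀ a ∈ L, g a = a)
    (hgi : g (sr i0) = sr i0) {π : Fin l → Fin l} (hg : ∀ j, g (sr j) = sr (π j))
    (hcheck : ∀ j, rcS S (sr i0) (L.foldr (rcS S) (sr (π j))) = -sr j) :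
    ∃ za zb w1, za ∈ (phi hp k i0).range ∧ (∀ y ∈ (phi hp k i0).range, zb * y = y * zb) ∧
      Rp cs hN w1 ((za * zb)⁻¹ * σ (za * zb)) ∧ ∀ x, rep cs hp.isCartan w1 (g x) = (-1 : ℤ) • x := by
  have hr := isRoot_sr cs hp.isCartan i0
  obtain ⟨wa, na, hna, hna', ha1⟩ := exists_rflS hp cs hk r F hN (T := {a | a = sr i0 ∨ a = -sr i0}) hr
    (Or.inl rfl) (Or.inr rfl)
  obtain ⟨za, hza, hza'⟩ := lang_fr hp cs he hσ Fσ (S := {a | a = sr i0 ∨ a = -sr i0}) (by
    rintro a (rfl | rfl)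
    · exact hr
    · exact hr.neg) (by
    rintro a (rfl | rfl)
    · exact Or.inl hgi
    · exact Or.inr (by rw [map_neg, hgi])) hna
  have hLr : ∀ a ∈ L, IsRoot cs hp.isCartan a := fun a ha => (isRoot_iff hp cs a).2 (hL a ha)
  have hpm : ∀ a ∈ pm L, IsRoot cs hp.isCartan a := by
    rintro a (ha | ha)
    · exact hLr a ha
    · have := (hLr _ ha).neg
      rwa [neg_neg] at this
  obtain ⟨wb, nb, hnb, hnb', hb1⟩ := exists_prodS hp cs hk r F hN (T := pm L) L fun a ha =>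
    ⟨hLr a ha, Or.inl ha, Or.inr (by rw [neg_neg]; exact ha)⟩
  obtain ⟨zb, hzb, hzb'⟩ := lang_fr hp cs he hσ Fσ (S := pm L) hpm (by
    rintro a (ha | ha)
    · left; rw [hgL a ha]; exact ha
    · right
      rw [← map_neg, hgL _ ha]
      exact ha) hnb
  have hcomm := comm_rangeS hp cs hk r i0 F (T := pm L) hpm (by
    rintro a (ha | ha)
    · rw [bf_eqS, h0 a ha]
    · have := h0 _ ha
      rw [← bf_eqS, map_neg, LinearMap.neg_apply, neg_eq_zero] at this
      exact this) (by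
    rintro a (ha | ha) i
    · rw [bf_eqS]; exact hn a ha i
    · have := hn _ ha i
      rw [← bf_eqS, map_neg, map_neg, LinearMap.neg_apply, neg_neg] at this
      exact this) hzb
  refine ⟨za, zb, wa * wb, Sup_le_range hp cs hk r i0 hza, hcomm, ?_, ?_⟩
  · have h1 : (za * zb)⁻¹ * σ (za * zb) = na * nb := by
      have h2 : na ∈ (phi hp k i0).range := Sup_le_range hp cs hk r i0 hna
      rw [map_mul, hzb']
      calc (za * zb)⁻¹ * (σ za * σ zb) = zb⁻¹ * (za⁻¹ * σ za) * σ zb := by group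
        _ = zb⁻¹ * (na * zb) * (zb⁻¹ * σ zb) := by rw [← hza']; group
        _ = zb⁻¹ * (zb * na) * (zb⁻¹ * σ zb) := by rw [hcomm _ h2]
        _ = na * (zb⁻¹ * σ zb) := by group
    rw [h1]
    exact hna'.mul hnb'
  · have key : ((repAut cs hp.isCartan (wa * wb)).toAddMonoidHom).comp g.toAddMonoidHom =
        (-1 : ℤ) • (AddEquiv.refl (Fin l → ℤ)).toAddMonoidHom := by
      refine AddMonoidHom.functions_ext' _ _ _ fun j => ?_
      ext i
      have h1 : rep cs hp.isCartan (wa * wb) (g (sr j)) = (-1 : ℤ) • (sr j : Fin l → ℤ) := by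
        rw [hg, rep_mul_apply, hb1, ha1, neg_one_zsmul, ← hcheck j]
      exact congrFun h1 i
    exact fun x => DFunLike.congr_fun key x

end Chev

/-! ### the fixed points -/

section Chev

variable {D : ChevalleyDatum} {l : ℕ} {M : CoxeterMatrix (Fin l)} (hp : IsType D l M) {k : Type} [Field k]
  [IsAlgClosed k] {W : Type} [Group W] [Finite W] (cs : CoxeterSystem M W) (hk : LocFin k) (r : ℕ) [Fact r.Prime]
  [CharP k r] (i0 : Fin l)

variable {p : ℕ} (hC : _root_.Cfsg.Agent.H897.T5Cent.Con hp cs hk r p) (hpp : p.Prime) (hpr : p ≠ r)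
  {e : ℕ} (he : 0 < e) {σ : MulAut ↥(D.group k)} {g : (Fin l → ℤ) ≃+ (Fin l → ℤ)} (hσ : IsFrob r e σ)
  (F : Fr cs hp.isCartan (TT D k) (XX D l k) σ g) {d : ℕ} {B : Fin l → Fin l → ℤ} (hB : InvC D l d B) (hd : d ≠ 0)
  (hZ : Subgroup.center ↥(D.group k) = ⊥) (hA : Cfsg.Agent.BpExc.TorAll.HAlg r k)

include hC hpp hpr he hσ F hB hd hZ hA in
/-- **Elements of order `p ∣ q - ε`.** -/
theorem inner_rootS (hN : NSys M (TT D k) (nc hp k)) {za zb : ↥(D.group k)} (hza : za ∈ (phi hp k i0).range)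
    (hzb : ∀ y ∈ (phi hp k i0).range, zb * y = y * zb) {w1 : W}
    (hn1 : Rp cs hN w1 ((za * zb)⁻¹ * σ (za * zb))) {ε : ℤ}
    (hθ : ∀ x, rep cs hp.isCartan w1 (g x) = ε • x) (hpe : (p : ℤ) ∣ (r : ℤ) ^ e - ε)
    (htr : ∀ t ∈ TT D k, t ^ p = 1 → t ≠ 1 → ∃ a, ∃ w : W, rep cs hp.isCartan w a = sr i0 ∧ cX hp t a ≠ 1)
    {x : ↥(D.group k)} (hσx : σ x = x) (hxp : x ^ p = 1) (hx1 : x ≠ 1) :
    ∃ y, σ y = y ∧ (∀ u ∈ (phi hp k i0).range, (y * x * y⁻¹) * u * (y * x * y⁻¹)⁻¹ ∈ (phi hp k i0).range) ∧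
      (y * x * y⁻¹) * phi hp k i0 (up 1) ≠ phi hp k i0 (up 1) * (y * x * y⁻¹) := by
  obtain ⟨z, hz⟩ := TorAll.exists_toral hp r hA hpp hpr hxp
  obtain ⟨t, htz⟩ : ∃ t, t = z⁻¹ * x * z := ⟨_, rfl⟩
  rw [← htz] at hz
  have htp : t ^ p = 1 := by
    have h1 : t = z⁻¹ * x * z⁻¹⁻¹ := by rw [htz, inv_inv]
    rw [h1, conj_pow, hxp, mul_one, mul_inv_cancel]
  have ht1 : t ≠ 1 := by
    intro h0
    apply hx1
    have h1 : x = z * t * z⁻¹ := by rw [htz]; group
    rw [h1, h0]; group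
  obtain ⟨z1, hz1⟩ : ∃ z1, z1 = za * zb := ⟨_, rfl⟩
  rw [← hz1] at hn1
  obtain ⟨n1, hn⟩ : ∃ n1, n1 = z1⁻¹ * σ z1 := ⟨_, rfl⟩
  rw [← hn] at hn1
  -- `t` is fixed
  have hnt : n1 * σ t * n1⁻¹ = t := by
    rw [tau_iff hp cs hk hσ F hn1 hz]
    intro a
    rw [theta_apply, hθ, (isMC_cX hp hz).zsmul]
    have h1 : cX hp t a ^ p = 1 := by rw [← cX_pow hp hz, htp, cX_one]
    have h0 := (isMC_cX hp hz).ne_zero a
    obtain ⟨c, hc⟩ := hpe
    have h2 : ((r ^ e : ℕ) : ℤ) = ε + p * c := by push_cast; linarith only [hc]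
    rw [← zpow_natCast, h2, zpow_add₀ h0, zpow_mul, zpow_natCast (cX hp t a) p, h1, one_zpow, mul_one]
  obtain ⟨z', hz'1, hz'2⟩ := star hp cs hk r hC he hσ F hB hd hn1 hσx htz.symm hz htp hnt
  have hy0 : σ (z1 * z'⁻¹) = z1 * z'⁻¹ := conj_fix hz'1 hn.symm
  -- the root
  obtain ⟨a, w, hw, hta⟩ := htr t hz htp ht1
  have F1 : Fr cs hp.isCartan (TT D k) (XX D l k) (MulAut.conj n1 * σ) (g.trans (repAut cs hp.isCartan w1)) :=
    (fr_conj hp cs hk r hn1).mul F
  obtain ⟨m, hm0, hm⟩ := Cfsg.Agent.H696.GmnToral.exists_fixed_rp hp cs hk (r := r) hZ he (hσ.conj_mul n1) F1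
    (w := w) (fun b _ => by
      show rep cs hp.isCartan w (rep cs hp.isCartan w1 (g b)) = rep cs hp.isCartan w1 (g (rep cs hp.isCartan w b))
      rw [hθ, hθ, map_smul])
  have hmN : Rp cs hN w m := rp_cast hp cs _ (TL_eq hp hk) hN hm0
  have hm' : n1 * σ m * n1⁻¹ = m := hm
  have ht' : m * t * m⁻¹ ∈ TT D k := (Subgroup.mem_normalizer_iff.1 hmN.mem_normalizer t).1 hz
  have hta' : ch hp (sr i0) (m * t * m⁻¹) ≠ 1 := by
    rw [← cX_root hp cs ht' (isRoot_sr cs hp.isCartan i0), ← hw, cX_rp hp cs hk r hmN hz]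
    exact hta
  have hσz1 : σ z1 = z1 * n1 := by rw [hn]; group
  have hy1 : σ (z1 * m * z1⁻¹) = z1 * m * z1⁻¹ := by
    rw [map_mul, map_mul, map_inv, hσz1]
    calc z1 * n1 * σ m * (z1 * n1)⁻¹ = z1 * (n1 * σ m * n1⁻¹) * z1⁻¹ := by group
      _ = z1 * m * z1⁻¹ := by rw [hm']
  have hx : (z1 * m * z1⁻¹ * (z1 * z'⁻¹)) * x * (z1 * m * z1⁻¹ * (z1 * z'⁻¹))⁻¹ = z1 * (m * t * m⁻¹) * z1⁻¹ := by
    rw [← hz'2]; group
  obtain ⟨t', ht'e⟩ : ∃ t', t' = m * t * m⁻¹ := ⟨_, rfl⟩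
  rw [← ht'e] at ht' hta' hx
  refine ⟨z1 * m * z1⁻¹ * (z1 * z'⁻¹), by rw [map_mul, hy0, hy1], ?_, ?_⟩
  · intro u hu
    rw [hx]
    have h1 : za⁻¹ * u * za ∈ (phi hp k i0).range := mul_mem (mul_mem (inv_mem hza) hu) hza
    have h2 := conj_mem hp cs hk r i0 ht' h1
    have h3 := mul_mem (mul_mem hza h2) (inv_mem hza)
    have e1 : zb⁻¹ * (za⁻¹ * u * za) * zb = za⁻¹ * u * za := by
      rw [mul_assoc, ← hzb _ h1]; group
    have e2 : zb * (t' * (za⁻¹ * u * za) * t'⁻¹) * zb⁻¹ = t' * (za⁻¹ * u * za) * t'⁻¹ := by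
      rw [hzb _ h2]; group
    have e3 : z1 * t' * z1⁻¹ * u * (z1 * t' * z1⁻¹)⁻¹ = za * (t' * (za⁻¹ * u * za) * t'⁻¹) * za⁻¹ := by
      calc z1 * t' * z1⁻¹ * u * (z1 * t' * z1⁻¹)⁻¹
          = za * (zb * (t' * (zb⁻¹ * (za⁻¹ * u * za) * zb) * t'⁻¹) * zb⁻¹) * za⁻¹ := by rw [hz1]; group
        _ = _ := by rw [e1, e2]
    rw [e3]
    exact h3
  · rw [hx]
    intro h
    have hu : phi hp k i0 (up 1) ∈ (phi hp k i0).range := ⟨_, rfl⟩
    have h1 : za⁻¹ * phi hp k i0 (up 1) * za ∈ (phi hp k i0).range := mul_mem (mul_mem (inv_mem hza) hu) hza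
    apply ne_comm hp cs hk r i0 ht' hta' hza
    have e1 : zb⁻¹ * (za⁻¹ * phi hp k i0 (up 1) * za) * zb = za⁻¹ * phi hp k i0 (up 1) * za := by
      rw [mul_assoc, ← hzb _ h1]; group
    have e2 : z1⁻¹ * phi hp k i0 (up 1) * z1 = za⁻¹ * phi hp k i0 (up 1) * za := by
      rw [← e1, hz1]; group
    rw [← e2]
    calc t' * (z1⁻¹ * phi hp k i0 (up 1) * z1) = z1⁻¹ * (z1 * t' * z1⁻¹ * phi hp k i0 (up 1)) * z1 := by group
      _ = z1⁻¹ * (phi hp k i0 (up 1) * (z1 * t' * z1⁻¹)) * z1 := by rw [h]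
      _ = z1⁻¹ * phi hp k i0 (up 1) * z1 * t' := by group


/-- the roots conjugate to `α_{i0}` detect the elements of order `p` -/
theorem exists_move {S : Fin l → Fin l → ℤ} (H : ∀ j, ∃ (m : ℕ) (L : List (Fin l → ℤ)), m.Coprime p ∧
      (∀ a ∈ L, ∃ w : W, rep cs hp.isCartan w a = sr i0) ∧ L.sum = (m : ℤ) • sr j)
    {t : ↥(D.group k)} (ht : t ∈ TT D k) (htp : t ^ p = 1) (ht1 : t ≠ 1) :
    ∃ a, ∃ w : W, rep cs hp.isCartan w a = sr i0 ∧ cX hp t a ≠ 1 := by
  by_contra hcon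
  push Not at hcon
  apply ht1
  refine cX_inj hp ht (one_mem _) fun j => ?_
  obtain ⟨m, L, hm, hL, hs⟩ := H j
  have h1 : ∀ L : List (Fin l → ℤ), (∀ a ∈ L, ∃ w : W, rep cs hp.isCartan w a = sr i0) → cX hp t L.sum = 1 := by
    intro L
    induction L with
    | nil =>
      intro _
      rw [List.sum_nil]
      exact (isMC_cX hp ht).zero
    | cons a L ih =>
      intro hL
      obtain ⟨w, hw⟩ := hL a List.mem_cons_self
      rw [List.sum_cons, (isMC_cX hp ht).add, hcon a w hw, ih fun b hb => hL b (List.mem_cons_of_mem _ hb), mul_one]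
  have h2 := h1 L hL
  rw [hs, (isMC_cX hp ht).zsmul, zpow_natCast] at h2
  have h3 : cX hp t (sr j) ^ p = 1 := by rw [← cX_pow hp ht, htp, cX_one]
  have h4 := orderOf_dvd_of_pow_eq_one h2
  have h5 := orderOf_dvd_of_pow_eq_one h3
  have h6 : orderOf (cX hp t (sr j)) ∣ 1 := by
    have := Nat.dvd_gcd h4 h5
    rwa [hm] at this
  rw [orderOf_eq_one_iff.1 (Nat.dvd_one.1 h6), cX_one]

end Chev

end Cfsg.Agent.H897.T5RootS
end

-- part: H897/WfRed
section
/-!
# `E₇`, `E₈`, elements of order `3`: reduction to the root `SL₂(q)`, `q ≥ 4` (S3826)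
-/

set_option autoImplicit false
set_option linter.unusedSectionVars false

namespace Cfsg.Agent.H897.WfRed

open CoxeterSystem Cfsg Cfsg.Lie Cfsg.Lie.ChevalleyDatum
open Cfsg.Agent.ChevalleyStructure Cfsg.Agent.ChevalleyStructure.Elts Cfsg.Agent.ChevalleyStructure.CoxeterGeom
  Cfsg.Agent.ChevalleyStructure.CoxeterGeomTypes Cfsg.Agent.ChevalleyStructure.NPerm
open Cfsg.Agent.Tits.Roots Cfsg.Agent.Tits.Core Cfsg.Agent.Nodes Cfsg.Agent.Nodes.Reps Cfsg.Agent.Nodes.BNOf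
  Cfsg.Agent.Nodes.RGDChev Cfsg.Agent.Nodes.Bruhat Cfsg.Agent.Nodes.SubComb Cfsg.Agent.Nodes.Coroot
open Cfsg.Agent.KFacts.RgdField Cfsg.Agent.KFacts.RgdChevCoord Cfsg.Agent.BpExc.TorCent Cfsg.Agent.BpExc.TorChev
open Cfsg.Agent.GpExc.Field Cfsg.Agent.BpExc.Tow Cfsg.Agent.BpExc.TowChev Cfsg.Agent.BpExc.Fr
  Cfsg.Agent.BpExc.LangFr Cfsg.Agent.LangThm Cfsg.Agent.BpExc Cfsg.Agent.H129.TorusChar Cfsg.Agent.H129.TorusMain
open Cfsg.Agent.BpExc.FamUntw Cfsg.Agent.BpExc.FamInst Cfsg.Agent.BpExc.FamField Cfsg.Agent.BpExc.FamExt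
  Cfsg.Agent.CpAut.RgdUntw
open Cfsg.Agent.H897.T5Cent Cfsg.Agent.H897.T5Root Cfsg.Agent.H897.T5Box Cfsg.Agent.H897.T5Sub
  Cfsg.Agent.H897.T5Fam Cfsg.Agent.H897.T5Frame Cfsg.Agent.H897.T5Conn Cfsg.Agent.H897.T5Untw
open Cfsg.Agent.ChevalleyStructure.SL2Hom (up lo mem_closure_SL2)
open Cfsg.Agent.OddHalf.LongSL.Chev (phi_up phi_lo)
open Cfsg.Agent.H378.TorFin (frobHom frobHom_apply exists_closure phi_emb')
open Cfsg.Agent.H533.T5 Cfsg.Agent.H957.T5M
open Matrix (SpecialLinearGroup)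

section Main

variable {D : ChevalleyDatum} {l : ℕ} {M : CoxeterMatrix (Fin l)} (hp : IsType D l M)

/-- **The reduction**, given the torality statement. -/
theorem red_gen2 {F : Type} [Field F] [Fintype F] {d : ℕ} {B : Fin l → Fin l → ℤ} (hB : FamExt.InvC D l d B)
    (hd : d ≠ 0) (hM : SymTwo M)
    (hk1 : ∀ (k : Type) [Field k] [IsAlgClosed k], IsSimpleGroup ↥(D.group k) ∧ ¬ IsMulCommutative ↥(D.group k))
    (hF1 : IsSimpleGroup ↥(D.group F) ∧ ¬ IsMulCommutative ↥(D.group F))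
    {p : ℕ} (hpp : p.Prime) (hp2 : p ≠ 2) (hpF : ¬ p ∣ Fintype.card F) (h2d : 4 ≤ Fintype.card F) {i0 : Fin l}
    (hinner : ∀ (k : Type) [Field k] [IsAlgClosed k] (_ : LocFin k) (r : ℕ) [Fact r.Prime] [CharP k r] (n : ℕ),
      BpExc.TorAll.HAlg r k → 0 < n → Fintype.card F = r ^ n → p ≠ r → Subgroup.center ↥(D.group k) = ⊥ →
      _root_.Cfsg.Agent.H897.T5Untw.Inner hp k i0 p (phi D k r n)) :
    Red p (ph hp F i0).range := by
  have hi1 := hF1.1
  obtain ⟨k, _, _, f, r, _, _, n, hk, hka, hn0, hn⟩ := _root_.Cfsg.Agent.H378.TorFin.exists_closure F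
  have hrF : CharP F r := f.charP f.injective r
  have hperf : PerfectRing k r := inferInstance
  have hW : Finite M.Group := finite_W hp M.toCoxeterSystem
  have hcent : ∀ {G : Type} [Group G], IsSimpleGroup G → ¬ IsMulCommutative G → Subgroup.center G = ⊥ := by
    intro G _ h1 h2
    refine KFacts.RgdLieCharP.center_eq_bot ?_
    by_contra hcon
    push Not at hcon
    exact h2 ⟨⟨hcon⟩⟩
  have hZ := hcent (hk1 k).1 (hk1 k).2
  have hZF := hcent hF1.1 hF1.2
  have R := rgd (K := F) hp M.toCoxeterSystem r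
  have hG1 : RGD.Sup (XX D l F) {x | IsRoot M.toCoxeterSystem hp.isCartan x} = ⊤ := G1_eq_top hp M.toCoxeterSystem
  have hconn := KFacts.RgdLieCharP.conn_of_simple R hG1 hZF
  have hl : Nonempty (Fin l) := ⟨i0⟩
  have hn' : Fintype.card F = r ^ n := by rw [← Nat.card_eq_fintype_card, hn]
  have hpr : p ≠ r := by
    rintro rfl
    exact hpF (by rw [hn']; exact dvd_pow_self _ hn0.ne')
  have hroots : ∀ c : F, c ≠ 0 → ∃ b : k, b ^ d = f c := fun c _ =>
    IsAlgClosed.exists_pow_nat_eq (f c) (Nat.pos_of_ne_zero hd)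
  have hact : ∀ m, Act hp r i0 (phi D k r m) m := by
    intro m
    have h1 : ∀ (a : Fin l → ℤ), IsRoot M.toCoxeterSystem hp.isCartan a → ∀ t : k,
        phi D k r m (xc hp a t) = xc hp a (t ^ r ^ m) := by
      intro a ha t
      obtain ⟨s, hs, rfl⟩ := (isRoot_iff hp M.toCoxeterSystem a).1 ha
      rw [phi, fld_eq_emb hp, _root_.Cfsg.Agent.BpExc.FamExt.emb_xc hp _ hs]
      congr 1
      exact frb_apply k r m t
    have hr := isRoot_sr M.toCoxeterSystem hp.isCartan i0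
    exact ⟨fun a => by rw [phi_up', phi_up', h1 _ hr], fun a => by rw [phi_lo', phi_lo', h1 _ hr.neg]⟩
  have hκ : ∀ C : _root_.Matrix.SpecialLinearGroup (Fin 2) F, emb hp.inList f (ph hp F i0 C) =
      ph hp k i0 (SpecialLinearGroup.map f C) := by
    intro C
    have h1 : (emb hp.inList f).comp (ph hp F i0) = (ph hp k i0).comp (SpecialLinearGroup.map f) := by
      have hs := simple_lt hp.inList (lt_rank hp i0)
      have e0 : ∀ (K : Type) [Field K] (t : K), ph hp K i0 (up t) = xc hp (vec D l (D.simple i0)) t := by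
        intro K _ t
        apply Subtype.ext
        rw [ph, phi_up]
        exact (coe_xc (K := K) hp hs t).symm
      have e1 : ∀ (K : Type) [Field K] (t : K), ph hp K i0 (lo t) = xc hp (vec D l (D.neg (D.simple i0))) t := by
        intro K _ t
        apply Subtype.ext
        rw [ph, phi_lo]
        exact (coe_xc (K := K) hp (neg_lt hp.inList hs) t).symm
      refine hom_ext' (fun a => ?_) (fun a => ?_)
      · show emb hp.inList f (ph hp F i0 (up a)) = ph hp k i0 (SpecialLinearGroup.map f (up a))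
        rw [map_up, e0, e0, _root_.Cfsg.Agent.BpExc.FamExt.emb_xc hp f hs]
      · show emb hp.inList f (ph hp F i0 (lo a)) = ph hp k i0 (SpecialLinearGroup.map f (lo a))
        rw [map_lo, e1, e1, _root_.Cfsg.Agent.BpExc.FamExt.emb_xc hp f (neg_lt hp.inList hs)]
    exact DFunLike.congr_fun h1 C
  refine red_root M.toCoxeterSystem hk (σ := phi D k r n) (ι := emb hp.inList f) (j := f) (e := n)
    (emb_injective hp.inList f) (fun s => phi_emb hp r f hn s) h2d (by rw [hn]) ?_ hκ (hact n) ?_ hZ hpp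
    (hinner k hk r n hka hn0 hn' hpr hZ) ?_
  · -- roots of `x ^ q = x`
    intro x hx
    exact (Cfsg.Agent.H129.TorusUntw.frob_fix_iff f hn' x).1 (by rw [iterateFrobenius_def]; exact hx)
  · -- split
    intro y hy
    obtain ⟨a, ⟨g, rfl⟩, t, ht, -, h1⟩ := Cfsg.Agent.H378.TorFin.exists_split hp f r hn (y := y⁻¹) (by
      rw [map_inv, hy])
    refine ⟨g⁻¹, t⁻¹, inv_mem ht, ?_⟩
    rw [map_inv, ← mul_inv_rev, ← h1, inv_inv]
  · -- automorphisms
    intro c hc
    have hcp : c ^ p = 1 := by rw [← hc, pow_orderOf_eq_one]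
    rcases BpExc.FamUntw.cases hp hk r f hB hd hroots hl hconn hZ hpp
      (hM.eq_one hpp hp2) hn hcp with h | ⟨i, m, hi, hm0, hmn, y, hy, h⟩
    · exact Or.inl h
    · exact Or.inr ⟨i, m, phi D k r m, y, hi, hm0, hmn, phi_isFrob r m,
        ⟨_, phi_fr hp M.toCoxeterSystem r hk m⟩, by rw [phi_pow, hmn], hact m, hy, h⟩

end Main

/-! ### the instances -/

section Inst

universe u

open Cfsg.Agent.H897.T5UntwRow Cfsg.Agent.H897.WfBase Cfsg.Agent.H533.Wf

variable {F : Type} [Field F] [Fintype F]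

theorem split3 (h3 : ¬ 3 ∣ Fintype.card F) : 3 ∣ Fintype.card F - 1 ∨ 3 ∣ Fintype.card F + 1 := by
  have : 1 < Fintype.card F := Fintype.one_lt_card
  omega

theorem pos_pow_sub {q m : ℕ} (hq : 1 < q) (hm : m ≠ 0) : 0 < q ^ m - 1 :=
  Nat.sub_pos_of_lt (Nat.one_lt_pow hm hq)

end Inst

end Cfsg.Agent.H897.WfRed
end

-- part: H897/WfGF
section
/-!
# `G₂(q)`, `F₄(q)`, elements of order `3`, `q ≥ 4` prime to `3` (S3826)

`wf_g2`, `wf_f4`.
-/

set_option autoImplicit false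
set_option linter.unusedSectionVars false

namespace Cfsg.Agent.H897.WfGF

open CoxeterSystem Cfsg Cfsg.Lie Cfsg.Lie.ChevalleyDatum
open Cfsg.Agent.ChevalleyStructure Cfsg.Agent.ChevalleyStructure.Elts Cfsg.Agent.ChevalleyStructure.CoxeterGeom
  Cfsg.Agent.ChevalleyStructure.CoxeterGeomTypes Cfsg.Agent.ChevalleyStructure.NPerm
open Cfsg.Agent.Tits.Roots Cfsg.Agent.Tits.Core Cfsg.Agent.Nodes Cfsg.Agent.Nodes.Reps Cfsg.Agent.Nodes.BNOf
  Cfsg.Agent.Nodes.RGDChev Cfsg.Agent.Nodes.Bruhat Cfsg.Agent.Nodes.SubComb Cfsg.Agent.Nodes.Coroot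
open Cfsg.Agent.KFacts.RgdField Cfsg.Agent.KFacts.RgdChevCoord Cfsg.Agent.BpExc.TorCent Cfsg.Agent.BpExc.TorChev
open Cfsg.Agent.GpExc.Field Cfsg.Agent.BpExc.Tow Cfsg.Agent.BpExc.TowChev Cfsg.Agent.BpExc.Fr
  Cfsg.Agent.BpExc.LangFr Cfsg.Agent.LangThm Cfsg.Agent.BpExc Cfsg.Agent.H129.TorusChar Cfsg.Agent.H129.TorusMain
open Cfsg.Agent.BpExc.FamUntw Cfsg.Agent.BpExc.FamInst Cfsg.Agent.BpExc.FamField Cfsg.Agent.BpExc.FamExt
  Cfsg.Agent.CpAut.RgdUntw
open Cfsg.Agent.H897.T5Cent Cfsg.Agent.H897.T5Root Cfsg.Agent.H897.T5Box Cfsg.Agent.H897.T5Sub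
  Cfsg.Agent.H897.T5Fam Cfsg.Agent.H897.T5Frame Cfsg.Agent.H897.T5Conn Cfsg.Agent.H897.T5Untw
  Cfsg.Agent.H897.T5RootS Cfsg.Agent.H897.WfRed
open Cfsg.Agent.H897.T5Lat (bf bf_apply)
open Cfsg.Agent.H897.T5LatS (FrmS)
open Cfsg.Agent.H897.T5FormS (SymC bf_sr)
open Cfsg.Agent.ChevalleyStructure.SL2Hom (up lo mem_closure_SL2)
open Cfsg.Agent.H378.TorFin (frobHom frobHom_apply exists_closure phi_emb')
open Cfsg.Agent.H533.T5 Cfsg.Agent.H957.T5M
open Matrix (SpecialLinearGroup)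

/-- the decidable data of a frame -/
structure FrOKS (D : ChevalleyDatum) (l : ℕ) (i0 : Fin l) (S : Fin l → Fin l → ℤ) (L : List (Fin l → ℤ)) : Prop where
  hL : ∀ a ∈ L, ∃ q < D.nroots, vec D l q = a
  orth : ∀ a ∈ L, bc S a (sr i0) = 0
  norm : ∀ a ∈ L, ∀ i, S i i ≠ bc S a a + S i0 i0
  check : ∀ j, rcS S (sr i0) (L.foldr (rcS S) (sr j)) = -sr j

section Main

variable {D : ChevalleyDatum} {l : ℕ} {M : CoxeterMatrix (Fin l)} (hp : IsType D l M)

/-- **The reduction.** -/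
theorem red_untwS {F : Type} [Field F] [Fintype F] {d : ℕ} {B : Fin l → Fin l → ℤ} (hB : FamExt.InvC D l d B) (hd : d ≠ 0)
    (hM : SymTwo M)
    (hk1 : ∀ (k : Type) [Field k] [IsAlgClosed k], IsSimpleGroup ↥(D.group k) ∧ ¬ IsMulCommutative ↥(D.group k))
    (hF1 : IsSimpleGroup ↥(D.group F) ∧ ¬ IsMulCommutative ↥(D.group F))
    {p : ℕ} (hpp : p.Prime) (hp2 : p ≠ 2) (h4q : 4 ≤ Fintype.card F) {i0 : Fin l}
    {S : Fin l → Fin l → ℤ} {R : (Fin l → ℤ) → Prop}
    (hCon : ∀ (k : Type) [Field k] [IsAlgClosed k] [Finite M.Group] (hk : LocFin k) (r : ℕ) [Fact r.Prime] [CharP k r], p ≠ r →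
      _root_.Cfsg.Agent.H897.T5Cent.Con hp M.toCoxeterSystem hk r p)
    (hF : ∀ [Finite M.Group], FrmS M.toCoxeterSystem hp.isCartan (bf S) R)
    (hmv : ∀ [Finite M.Group], ∀ j, ∃ (m : ℕ) (L : List (Fin l → ℤ)), m.Coprime p ∧
      (∀ a ∈ L, ∃ w : M.Group, rep M.toCoxeterSystem hp.isCartan w a = sr i0) ∧ L.sum = (m : ℤ) • sr j)
    {L : List (Fin l → ℤ)} (hOK : FrOKS D l i0 S L)
    (hq : p ∣ Fintype.card F - 1 ∨ p ∣ Fintype.card F + 1) :
    Red p (ph hp F i0).range := by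
  have hB' : H129.TorusChar.InvC D l d B := hB
  have hq1 : 1 < Fintype.card F := Fintype.one_lt_card
  refine red_gen2 hp hB hd hM hk1 hF1 hpp hp2 (not_dvd_card hpp hq1 hq) h4q ?_
  intro k _ _ hk r _ _ n hka hn0 hn' hpr hZ x hσx hxp hx1
  have hW : Finite M.Group := finite_W hp M.toCoxeterSystem
  have hC : _root_.Cfsg.Agent.H897.T5Cent.Con hp M.toCoxeterSystem hk r p := hCon k hk r hpr
  have hN : NSys M (TT D k) (nc hp k) := by
    have := (tow hp M.toCoxeterSystem hk r (k := k)).nsys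
    rwa [TL_eq hp hk] at this
  have hσf := phi_isFrob (D := D) (k := k) r n
  have hσF := phi_fr hp M.toCoxeterSystem r hk n
  have htr : ∀ t ∈ TT D k, t ^ p = 1 → t ≠ 1 → ∃ a, ∃ w : M.Group, rep M.toCoxeterSystem hp.isCartan w a = sr i0 ∧
      cX hp t a ≠ 1 := fun t ht htp ht1 => exists_move hp M.toCoxeterSystem i0 (S := S) hmv ht htp ht1
  rcases hq with hq | hq
  · refine inner_rootS hp M.toCoxeterSystem hk r i0 hC hpp hpr hn0 hσf hσF hB' hd hZ hka hN
      (za := 1) (zb := 1) (one_mem _) (fun y _ => by rw [one_mul, mul_one]) (w1 := 1) (ε := 1) ?_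
      (fun x => by rw [map_one]; show x = (1 : ℤ) • x; rw [one_smul]) (int_dvd hn' hq1 hq)
      htr hσx hxp hx1
    rw [mul_one, inv_one, one_mul, map_one]
    exact rp_one
  · obtain ⟨za, zb, w1, h1, h2, h3, h5⟩ := exists_frameS hp M.toCoxeterSystem hk r i0 hF hn0 hσf hσF hN L
      hOK.hL hOK.orth hOK.norm (fun a _ => rfl) rfl (π := fun j => j) (fun j => rfl) hOK.check
    exact inner_rootS hp M.toCoxeterSystem hk r i0 hC hpp hpr hn0 hσf hσF hB' hd hZ hka hN
      h1 h2 h3 h5 (int_dvd' hn' hq) htr hσx hxp hx1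

end Main

/-! ### `F₄` -/

section F4

open Cfsg.Agent.H897.WfBase Cfsg.Agent.H533.Wf

def SF4 : Fin 4 → Fin 4 → ℤ := ![![2, -1, 0, 0], ![-1, 2, -2, 0], ![0, -2, 4, -2], ![0, 0, -2, 4]]

def BF4 : Fin 4 → Fin 4 → ℤ := ![![4, 6, 4, 2], ![6, 12, 8, 4], ![4, 8, 6, 3], ![2, 4, 3, 2]]

theorem invS_F4 : InvS SF4 BF4 2 := by decide +kernel

theorem symC_F4 : SymC (cartanOf chevF4 4) SF4 0 ![0, 0, 1, 2] 4 where
  symm := by decide +kernel
  car := by decide +kernel
  pos := by decide +kernel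
  adj := by decide +kernel
  lead := by decide +kernel
  two := by decide +kernel

def LF4 : List (Fin 4 → ℤ) := [![2, 4, 2, 1], ![0, 2, 2, 1], ![2, 2, 2, 1]]

theorem frOK_F4 : FrOKS chevF4 4 3 SF4 LF4 where
  hL := by decide +kernel
  orth := by decide +kernel
  norm := by decide +kernel
  check := by decide +kernel

/-- lists of short roots with sum a simple root -/
def sp4 : Fin 4 → List (Fin 4 → ℤ) := ![[![1, 0, 0, 0]], [![0, 1, 0, 0]], [![0, 1, 1, 0], ![0, -1, 0, 0]],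
  [![0, 1, 1, 1], ![0, -1, -1, 0]]]

/-- lists of long roots with sum a multiple of a simple root -/
def lp4 : Fin 4 → List (Fin 4 → ℤ) := ![[![2, 2, 1, 0], ![0, -2, -1, 0]], [![0, 2, 1, 0], ![0, 0, -1, 0]],
  [![0, 0, 1, 0]], [![0, 0, 0, 1]]]

theorem sp4_ok : ∀ i, (∀ a ∈ sp4 i, (∃ q < chevF4.nroots, vec chevF4 4 q = a) ∧ bc SF4 a a = 2) ∧ (sp4 i).sum = sr i := by
  decide +kernel

theorem lp4_ok : ∀ i, (∀ a ∈ lp4 i, (∃ q < chevF4.nroots, vec chevF4 4 q = a) ∧ bc SF4 a a = 4) ∧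
    (lp4 i).sum = ((![2, 2, 1, 1] : Fin 4 → ℕ) i : ℤ) • sr i := by
  decide +kernel

theorem m23 : CoxeterMatrix.F₄ 2 3 = 3 := by decide +kernel

variable (hp : IsType chevF4 4 CoxeterMatrix.F₄) [Finite CoxeterMatrix.F₄.Group]

theorem frm_F4 : FrmS CoxeterMatrix.F₄.toCoxeterSystem hp.isCartan (bf SF4)
    fun x => IsRoot CoxeterMatrix.F₄.toCoxeterSystem hp.isCartan x ∧ bf SF4 x x = 2 :=
  symC_F4.frmS _ _ fun i => ⟨sp4 i, fun y hy => by
    obtain ⟨h1, h2⟩ := (sp4_ok i).1 y hy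
    exact ⟨(isRoot_iff hp _ y).2 h1, by rw [bf_eqS, h2]⟩, (sp4_ok i).2⟩

theorem mv_F4 (j : Fin 4) : ∃ (m : ℕ) (L : List (Fin 4 → ℤ)), m.Coprime 3 ∧
    (∀ a ∈ L, ∃ w : CoxeterMatrix.F₄.Group, rep CoxeterMatrix.F₄.toCoxeterSystem hp.isCartan w a = sr 3) ∧
      L.sum = (m : ℤ) • sr j := by
  refine ⟨(![2, 2, 1, 1] : Fin 4 → ℕ) j, lp4 j, by revert j; decide +kernel, fun a ha => ?_, (lp4_ok j).2⟩
  obtain ⟨h1, h2⟩ := (lp4_ok j).1 a ha
  refine SymC.conj (S := SF4) _ _ symC_F4 3 (fun i hi => ?_) ((isRoot_iff hp _ a).2 h1) (by rw [bf_eqS, h2]; rfl)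
    (frm_F4 hp).inv
  have hi' : i = 2 ∨ i = 3 := by revert hi; revert i; decide +kernel
  rcases hi' with rfl | rfl
  · exact exists_act_of_three _ _ m23
  · exact ⟨1, by rw [map_one, Module.End.one_apply]⟩

end F4

section Inst

universe u

open Cfsg.Agent.H897.T5UntwRow Cfsg.Agent.H897.WfBase Cfsg.Agent.H533.Wf

variable {F : Type} [Field F] [Fintype F]

theorem f4_three (h3 : ¬ 3 ∣ Fintype.card F) (h4 : 4 ≤ Fintype.card F) : Red 3 (ph BpExc.RowsUntw.f4T F 3).range :=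
  red_untwS BpExc.RowsUntw.f4T inv_F4 one_ne_zero symTwo_F4
    (fun k _ _ => S1054.result chevF4 (by simp)) (S1054.result chevF4 (by simp)) Nat.prime_three (by norm_num) h4
    (fun k _ _ _ hk r _ _ hpr => con_of_frmS _ _ hk r Nat.prime_three hpr invS_F4 (by norm_num) (by norm_num)
      (frm_F4 BpExc.RowsUntw.f4T)) (frm_F4 BpExc.RowsUntw.f4T) (mv_F4 BpExc.RowsUntw.f4T) frOK_F4 (split3 h3)

/-- **The row `F₄(q)`, `q ≥ 4` prime to `3`.** -/
theorem wf_f4 (h3 : ¬ 3 ∣ Fintype.card F) (h4 : 4 ≤ Fintype.card F) : WfRow.{u, 0} 3 ↥(chevF4.group F) := by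
  have : Fact (Nat.Prime 3) := ⟨Nat.prime_three⟩
  have hq : 1 < Fintype.card F := Fintype.one_lt_card
  refine wf_of_red (qs_sl h4 _ fun C => phi_ker' _ 3 C) ?_ (f4_three h3 h4)
  refine range_ne_top _ (d := 1) (N := 24) hq.le (?_ : _ = Fintype.card F ^ 24 *
    ((Fintype.card F ^ 2 - 1) * (Fintype.card F ^ 6 - 1) * (Fintype.card F ^ 8 - 1) * (Fintype.card F ^ 12 - 1)))
    (by norm_num) ?_
  · rw [S1062.result rfl]
    ring
  · have := fun m hm => pos_pow_sub hq (m := m) hm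
    have h1 := this 2 (by norm_num)
    have h2 := this 6 (by norm_num)
    have h3 := this 8 (by norm_num)
    have h4 := this 12 (by norm_num)
    (clear * - h1 h2 h3 h4; positivity)

end Inst

/-! ### `G₂` -/

section G2

variable (hp : IsType chevG2 2 CoxeterMatrix.G₂) [Finite CoxeterMatrix.G₂.Group]

end G2

section Inst

universe u

open Cfsg.Agent.H897.T5UntwRow Cfsg.Agent.H897.WfBase Cfsg.Agent.H533.Wf

variable {F : Type} [Field F] [Fintype F]

end Inst

end Cfsg.Agent.H897.WfGF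
end

-- part: H800/Wf/Congr
section
/-!
# `IRow p K` for isomorphic groups (helper800, for S3826)
-/

set_option autoImplicit false

namespace Cfsg.Agent.H800.Wf

universe u v

open Subgroup Cfsg Cfsg.Agent.H533.Wf

theorem cfg_congr {p : ℕ} {K : Type u} {K' : Type v} [Group K] [Finite K] [Group K'] (e : K ≃* K')
    {C D : Set K'} (h : Cfg p (⊤ : Subgroup K') C D) : Cfg p (⊤ : Subgroup K) (e ⁻¹' C) (e ⁻¹' D) where
  toHyp := h.toHyp.comap e.toMonoidHom e.injective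
  ordC := fun c hc => by rw [← orderOf_injective e.toMonoidHom e.injective]; exact h.ordC _ hc
  ordD := fun c hc => by rw [← orderOf_injective e.toMonoidHom e.injective]; exact h.ordD _ hc
  neC := by
    obtain ⟨c, hc⟩ := h.neC
    exact ⟨e.symm c, by show e (e.symm c) ∈ C; rwa [e.apply_symm_apply]⟩
  neD := by
    obtain ⟨c, hc⟩ := h.neD
    exact ⟨e.symm c, by show e (e.symm c) ∈ D; rwa [e.apply_symm_apply]⟩
  normal := inferInstance
  simple := by
    have := h.simple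
    exact (Subgroup.topEquiv.trans (e.trans Subgroup.topEquiv.symm)).isSimpleGroup
  nc := by
    intro hc
    apply h.nc
    refine ⟨⟨fun a b => Subtype.ext ?_⟩⟩
    have h1 := congrArg Subtype.val (hc.is_comm.comm (⟨e.symm a, mem_top _⟩ : (⊤ : Subgroup K))
      ⟨e.symm b, mem_top _⟩)
    have h2 : e (e.symm (a : K') * e.symm (b : K')) = e (e.symm (b : K') * e.symm (a : K')) := congrArg e h1
    rw [map_mul, map_mul, e.apply_symm_apply, e.apply_symm_apply] at h2
    exact h2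
  dvd := by
    have h1 := h.dvd
    rw [Subgroup.card_top] at h1 ⊢
    rwa [Nat.card_congr e.toEquiv]
  cent := by
    rw [eq_bot_iff]
    intro x hx
    rw [mem_bot]
    apply e.injective
    rw [map_one]
    have h1 : e x ∈ Subgroup.centralizer ((⊤ : Subgroup K') : Set K') := by
      rw [mem_centralizer_iff] at hx ⊢
      intro y _
      have h2 := congrArg e (hx (e.symm y) (mem_top _))
      rwa [map_mul, map_mul, e.apply_symm_apply] at h2
    rw [h.cent, mem_bot] at h1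
    exact h1
  ih := by
    intro X _ _ hX
    obtain ⟨Y, _, _, ⟨f⟩⟩ := exists_copy.{v, u} X
    refine Thm.congr f (h.ih Y ?_)
    rwa [Nat.card_congr f.toEquiv, ← Nat.card_congr e.toEquiv]

theorem irow_congr {p : ℕ} {K : Type u} {K' : Type v} [Group K] [Finite K] [Group K'] (e : K ≃* K')
    (h : IRow p K) : IRow p K' := fun _ _ hc => h _ _ (cfg_congr e hc)

end Cfsg.Agent.H800.Wf
end

-- part: H800/Wf/HN
section
/-!
# HN, `p = 3` (helper800, for S3826)

* `exists_range` : the 3-elements of `O(C(X3))` are conjugate into `A12` (orbit lemma);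
* `exists_outside` : every class of elements of order 3 has a member in `C(X3) - O(C(X3))`;
* `irow` : `IRow 3 HN`; `arow_hn` : `ARow 3 K`, `K ≅ HN`.
-/

set_option autoImplicit false
set_option maxRecDepth 100000

namespace Cfsg.Agent.H800.Wf.HN

open Subgroup Cfsg
open Cfsg.Agent
open Cfsg.Agent.CpAutHN.Alt
open Cfsg.Agent.CpAutHN.Tr
open Cfsg.Agent.CpAutHN.Pairs
open Cfsg.Agent.H569.HNThree
open Cfsg.Agent.H800.Wf.HNMid
open Equiv.Perm (mem_alternatingGroup)

/-! ### elements of `A12` -/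

theorem x1_comm : x1 * x3 = x3 * x1 := by decide +kernel
theorem sg_comm : sg * x3 = x3 * sg := by decide +kernel

/-- `(9 10 11)` in `C(X3)` -/
noncomputable def u1 : MM := _root_.Cfsg.Agent.H569.HNThree.mk x1 x1_mem x1_comm
/-- `(0 3 6)(1 4 7)(2 5 8)` in `C(X3)` -/
noncomputable def u2 : MM := _root_.Cfsg.Agent.H569.HNThree.mk sg sg_mem sg_comm

theorem u1_mem : u1 ∈ QQ := mk_core _ _ _ (by decide +kernel) (by decide +kernel)
theorem u2_mem : u2 ∈ QQ := mk_core _ _ _ (by decide +kernel) (by decide +kernel)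

theorem order_u1 : orderOf u1 = 3 := by rw [← Subgroup.orderOf_coe]; exact order_X1
theorem order_u2 : orderOf u2 = 3 := by
  rw [← Subgroup.orderOf_coe]; exact orderOf_three sg_mem (by decide +kernel) (by decide +kernel)

theorem x1_ne (i : ℕ) (hi : i < 3) : x1 ≠ x3 ^ i := by interval_cases i <;> decide +kernel
theorem sg_ne (i : ℕ) (hi : i < 3) : sg ≠ x3 ^ i := by interval_cases i <;> decide +kernel

/-- the conjugating elements -/
def cj (i : ℕ) : Equiv.Perm (Fin 12) :=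
  if i = 0 then cy [1, 3] * cy [2, 6] * cy [5, 7] * cy [9, 10] else
  if i = 1 then cy [1, 4, 5, 6, 2, 8, 7, 3] * cy [9, 10] else
  if i = 2 then cy [1, 5, 8, 6, 2, 7, 4, 3] * cy [9, 10] else cy [6, 9, 7, 10] * cy [8, 11]

theorem cj_mem (i : ℕ) (hi : i < 4) : cj i ∈ alternatingGroup (Fin 12) := by
  rw [mem_alternatingGroup]
  interval_cases i <;> decide +kernel

theorem cj_comm (i : ℕ) (hi : i < 3) : cj i * x3 = sg * x3 ^ i * cj i := by
  interval_cases i <;> decide +kernel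

theorem cj_three : cj 3 * x3 = ya * x1 * cj 3 := by decide +kernel

/-- `(0 4 7 10 1 3 6 9)(2 5 8 11)` -/
def ck : Equiv.Perm (Fin 12) := cy [0, 4, 7, 10, 1, 3, 6, 9] * cy [2, 5, 8, 11]
theorem ck_mem : ck ∈ alternatingGroup (Fin 12) := by rw [mem_alternatingGroup]; decide +kernel
theorem ck_comm : ck * x1 = ya⁻¹ * y3⁻¹ * ck := by decide +kernel

theorem isConj_of {a b c : A12} (h : c * a = b * c) : IsConj (Φ a) (Φ b) := by
  refine isConj_iff.2 ⟨Φ c, ?_⟩
  rw [mul_inv_eq_iff_eq_mul, ← map_mul, h, map_mul]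

theorem isConj_sg (i : ℕ) (hi : i < 3) : IsConj X3 ((u2 * XX ^ i : MM) : G) := by
  have h1 : ((u2 * XX ^ i : MM) : G) = Φ (⟨sg, sg_mem⟩ * ⟨x3, x3_mem⟩ ^ i) := by
    rw [map_mul, map_pow]; rfl
  rw [h1]
  exact isConj_of (a := ⟨x3, x3_mem⟩) (c := ⟨cj i, cj_mem i (by omega)⟩) (Subtype.ext (cj_comm i hi))

theorem mem_Z_iff {z : MM} (hz : z ∈ zpowers XX) : ∃ i < 3, z = XX ^ i := by
  obtain ⟨i, hi⟩ := (isOfFinOrder_of_finite XX).mem_powers_iff_mem_zpowers.2 hz
  refine ⟨i % 3, Nat.mod_lt _ (by norm_num), ?_⟩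
  rw [← hi, ← order_XX]
  exact (pow_mod_orderOf XX i).symm

theorem XX_cube : XX ^ 3 = 1 := by rw [← order_XX, pow_orderOf_eq_one]

theorem cube_Z {z : MM} (hz : z ∈ zpowers XX) : z ^ 3 = 1 := by
  obtain ⟨i, -, rfl⟩ := mem_Z_iff hz
  rw [← pow_mul, mul_comm, pow_mul, XX_cube, one_pow]

theorem comm_Z {z : MM} (hz : z ∈ zpowers XX) (m : MM) : m * z = z * m := by
  obtain ⟨i, -, rfl⟩ := mem_Z_iff hz
  exact ((show Commute m XX from comm_XX m).pow_right i).eq

/-! ### the quotient -/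

/-- `C(X3)/⟨X3⟩` -/
abbrev MB : Type := MM ⧸ (zpowers XX)

/-- the projection -/
noncomputable def pr : MM →* MB := QuotientGroup.mk' (zpowers XX)

theorem pr_surj : Function.Surjective pr := QuotientGroup.mk'_surjective _

theorem pr_one {m : MM} : pr m = 1 ↔ m ∈ zpowers XX := QuotientGroup.eq_one_iff m

theorem pr_eq {m n : MM} (h : pr m = pr n) : ∃ i < 3, m = n * XX ^ i := by
  have h1 : pr (n⁻¹ * m) = 1 := by rw [map_mul, map_inv, h, inv_mul_cancel]
  obtain ⟨i, hi, h2⟩ := mem_Z_iff (pr_one.1 h1)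
  exact ⟨i, hi, by rw [← h2, mul_inv_cancel_left]⟩

theorem QQ_ker : pr.ker ≤ QQ := by
  intro m hm
  obtain ⟨i, -, rfl⟩ := mem_Z_iff (pr_one.1 hm)
  exact pow_mem XX_mem.1 i

theorem card_map : Nat.card (QQ.map pr) * 3 = Nat.card QQ := by
  have h1 := relIndex_mul_relIndex ⊥ pr.ker QQ bot_le QQ_ker
  rw [relIndex_bot_left, relIndex_bot_left, relIndex_ker, show pr.ker = zpowers XX from QuotientGroup.ker_mk' _,
    Nat.card_zpowers, order_XX] at h1
  rw [mul_comm]; exact h1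

theorem card_MB : 3 * Nat.card MB = Nat.card MM := by
  have h1 := (zpowers XX).card_mul_index
  rw [Nat.card_zpowers, order_XX] at h1
  exact h1

theorem no_inv (i : MB) (hi : orderOf i = 2) (t : MB) (ht : t ∈ QQ.map pr) (h3 : ∃ k, t ^ 3 ^ k = 1)
    (hit : i * t = t * i) : t = 1 := by
  obtain ⟨i₀, rfl⟩ := pr_surj i
  obtain ⟨t₀, ht₀, rfl⟩ := ht
  obtain ⟨k, hk⟩ := h3
  -- the involution
  have hi1 : pr (i₀ ^ 2) = 1 := by rw [map_pow, ← hi, pow_orderOf_eq_one]
  have hpi : pr (i₀ ^ 3) = pr i₀ := by rw [pow_succ, map_mul, hi1, one_mul]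
  have hi2 : (i₀ ^ 3) ^ 2 = 1 := by rw [← pow_mul, mul_comm, pow_mul, cube_Z (pr_one.1 hi1)]
  have hi3 : orderOf (i₀ ^ 3) = 2 := by
    refine orderOf_eq_prime hi2 ?_
    intro h
    rw [h, map_one] at hpi
    rw [← hpi, orderOf_one] at hi
    norm_num at hi
  rw [← hpi] at hit
  generalize i₀ ^ 3 = j at hi2 hi3 hit
  have hjj : j * j = 1 := by rw [← pow_two]; exact hi2
  -- the 3-element
  have ht3 : t₀ ^ 3 ^ (k + 1) = 1 := by
    have h1 : pr (t₀ ^ 3 ^ k) = 1 := by rw [map_pow]; exact hk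
    rw [pow_succ, pow_mul, cube_Z (pr_one.1 h1)]
  -- they commute
  rw [← map_mul, ← map_mul] at hit
  obtain ⟨a, ha, h1⟩ := pr_eq hit
  have hz : XX ^ a ∈ zpowers XX := pow_mem (mem_zpowers XX) a
  have hc := comm_Z hz
  have hz3 := cube_Z hz
  generalize XX ^ a = z at h1 hc hz3
  have h2 : z * z = 1 := by
    have h4 : t₀ = t₀ * (z * z) := by
      calc t₀ = j * (j * t₀) := by rw [← mul_assoc, hjj, one_mul]
        _ = j * (t₀ * j * z) := by rw [h1]
        _ = j * t₀ * j * z := by group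
        _ = t₀ * j * z * j * z := by rw [h1]
        _ = t₀ * j * (z * j) * z := by group
        _ = t₀ * (j * j) * (z * z) := by rw [← hc j]; group
        _ = t₀ * (z * z) := by rw [hjj, mul_one]
    exact mul_eq_left.1 h4.symm
  have h4 : z = 1 := by
    rw [pow_succ, pow_two, h2, one_mul] at hz3
    exact hz3
  rw [h4, mul_one] at h1
  exact pr_one.2 (mem_Z' ht₀ ⟨k + 1, ht3⟩ hi3 h1)

theorem pel_of_order {M : Type*} [Group M] {x : M} (h : orderOf x = 3) : ∃ k, x ^ 3 ^ k = 1 :=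
  ⟨1, by rw [pow_one, ← h, pow_orderOf_eq_one]⟩

theorem XX_range : (XX : G) ∈ Φ.range := ⟨⟨x3, x3_mem⟩, rfl⟩

theorem mem_range_mul {u : MM} (hu : (u : G) ∈ Φ.range) (i : ℕ) : ((u * XX ^ i : MM) : G) ∈ Φ.range := by
  rw [Subgroup.coe_mul, Subgroup.coe_pow]
  exact mul_mem hu (pow_mem XX_range i)

theorem u1_range : (u1 : G) ∈ Φ.range := ⟨_, rfl⟩
theorem u2_range : (u2 : G) ∈ Φ.range := ⟨_, rfl⟩

theorem pr_u1 : pr u1 ≠ 1 := by
  intro h
  obtain ⟨i, hi, h1⟩ := mem_Z_iff (pr_one.1 h)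
  have h2 : Φ ⟨x1, x1_mem⟩ = Φ (⟨x3, x3_mem⟩ ^ i) := by rw [map_pow]; exact congrArg Subtype.val h1
  exact x1_ne i hi (congrArg Subtype.val (Φ_inj h2))

theorem pr_u2 : pr u2 ≠ 1 := by
  intro h
  obtain ⟨i, hi, h1⟩ := mem_Z_iff (pr_one.1 h)
  have h2 : Φ ⟨sg, sg_mem⟩ = Φ (⟨x3, x3_mem⟩ ^ i) := by rw [map_pow]; exact congrArg Subtype.val h1
  exact sg_ne i hi ((congrArg Subtype.val (Φ_inj h2) :))

theorem not_conj_pr : ¬ IsConj (pr u1) (pr u2) := by
  intro h
  obtain ⟨g, hg⟩ := isConj_iff.1 h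
  obtain ⟨m, rfl⟩ := pr_surj g
  rw [← map_mul, ← map_inv, ← map_mul] at hg
  obtain ⟨i, hi, h1⟩ := pr_eq hg
  apply not_conj
  have h2 : IsConj X1 ((u2 * XX ^ i : MM) : G) := isConj_iff.2 ⟨(m : G), congrArg Subtype.val h1⟩
  exact h2.trans (isConj_sg i hi).symm

/-- **The 3-elements of the core are conjugate into `A12`.** -/
theorem exists_range {t : MM} (ht : t ∈ QQ) (h3 : ∃ k, t ^ 3 ^ k = 1) : ∃ m : MM, ((m * t * m⁻¹ : MM) : G) ∈ Φ.range := by
  by_cases ht1 : pr t = 1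
  · obtain ⟨i, -, rfl⟩ := mem_Z_iff (pr_one.1 ht1)
    refine ⟨1, ?_⟩
    rw [one_mul, inv_one, mul_one, Subgroup.coe_pow]
    exact pow_mem XX_range i
  have hn : (QQ.map pr).Normal := normal_QQ.map pr pr_surj
  have hcard := card_map
  have hodd : Odd (Nat.card (QQ.map pr)) := Odd.of_dvd_nat odd_QQ ⟨3, hcard.symm⟩
  have hfac : (Nat.card (QQ.map pr)).factorization 3 = 4 := by
    have h1 := fac_QQ
    rw [← hcard, Nat.factorization_mul Nat.card_pos.ne' (by norm_num), Finsupp.add_apply,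
      Nat.prime_three.factorization_self] at h1
    omega
  have h8 : 8 ∣ Nat.card MB := by
    have h1 := H555.Hall.HNThree.eight_dvd_T1 order_X3 t1_x3
    rw [show centralizer ({X3} : Set G) = MM from rfl, ← card_MB] at h1
    exact (show Nat.Coprime 8 3 by norm_num).dvd_of_dvd_mul_left h1
  obtain ⟨f₁, f₂, h1, h1x, h2, h2x, h12⟩ := H755.CC.HNThree.exists_fives order_X3 t1_x3
  let F₁ : MM := ⟨f₁, mem_centralizer_singleton_iff.2 h1x⟩
  let F₂ : MM := ⟨f₂, mem_centralizer_singleton_iff.2 h2x⟩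
  have e1 : (pr F₁) ^ 5 = 1 := by rw [← map_pow, show F₁ ^ 5 = 1 from Subtype.ext h1, map_one]
  have e2 : (pr F₂) ^ 5 = 1 := by rw [← map_pow, show F₂ ^ 5 = 1 from Subtype.ext h2, map_one]
  have e12 : ¬ Odd (orderOf (pr F₁ * pr F₂)) := by
    intro h
    apply h12
    have h5 : pr ((F₁ * F₂) ^ orderOf (pr F₁ * pr F₂)) = 1 := by rw [map_pow, map_mul, pow_orderOf_eq_one]
    have h6 := cube_Z (pr_one.1 h5)
    rw [← pow_mul] at h6
    have h7 : (f₁ * f₂) ^ (orderOf (pr F₁ * pr F₂) * 3) = 1 := congrArg Subtype.val h6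
    exact Odd.of_dvd_nat (h.mul (by decide)) (orderOf_dvd_of_pow_eq_one h7)
  have hmap : ∀ {x : MM}, (∃ k, x ^ 3 ^ k = 1) → ∃ k, (pr x) ^ 3 ^ k = 1 := by
    rintro x ⟨k, hk⟩
    exact ⟨k, by rw [← map_pow, hk, map_one]⟩
  rcases Orb.main (QQ.map pr) hodd hfac no_inv h8 e1 e2 e12 (y := pr u1) (w := pr u2) (t := pr t) ⟨_, u1_mem, rfl⟩
    ⟨_, u2_mem, rfl⟩ ⟨_, ht, rfl⟩ (hmap (pel_of_order order_u1)) (hmap (pel_of_order order_u2)) (hmap h3) pr_u1 pr_u2 ht1
    not_conj_pr with h | h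
  · obtain ⟨g, hg⟩ := isConj_iff.1 h.symm
    obtain ⟨m, rfl⟩ := pr_surj g
    rw [← map_mul, ← map_inv, ← map_mul] at hg
    obtain ⟨i, -, hi⟩ := pr_eq hg
    exact ⟨m, by rw [hi]; exact mem_range_mul u1_range i⟩
  · obtain ⟨g, hg⟩ := isConj_iff.1 h.symm
    obtain ⟨m, rfl⟩ := pr_surj g
    rw [← map_mul, ← map_inv, ← map_mul] at hg
    obtain ⟨i, -, hi⟩ := pr_eq hg
    exact ⟨m, by rw [hi]; exact mem_range_mul u2_range i⟩

/-- the elements of order 3 of the core are conjugate to `X1` or `X3` -/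
theorem conj_of_core {t : MM} (ht : t ∈ QQ) (h3 : orderOf t = 3) : ∃ c : G, c * t * c⁻¹ = X1 ∨ c * t * c⁻¹ = X3 := by
  obtain ⟨m, hm⟩ := exists_range ht (pel_of_order h3)
  have h4 : orderOf ((m * t * m⁻¹ : MM) : G) = 3 := by
    rw [Subgroup.orderOf_coe, ← h3]
    exact MulEquiv.orderOf_eq (MulAut.conj m) t
  obtain ⟨s, hs, hc⟩ := H755.CC.HNThree.exists_s h4 hm
  have hs2 : orderOf s = 2 := by
    obtain ⟨c, hc⟩ := isConj_iff.1 hs.symm
    rw [← hc]
    have h1 := MulEquiv.orderOf_eq (MulAut.conj c) Cfsg.Agent.HN.XWords.W0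
    rw [MulAut.conj_apply] at h1
    rw [h1]
    exact orderOf_eq_prime (by rw [pow_two]; exact Cfsg.Agent.HN.XWords.W0_sq) Cfsg.Agent.KFacts.HN.W0_ne
  obtain ⟨c, hc⟩ := conj_of_comm (pow_three_of_order h4) hs2 hc (by
    intro h
    rw [h, orderOf_one] at h4
    norm_num at h4)
  refine ⟨c * m, ?_⟩
  have e : c * (m : G) * t * (c * m)⁻¹ = c * ((m * t * m⁻¹ : MM) : G) * c⁻¹ := by
    rw [Subgroup.coe_mul, Subgroup.coe_mul, Subgroup.coe_inv]; group
  rw [e]
  exact hc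

/-! ### elements outside the core -/

theorem y3_comm : y3 * x3 = x3 * y3 := by decide +kernel

/-- **Every class of elements of order 3 has a member in `C(X3) - O(C(X3))`.** -/
theorem exists_outside {C : Set G} (hC : ∀ g : G, ∀ c ∈ C, g * c * g⁻¹ ∈ C) {c : G} (hc : c ∈ C) (h3 : orderOf c = 3) :
    ∃ m : MM, (m : G) ∈ C ∧ m ∉ QQ ∧ orderOf m = 3 := by
  have : Fact (Nat.Prime 3) := ⟨Nat.prime_three⟩
  obtain ⟨g, hg⟩ := H749.exists_conj_mem MM index_X3 (pow_three_of_order h3)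
  have hgC := hC g c hc
  have hg3 : orderOf (g * c * g⁻¹) = 3 := by rw [← h3]; exact MulEquiv.orderOf_eq (MulAut.conj g) c
  by_cases hQ : (⟨_, hg⟩ : MM) ∈ QQ
  swap
  · exact ⟨⟨_, hg⟩, hgC, hQ, by rw [← Subgroup.orderOf_coe]; exact hg3⟩
  obtain ⟨k, hk⟩ := conj_of_core hQ (by rw [← Subgroup.orderOf_coe]; exact hg3)
  have hkC := hC k _ hgC
  change k * (g * c * g⁻¹) * k⁻¹ = X1 ∨ k * (g * c * g⁻¹) * k⁻¹ = X3 at hk
  rcases hk with hk | hk
  · -- the class of `X1`
    rw [hk] at hkC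
    have h1 : IsConj (Φ ⟨x1, x1_mem⟩) (Φ (⟨ya, ya_mem⟩⁻¹ * ⟨y3, y3_mem⟩⁻¹)) :=
      isConj_of (c := ⟨ck, ck_mem⟩) (Subtype.ext ck_comm)
    obtain ⟨a, ha⟩ := isConj_iff.1 h1
    let v : MM := yy⁻¹ * (_root_.Cfsg.Agent.H569.HNThree.mk y3 y3_mem y3_comm)⁻¹
    have hv : (v : G) = a * X1 * a⁻¹ := by
      change _ = a * Φ ⟨x1, x1_mem⟩ * a⁻¹
      rw [ha, map_mul, map_inv, map_inv]
      rfl
    refine ⟨v, by rw [hv]; exact hC a _ hkC, ?_, ?_⟩
    · intro h
      have h4 : _root_.Cfsg.Agent.H569.HNThree.mk y3 y3_mem y3_comm ∈ QQ := mk_core _ _ _ (by decide +kernel) (by decide +kernel)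
      have h5 : yy⁻¹ ∈ QQ := (mul_mem_cancel_right (inv_mem h4)).1 h
      exact yy_not_mem (inv_mem_iff.1 (h5 :))
    · rw [← Subgroup.orderOf_coe, hv, ← order_X1]
      exact MulEquiv.orderOf_eq (MulAut.conj a) X1
  · -- the class of `X3`
    rw [hk] at hkC
    have h1 : IsConj (Φ ⟨x3, x3_mem⟩) (Φ (⟨ya, ya_mem⟩ * ⟨x1, x1_mem⟩)) :=
      isConj_of (c := ⟨cj 3, cj_mem 3 (by norm_num)⟩) (Subtype.ext cj_three)
    obtain ⟨a, ha⟩ := isConj_iff.1 h1
    let v : MM := yy * u1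
    have hv : (v : G) = a * X3 * a⁻¹ := by
      change _ = a * Φ ⟨x3, x3_mem⟩ * a⁻¹
      rw [ha, map_mul]
      rfl
    refine ⟨v, by rw [hv]; exact hC a _ hkC, ?_, ?_⟩
    · intro h
      exact yy_not_mem ((mul_mem_cancel_right u1_mem).1 h)
    · rw [← Subgroup.orderOf_coe, hv, ← order_X3]
      exact MulEquiv.orderOf_eq (MulAut.conj a) X3

/-! ### the row -/

theorem three_subgroup {Y : Type*} [Group Y] [Finite Y] (h : (Nat.card Y).factorization 3 = 1) {c d : Y}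
    (hc : orderOf c = 3) (hd : orderOf d = 3) : ∃ g : Y, g * c * g⁻¹ ∈ zpowers d := by
  have : Fact (Nat.Prime 3) := ⟨Nat.prime_three⟩
  let P : Sylow 3 Y := Sylow.ofCard (zpowers c) (by rw [Nat.card_zpowers, hc, h, pow_one])
  let R : Sylow 3 Y := Sylow.ofCard (zpowers d) (by rw [Nat.card_zpowers, hd, h, pow_one])
  obtain ⟨g, hg⟩ := MulAction.exists_smul_eq Y P R
  refine ⟨g, ?_⟩
  have h1 : g * c * g⁻¹ ∈ (R : Subgroup Y) := by
    rw [← hg]
    exact Subgroup.smul_mem_pointwise_smul c (MulAut.conj g) _ (mem_zpowers c)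
  exact h1

/-- no non-trivial normal 3-subgroup modulo the core -/
theorem core_quot {N : Subgroup (MM ⧸ QQ)} [N.Normal] (hN : IsPGroup 3 N) : N = ⊥ := by
  have hn : (N.comap (QuotientGroup.mk' QQ)).Normal := inferInstance
  have hle : N.comap (QuotientGroup.mk' QQ) ≤ QQ := by
    refine Lib.Cores.le_pPrimeCore (p := 2) hn (Nat.coprime_two_right.2 ?_)
    have h1 := relIndex_mul_relIndex ⊥ QQ (N.comap (QuotientGroup.mk' QQ)) bot_le (by
      intro x hx
      rw [mem_comap, QuotientGroup.mk'_apply, (QuotientGroup.eq_one_iff x).2 hx]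
      exact one_mem _)
    have h2 := relIndex_ker (N.comap (QuotientGroup.mk' QQ)) (QuotientGroup.mk' QQ)
    rw [QuotientGroup.ker_mk', map_comap_eq_self_of_surjective (QuotientGroup.mk'_surjective QQ)] at h2
    rw [relIndex_bot_left, relIndex_bot_left, h2] at h1
    rw [← h1]
    obtain ⟨n, hn⟩ := IsPGroup.iff_card.1 hN
    rw [hn]
    exact odd_QQ.mul (Odd.pow (by decide))
  rw [eq_bot_iff]
  intro x hx
  obtain ⟨m, rfl⟩ := QuotientGroup.mk'_surjective QQ x
  rw [mem_bot, QuotientGroup.mk'_apply, QuotientGroup.eq_one_iff]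
  exact hle hx

theorem MM_ne_top : (MM : Subgroup G) ≠ ⊤ := by
  refine H755.CC.HNB.centralizer_ne_top ?_
  intro h
  have h1 := order_X3
  rw [h, orderOf_one] at h1
  norm_num at h1

/-- **`IRow 3 HN`** -/
theorem irow : H533.Wf.IRow 3 G := by
  intro C D h
  have : Fact (Nat.Prime 3) := ⟨Nat.prime_three⟩
  obtain ⟨c₀, hc₀⟩ := h.neC
  obtain ⟨d₀, hd₀⟩ := h.neD
  obtain ⟨c, hc, hcQ, hc3⟩ := exists_outside h.conjC hc₀ (h.ordC c₀ hc₀)
  obtain ⟨d, hd, hdQ, hd3⟩ := exists_outside h.conjD hd₀ (h.ordD d₀ hd₀)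
  -- the pairs commute modulo the core
  have hcore : pCore 3 MM ≤ QQ := by
    refine Lib.Cores.le_pPrimeCore (p := 2) (Lib.Cores.pCore_normal 3) (Nat.coprime_two_right.2 ?_)
    obtain ⟨n, hn⟩ := IsPGroup.iff_card.1 (Lib.Cores.pCore_isPGroup (G := MM) 3)
    rw [hn]
    exact Odd.pow (by decide)
  set! π := QuotientGroup.mk' QQ with hπ
  have hcomm : ∀ c' d' : MM, (c' : G) ∈ C → (d' : G) ∈ D → π c' * π d' = π d' * π c' := by
    intro c' d' hc' hd'
    have h1 := hcore (h.local_core MM_ne_top hc' hd' c'.2 d'.2)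
    have h2 : π (c'⁻¹ * d'⁻¹ * c' * d') = 1 := (QuotientGroup.eq_one_iff _).2 h1
    rw [map_mul, map_mul, map_mul, map_inv, map_inv] at h2
    exact (H533.Wf.commute_of_eq_one h2).eq
  -- Sylow subgroups of order 3
  have hor : ∀ {x : MM}, x ∉ QQ → orderOf x = 3 → orderOf (π x) = 3 := by
    intro x hx hx3
    refine orderOf_eq_prime (by rw [← map_pow, ← hx3, pow_orderOf_eq_one, map_one]) ?_
    intro h1
    exact hx ((QuotientGroup.eq_one_iff _).1 h1)
  have hfac : (Nat.card (MM ⧸ QQ)).factorization 3 = 1 := fac_index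
  obtain ⟨g, hg⟩ := three_subgroup hfac (hor hcQ hc3) (hor hdQ hd3)
  obtain ⟨g, rfl⟩ := QuotientGroup.mk'_surjective QQ g
  obtain ⟨k, hk⟩ := mem_zpowers_iff.1 hg
  have hC' : ∀ m : MM, ((m * c * m⁻¹ : MM) : G) ∈ C := fun m => h.conjC (m : G) _ hc
  have hBS := Cfsg.Agent.Involutions.BaerSuzuki.baer_suzuki_element (p := 3) (π c) (fun y => by
    obtain ⟨m, rfl⟩ := QuotientGroup.mk'_surjective QQ y
    -- the conjugates commute
    have h1 : Commute (π (m * c * m⁻¹)) (π d) := hcomm _ _ (hC' m) hd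
    have h2 : ∀ m : MM, Commute (π (m * c * m⁻¹)) (π (g * c * g⁻¹)) := by
      intro m
      have h3 : Commute (π (m * c * m⁻¹)) (π d) := hcomm _ _ (hC' m) hd
      have h4 := h3.zpow_right k
      rw [hk] at h4
      rw [map_mul π, map_mul π, map_inv π]
      rw [map_mul π, map_mul π, map_inv π] at h4 ⊢
      exact h4
    have h3 : (Commute (π c) (π m * π c * (π m)⁻¹) :) := by
      have h4 := h2 (g * m)
      have h5 := h2 g
      have h6 : Commute (π ((g * m⁻¹) * c * (g * m⁻¹)⁻¹)) (π (g * c * g⁻¹)) := h2 (g * m⁻¹)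
      have h7 := congrArg (fun y => π (m * g⁻¹) * y * (π (m * g⁻¹))⁻¹) h6.eq
      simp only [← map_mul, ← map_inv] at h7
      have e1 : m * g⁻¹ * (g * m⁻¹ * c * (g * m⁻¹)⁻¹ * (g * c * g⁻¹)) * (m * g⁻¹)⁻¹ = c * (m * c * m⁻¹) := by group
      have e2 : m * g⁻¹ * (g * c * g⁻¹ * (g * m⁻¹ * c * (g * m⁻¹)⁻¹)) * (m * g⁻¹)⁻¹ = m * c * m⁻¹ * c := by group
      rw [e1, e2] at h7
      rw [← map_inv, ← map_mul, ← map_mul]
      show π c * π (m * c * m⁻¹) = π (m * c * m⁻¹) * π c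
      rw [← map_mul, ← map_mul]
      exact h7
    have h4 : (IsPGroup 3 ↥(_root_.Subgroup.closure ({π c, π m * π c * (π m)⁻¹} : Set (MM ⧸ QQ))) :) := by
      have hab : ∀ x ∈ ({π c, π m * π c * (π m)⁻¹} : Set (MM ⧸ QQ)), ∀ y ∈ ({π c, π m * π c * (π m)⁻¹} : Set (MM ⧸ QQ)),
          x * y = y * x := by
        intro x hx y hy
        rcases hx with rfl | rfl <;> rcases hy with rfl | rfl
        · rfl
        · exact h3.eq
        · exact h3.eq.symm
        · rfl
      have hcub : ∀ x ∈ _root_.Subgroup.closure ({π c, π m * π c * (π m)⁻¹} : Set (MM ⧸ QQ)), x ^ 3 = 1 := by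
        intro x hx
        have hmc : IsMulCommutative ↥(_root_.Subgroup.closure ({π c, π m * π c * (π m)⁻¹} : Set (MM ⧸ QQ))) :=
          isMulCommutative_closure hab
        induction hx using Subgroup.closure_induction with
        | mem x hx =>
          have hc3' : (π c) ^ 3 = 1 := by rw [← map_pow, ← hc3, pow_orderOf_eq_one, map_one]
          rcases hx with rfl | rfl
          · exact hc3'
          · rw [conj_pow, hc3']; group
        | one => exact one_pow 3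
        | mul x y hx hy ihx ihy =>
          have h5 : Commute x y := congrArg Subtype.val (hmc.is_comm.comm ⟨x, hx⟩ ⟨y, hy⟩)
          rw [h5.mul_pow, ihx, ihy, one_mul]
        | inv x hx ihx => rw [inv_pow, ihx, inv_one]
      intro x
      exact ⟨1, Subtype.ext (by rw [pow_one]; exact hcub x x.2)⟩
    exact h4)
  have hbot := core_quot hBS
  have h1 : π c ∈ normalClosure {π c} := subset_normalClosure rfl
  rw [hbot, mem_bot] at h1
  exact hcQ ((QuotientGroup.eq_one_iff _).1 h1)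

universe u

/-- **the row HN of S3826, `p = 3`** -/
theorem arow_hn (K : Type u) [Group K] [Finite K] (h : Spor.IsoHN K) : H533.Wf.ARow 3 K := by
  obtain ⟨e⟩ := h
  refine H533.Wf.ARow.of_inner ?_ (irow_congr e.symm irow)
  intro a ha
  have h1 : CpAut.AutInner 3 K := (CpAutHN.Main.autInner 3 Nat.prime_three (by norm_num)).congr e.symm
  obtain ⟨g, hg⟩ := h1 a ha
  exact ⟨g, hg.symm⟩

end Cfsg.Agent.H800.Wf.HN
end

private theorem dce_71a27d83fddc : _root_.True := by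
  try have : _root_.True := by simp only [_root_.Cfsg.Agent.H897.T5RootS.rcS.eq_1]
  exact _root_.True.intro
end

-- part: H885/Wf/Asm
section
prune_inst 0x401040006210000000059671000100000004020040800010c103820206d2a04500a8004020381148088900000000281308009002400000042004000001042180aa52029348010466009f803082400000000000000000000000000000041004200000000
set_option linter.all false
open scoped Cfsg.Agent.FastGrp

-- part: H885/Wf/Rot
section
/-!
# S3826: type rotating elements in the defining characteristic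

helper885. `G` acts on the chambers of a building of a group `K ≤ G` with `Sys Δ K p`.
* `exists_fixed` : a `p`-element of `G` fixes a chamber;
* `false_of_rot` : `c ∈ 𝒞` fixes a chamber `x₀` and moves all the types of `J`, `d ∈ 𝒟` fixes `z₀` and is not trivial on the
  residue of type `J` of `z₀`: no configuration;
* `false_of_pan` : `c`, `d` are both not trivial on a panel of type `j` of fixed chambers: no configuration;
* `exists_moved` : the type of a moved chamber can be changed along a simple bond.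
-/

set_option autoImplicit false
set_option linter.unusedSectionVars false

namespace Cfsg.Agent.H885.Wf

open Cfsg Cfsg.Agent.Tits.Core Cfsg.Agent.Tits.Core.Bldg Cfsg.Agent.Tits Cfsg.Agent.Tits.Exchange
open CoxeterSystem Cfsg.Agent.FixBN Cfsg.Agent.UGT.U2.FOne Cfsg.Agent.H533.Wf

section Moved

variable {I : Type*} {M : CoxeterMatrix I} {W : Type*} [Group W] {cs : CoxeterSystem M W} {C : Type*}
  {Δ : Bldg cs C} [F : OppRes.Cox cs]

local prefix:100 "ℓ" => cs.length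

/-- Uniqueness of the second last chamber. -/
theorem eq_of_last {x y y' z : C} {v : W} {i : I} (hl : ℓ (v * cs.simple i) = ℓ v + 1)
    (h1 : Δ.δ x y = v) (h2 : Δ.δ y z = cs.simple i) (h1' : Δ.δ x y' = v) (h2' : Δ.δ y' z = cs.simple i) : y = y' := by
  refine Δ.between_unique (v := v) (w := cs.simple i) ?_ h1 h2 h1' h2'
  rw [cs.length_simple]
  exact hl

/-- **The type of a moved chamber can be changed along a simple bond.** -/
theorem exists_moved {θ : C → C} (hθ : ∀ a b, Δ.δ (θ a) (θ b) = Δ.δ a b) {i j : I} (hij : i ≠ j) (hM : M i j = 3)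
    {x y : C} (hx : θ x = x) (hxy : Δ.δ x y = cs.simple j) (hy : θ y ≠ y) :
    ∃ z w, θ z = z ∧ Δ.δ z w = cs.simple i ∧ θ w ≠ w := by
  by_contra hcon
  push Not at hcon
  have hji : j ≠ i := hij.symm
  have hM' : M j i = 3 := by rw [M.symmetric]; exact hM
  have l2 : ∀ {a b : I}, a ≠ b → ℓ (cs.simple a * cs.simple b) = 2 := fun h => H969.Rot.length_two cs h
  have l3 : ℓ (cs.simple i * cs.simple j * cs.simple i) = 3 := H969.Rot.length_three cs hij hM
  have l3' : ℓ (cs.simple j * cs.simple i * cs.simple j) = 3 := H969.Rot.length_three cs hji hM'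
  have ls : ∀ a : I, ℓ (cs.simple a) = 1 := cs.length_simple
  have hbr : cs.simple i * cs.simple j * cs.simple i = cs.simple j * cs.simple i * cs.simple j := by
    have h1 := cs.simple_mul_simple_pow i j
    rw [hM] at h1
    have h2 : cs.simple i * cs.simple j * cs.simple i * (cs.simple j * cs.simple i * cs.simple j) = 1 := by
      rw [← h1, pow_succ, pow_two]; simp only [mul_assoc]
    have h3 := mul_eq_one_iff_eq_inv.1 h2
    rw [h3, mul_inv_rev, mul_inv_rev, cs.inv_simple, cs.inv_simple, mul_assoc]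
  -- `y = (p₀, m)`, `θ y`
  have hxθy : Δ.δ x (θ y) = cs.simple j := by rw [← hxy, ← hθ x y, hx]
  have hyθy : Δ.δ y (θ y) = cs.simple j := by
    rcases Δ.step_left (z := θ y) (Δ.δ_symm_simple hxy) with h1 | h1
    · exfalso
      rw [hxθy, cs.simple_mul_simple_self] at h1
      exact hy (Δ.eq_of_δ_eq_one h1).symm
    · rw [h1, hxθy]
  -- `y' = (a, m)`
  obtain ⟨y', hyy'⟩ := Δ.exists_δ y (cs.simple i)
  have hθyy' : Δ.δ (θ y) (θ y') = cs.simple i := by rw [hθ, hyy']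
  have h1 : Δ.δ y' (θ y) = cs.simple i * cs.simple j :=
    Δ.δ_mul_of (Δ.δ_symm_simple hyy') hyθy (by rw [l2 hij, ls, ls])
  have h2 : Δ.δ y' (θ y') = cs.simple i * cs.simple j * cs.simple i :=
    Δ.δ_mul_of h1 hθyy' (by rw [l3, l2 hij, ls])
  -- `u = (a, n)`, `v = (θ a, n)`
  obtain ⟨u, hu1, hu2⟩ : ∃ u, Δ.δ y' u = cs.simple j ∧ Δ.δ u (θ y') = cs.simple i * cs.simple j := by
    have h3 : ℓ (cs.simple j * Δ.δ y' (θ y')) < ℓ (Δ.δ y' (θ y')) := by
      rw [h2, l3, hbr, mul_assoc, cs.simple_mul_simple_cancel_left, l2 hij]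
      norm_num
    obtain ⟨u, hu1, hu2⟩ := exists_first Δ h3
    refine ⟨u, hu1, ?_⟩
    rw [hu2, h2, hbr, mul_assoc, cs.simple_mul_simple_cancel_left]
  obtain ⟨v, hv1, hv2⟩ : ∃ v, Δ.δ u v = cs.simple i ∧ Δ.δ v (θ y') = cs.simple j := by
    have h3 : ℓ (cs.simple i * Δ.δ u (θ y')) < ℓ (Δ.δ u (θ y')) := by
      rw [hu2, cs.simple_mul_simple_cancel_left, l2 hij, ls]
      norm_num
    obtain ⟨v, hv1, hv2⟩ := exists_first Δ h3
    refine ⟨v, hv1, ?_⟩
    rw [hv2, hu2, cs.simple_mul_simple_cancel_left]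
  -- `δ x u = w₀`
  have hxy' : Δ.δ x y' = cs.simple j * cs.simple i := Δ.δ_mul_of hxy hyy' (by rw [l2 hji, ls, ls])
  have hxu : Δ.δ x u = cs.simple j * cs.simple i * cs.simple j :=
    Δ.δ_mul_of hxy' hu1 (by rw [l3', l2 hji, ls])
  have hxv : Δ.δ x v = cs.simple j * cs.simple i * cs.simple j := by
    have h3 : Δ.δ x (θ y') = cs.simple j * cs.simple i := by rw [← hxy', ← hθ x y', hx]
    exact Δ.δ_mul_of h3 (Δ.δ_symm_simple hv2) (by rw [l3', l2 hji, ls])
  -- `x' = (z, l₀)`, `w = (z, n)`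
  obtain ⟨x', hx1, hx2⟩ : ∃ x', Δ.δ x x' = cs.simple i ∧ Δ.δ x' u = cs.simple j * cs.simple i := by
    have h3 : ℓ (cs.simple i * Δ.δ x u) < ℓ (Δ.δ x u) := by
      rw [hxu, l3', ← hbr, mul_assoc, cs.simple_mul_simple_cancel_left, l2 hji]
      norm_num
    obtain ⟨x', hx1, hx2⟩ := exists_first Δ h3
    refine ⟨x', hx1, ?_⟩
    rw [hx2, hxu, ← hbr, mul_assoc, cs.simple_mul_simple_cancel_left]
  obtain ⟨w, hw1, hw2⟩ : ∃ w, Δ.δ x' w = cs.simple j ∧ Δ.δ w u = cs.simple i := by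
    have h3 : ℓ (cs.simple j * Δ.δ x' u) < ℓ (Δ.δ x' u) := by
      rw [hx2, cs.simple_mul_simple_cancel_left, l2 hji, ls]
      norm_num
    obtain ⟨w, hw1, hw2⟩ := exists_first Δ h3
    refine ⟨w, hw1, ?_⟩
    rw [hw2, hx2, cs.simple_mul_simple_cancel_left]
  have hx'f : θ x' = x' := hcon x x' hx hx1
  -- `δ x w`
  have hxw : Δ.δ x w = cs.simple i * cs.simple j := Δ.δ_mul_of hx1 hw1 (by rw [l2 hij, ls, ls])
  have hwv : Δ.δ w v = cs.simple i := by
    rcases Δ.step w u v i hv1 with h3 | h3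
    · exfalso
      rw [hw2, cs.simple_mul_simple_self] at h3
      have h4 := Δ.eq_of_δ_eq_one h3
      rw [← h4, hxw] at hxv
      have h5 := congrArg cs.length hxv
      rw [l3', l2 hij] at h5
      omega
    · rw [h3, hw2]
  have hx'v : Δ.δ x' v = cs.simple j * cs.simple i := Δ.δ_mul_of hw1 hwv (by rw [l2 hji, ls, ls])
  -- `θ u = v`
  have hθu : θ u = v := by
    have e1 : Δ.δ x' (θ u) = cs.simple j * cs.simple i := by rw [← hx2, ← hθ x' u, hx'f]
    have e2 : Δ.δ (θ u) (θ y') = cs.simple j := by rw [hθ]; exact Δ.δ_symm_simple hu1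
    refine eq_of_last (x := x') (z := θ y') (v := cs.simple j * cs.simple i) (i := j) ?_ e1 e2 hx'v hv2
    rw [l3', l2 hji]
  -- `θ w = w`
  have hθw : θ w = w := by
    have e1 : Δ.δ x' (θ w) = cs.simple j := by rw [← hw1, ← hθ x' w, hx'f]
    have e2 : Δ.δ (θ w) v = cs.simple i := by rw [← hθu, hθ, hw2]
    exact eq_of_last (x := x') (z := v) (v := cs.simple j) (i := i) (by rw [l2 hji, ls]) e1 e2 hw1 hwv
  have h3 := hcon w u hθw hw2
  rw [hθu] at h3
  rw [h3] at hv1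
  exact Δ.ne_of_δ_simple hv1 rfl

end Moved

end Cfsg.Agent.H885.Wf
end

-- part: H885/Wf/Kill
section
/-!
# S3826: type rotating elements in the defining characteristic (2)

helper885. `Ext` : `G ≥ K` acts on the building of `K`.
* `Ext.exists_fixed` : a `p`-subgroup of `G` fixes a chamber;
* `Ext.false_of_res` : the kill for a residue;
* `Ext.false_of_rot` : `c ∈ 𝒞` moves all the types of `J`, `d ∈ 𝒟` fixes `z₀` and is not trivial on the
  residue of type `J` of `z₀`: no configuration;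
* `Ext.false_of_pan` : `c`, `d` are both not trivial on a panel of type `j` of fixed chambers: no configuration.
-/

set_option autoImplicit false
set_option linter.unusedSectionVars false

namespace Cfsg.Agent.H885.Wf

open Cfsg Cfsg.Agent.Tits.Core Cfsg.Agent.Tits.Core.Bldg Cfsg.Agent.Tits Cfsg.Agent.Tits.Exchange
open CoxeterSystem Cfsg.Agent.FixBN Cfsg.Agent.UGT.U2.FOne Cfsg.Agent.H533.Wf

universe u

section Kill

variable {I : Type*} {M : CoxeterMatrix I} {W : Type*} [Group W] {cs : CoxeterSystem M W} {C : Type*}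
  {Δ : Bldg cs C} {K : Type*} [Group K] [MulAction K C] {p : ℕ}
  {G : Type u} [Group G] [MulAction G C]

/-- The action of `G ≥ K` on the building. -/
structure Ext (S : Sys Δ K p) (inc : K →* G) (φ : G → (W ≃* W)) (σ : G → I → I) : Prop where
  thick : Δ.Thick
  smul : ∀ (k : K) (x : C), inc k • x = k • x
  trans : ∀ x y : C, ∃ k : K, k • x = y
  δ_smul : ∀ (g : G) (x y : C), Δ.δ (g • x) (g • y) = φ g (Δ.δ x y)
  φ_simple : ∀ g i, φ g (cs.simple i) = cs.simple (σ g i)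

section card

variable [Finite C] [F : OppRes.Cox cs]

/-- An invariant set of chambers containing `x` has order `≡ 1` modulo `p`. -/
theorem card_modEq (S : Sys Δ K p) [hp : Fact p.Prime] (hth : Δ.Thick) {x : C} {A : Set C} (hx : x ∈ A)
    (hA : ∀ u ∈ S.U x, ∀ a ∈ A, u • a ∈ A) : Nat.card A ≡ 1 [MOD p] := by
  let act : MulAction (S.U x) A :=
    { smul := fun u a => ⟨(u : K) • (a : C), hA u u.2 a a.2⟩
      one_smul := fun a => Subtype.ext (one_smul K (a : C))
      mul_smul := fun u v a => Subtype.ext (mul_smul (u : K) (v : K) (a : C)) }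
  have h1 := (S.isP x).card_modEq_card_fixedPoints A
  have h2 : Nat.card (MulAction.fixedPoints (S.U x) A) = 1 := by
    rw [Nat.card_eq_one_iff_unique]
    refine ⟨⟨fun a b => ?_⟩, ⟨⟨⟨x, hx⟩, fun u => Subtype.ext (S.fix x u u.2)⟩⟩⟩
    have key : ∀ a : MulAction.fixedPoints (S.U x) A, x = ((a : A) : C) := by
      intro a
      apply eq_of_fix S hth
      intro u hu
      exact congrArg Subtype.val (a.2 ⟨u, hu⟩)
    apply Subtype.ext
    apply Subtype.ext
    rw [← key a, ← key b]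
  rw [h2] at h1
  exact h1

theorem not_dvd_card (S : Sys Δ K p) [hp : Fact p.Prime] (hth : Δ.Thick) {x : C} {A : Set C} (hx : x ∈ A)
    (hA : ∀ u ∈ S.U x, ∀ a ∈ A, u • a ∈ A) : ¬ p ∣ Nat.card A := by
  intro h
  have h1 := card_modEq S hth hx hA
  have h2 : 1 ≡ 0 [MOD p] := h1.symm.trans ((Nat.modEq_zero_iff_dvd).2 h)
  have h3 := (Nat.modEq_zero_iff_dvd).1 h2
  exact hp.out.one_lt.ne' (Nat.dvd_one.1 h3)

end card

namespace Ext

variable {S : Sys Δ K p} {inc : K →* G} {φ : G → (W ≃* W)} {σ : G → I → I} (E : Ext S inc φ σ)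

include E

theorem φ_mul [Nonempty C] (g g' : G) (w : W) : φ (g * g') w = φ g (φ g' w) := by
  obtain ⟨y, hy⟩ := Δ.exists_δ (Classical.arbitrary C) w
  rw [← hy, ← E.δ_smul, ← E.δ_smul, ← E.δ_smul, mul_smul, mul_smul]

theorem φ_inc [Nonempty C] (k : K) (w : W) : φ (inc k) w = w := by
  obtain ⟨y, hy⟩ := Δ.exists_δ (Classical.arbitrary C) w
  rw [← hy, ← E.δ_smul, E.smul, E.smul, S.iso]

variable [Finite C] [F : OppRes.Cox cs]

theorem σ_injective (g : G) : Function.Injective (σ g) := by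
  intro i j hij
  apply F.inj
  apply (φ g).injective
  rw [E.φ_simple, E.φ_simple, hij]

/-- **A `p`-subgroup fixes a chamber.** -/
theorem exists_fixed [Nonempty C] [hp : Fact p.Prime] {V : Subgroup G} (hV : IsPGroup p V) :
    ∃ x : C, ∀ v ∈ V, v • x = x := by
  have h1 : ¬ p ∣ Nat.card C := by
    have h2 := not_dvd_card S E.thick (x := Classical.arbitrary C) (A := Set.univ) (Set.mem_univ _)
      (fun _ _ _ _ => Set.mem_univ _)
    rwa [Nat.card_congr (Equiv.Set.univ C)] at h2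
  obtain ⟨x, hx⟩ := hV.nonempty_fixed_point_of_prime_not_dvd_card C h1
  exact ⟨x, fun v hv => hx ⟨v, hv⟩⟩

theorem exists_fixed_one [Nonempty C] [hp : Fact p.Prime] {c : G} (hc : orderOf c = p) :
    ∃ x : C, c • x = x := by
  have hz : IsPGroup p (Subgroup.zpowers c) := by
    refine IsPGroup.of_card (n := 1) ?_
    rw [Nat.card_zpowers, pow_one, hc]
  obtain ⟨x, hx⟩ := E.exists_fixed hz
  exact ⟨x, hx c (Subgroup.mem_zpowers c)⟩

/-- the mover on pairs of chambers -/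
theorem exists_pair {x y a b : C} (h : Δ.δ x y = Δ.δ a b) : ∃ k : K, k • x = a ∧ k • y = b := by
  obtain ⟨k, hk⟩ := E.trans x a
  have h1 : Δ.δ a (k • y) = Δ.δ a b := by rw [← h, ← hk, S.iso]
  obtain ⟨u, hu, hub⟩ := S.exists_move h1
  refine ⟨u * k, ?_, ?_⟩
  · rw [mul_smul, hk, S.fix a u hu]
  · rw [mul_smul, hub]

end Ext

/-- The stabiliser of a residue. -/
def RS (Δ : Bldg cs C) (G : Type u) [Group G] [MulAction G C] (J : Set I)
    (hJ : ∀ (g : G) (a b : C), Δ.δ a b ∈ WJ cs J → Δ.δ (g • a) (g • b) ∈ WJ cs J) (x₀ : C) : Subgroup G where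
  carrier := {g | g • x₀ ∈ Δ.Res J x₀}
  one_mem' := by
    change (1 : G) • x₀ ∈ Δ.Res J x₀
    rw [one_smul]
    exact Δ.self_mem_Res J x₀
  mul_mem' := by
    intro g g' hg hg'
    change (g * g') • x₀ ∈ Δ.Res J x₀
    rw [mul_smul]
    exact Δ.mem_Res_trans hg (hJ g _ _ hg')
  inv_mem' := by
    intro g hg
    have h1 := hJ g⁻¹ _ _ hg
    rw [inv_smul_smul] at h1
    exact Δ.mem_Res_symm h1

/-- its action on the residue -/
@[reducible]
def RSact (Δ : Bldg cs C) (G : Type u) [Group G] [MulAction G C] (J : Set I)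
    (hJ : ∀ (g : G) (a b : C), Δ.δ a b ∈ WJ cs J → Δ.δ (g • a) (g • b) ∈ WJ cs J) (x₀ : C) :
    MulAction (RS Δ G J hJ x₀) (Δ.Res J x₀) where
  smul g a := ⟨(g : G) • (a : C), Δ.mem_Res_trans g.2 (hJ g _ _ a.2)⟩
  one_smul a := Subtype.ext (one_smul G (a : C))
  mul_smul g h a := Subtype.ext (mul_smul (g : G) (h : G) (a : C))

namespace Ext

variable {S : Sys Δ K p} {inc : K →* G} {φ : G → (W ≃* W)} {σ : G → I → I} (E : Ext S inc φ σ)
  [Finite C] [F : OppRes.Cox cs]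

include E

/-- **The kill for a residue**: every pair of chambers of the residue is related by a chain of pairs `(n a, a)`, up to the
action of `K`. -/
theorem false_of_res [Finite G] [hp : Fact p.Prime] {Ssub : Subgroup G} {𝒞 𝒟 : Set G} (h : Cfg p Ssub 𝒞 𝒟) {J : Set I}
    (hJ : ∀ (g : G) (a b : C), Δ.δ a b ∈ WJ cs J → Δ.δ (g • a) (g • b) ∈ WJ cs J) {o : I} (ho : o ∉ J)
    {x₀ z₀ : C} {c d : G} (hc : c ∈ 𝒞) (hd : d ∈ 𝒟) (hcx : c • x₀ = x₀) (hdz : d • z₀ = z₀)
    (hmv : ∃ a ∈ Δ.Res J z₀, d • a ≠ a)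
    (hrel : ∀ R : C → C → Prop, (∀ a, R a a) → (∀ a b, R a b → R b a) → (∀ a b e, R a b → R b e → R a e) →
      (∀ z ∈ Δ.Res J x₀, ∀ a ∈ Δ.Res J x₀, ∀ b, Δ.δ a b = Δ.δ z (c • z) → R a b) →
      ∀ a ∈ Δ.Res J x₀, ∀ b ∈ Δ.Res J x₀, R a b) : False := by
  have hne : Nonempty C := ⟨x₀⟩
  -- `d` fixes `x₀`
  obtain ⟨k₁, hk₁⟩ := E.trans z₀ x₀
  have hd1 : inc k₁ * d * (inc k₁)⁻¹ ∈ 𝒟 := h.conjD _ d hd
  have hdx : (inc k₁ * d * (inc k₁)⁻¹) • x₀ = x₀ := by
    rw [mul_smul, mul_smul, inv_smul_eq_iff.2 (show x₀ = inc k₁ • z₀ by rw [E.smul, hk₁]), hdz, E.smul, hk₁]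
  have hmv' : ∃ a ∈ Δ.Res J x₀, (inc k₁ * d * (inc k₁)⁻¹) • a ≠ a := by
    obtain ⟨a, ha, hne⟩ := hmv
    refine ⟨inc k₁ • a, ?_, ?_⟩
    · have h1 := hJ (inc k₁) _ _ ha
      rwa [E.smul k₁ z₀, hk₁] at h1
    · rw [mul_smul, mul_smul, inv_smul_smul]
      intro h1
      exact hne (MulAction.injective _ h1)
  have hmem : ∀ k : K, k • x₀ ∈ Δ.Res J x₀ → inc k ∈ RS Δ G J hJ x₀ := by
    intro k hk
    change inc k • x₀ ∈ Δ.Res J x₀
    rwa [E.smul]
  have htr : ∀ a ∈ Δ.Res J x₀, ∀ b ∈ Δ.Res J x₀, ∀ k : K, k • a = b → inc k ∈ RS Δ G J hJ x₀ := by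
    intro a ha b hb k hk
    apply hmem
    have h1 := hJ (inc k) _ _ (Δ.mem_Res_symm ha)
    rw [E.smul, E.smul, hk] at h1
    exact Δ.mem_Res_trans hb h1
  let act := RSact Δ G J hJ x₀
  have hpre : MulAction.IsPretransitive (RS Δ G J hJ x₀) (Δ.Res J x₀) := by
    refine ⟨fun a b => ?_⟩
    obtain ⟨k, hk⟩ := E.trans (a : C) b
    refine ⟨⟨inc k, htr _ a.2 _ b.2 k hk⟩, Subtype.ext ?_⟩
    change inc k • (a : C) = b
    rw [E.smul, hk]
  have hΩ : ¬ p ∣ Nat.card (Δ.Res J x₀) := by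
    refine not_dvd_card S E.thick (x := x₀) (Δ.self_mem_Res J x₀) fun u hu a ha => ?_
    have h1 := hJ (inc u) _ _ ha
    rw [E.smul, E.smul, S.fix x₀ u hu] at h1
    exact h1
  have hH : RS Δ G J hJ x₀ ≠ ⊤ := by
    intro htop
    obtain ⟨y, hy⟩ := Δ.exists_δ x₀ (cs.simple o)
    obtain ⟨k, hk⟩ := E.trans x₀ y
    have h1 : inc k ∈ RS Δ G J hJ x₀ := by rw [htop]; exact Subgroup.mem_top _
    have h2 : inc k • x₀ ∈ Δ.Res J x₀ := h1
    rw [E.smul, hk, mem_Res, hy] at h2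
    exact ho (Cox.mem_of_simple_mem h2)
  have hcH : c ∈ RS Δ G J hJ x₀ := by
    change c • x₀ ∈ Δ.Res J x₀
    rw [hcx]
    exact Δ.self_mem_Res J x₀
  have hdH : inc k₁ * d * (inc k₁)⁻¹ ∈ RS Δ G J hJ x₀ := by
    change (inc k₁ * d * (inc k₁)⁻¹) • x₀ ∈ Δ.Res J x₀
    rw [hdx]
    exact Δ.self_mem_Res J x₀
  refine h.false_of_local_set (Ω := Δ.Res J x₀) hH hΩ (c := ⟨c, hcH⟩) (d := ⟨_, hdH⟩) hc hd1 ?_ ?_
  · -- transitivity of `⟨c ^ H⟩`
    set N := Subgroup.normalClosure ({⟨c, hcH⟩} : Set (RS Δ G J hJ x₀)) with hN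
    have hcN : (⟨c, hcH⟩ : RS Δ G J hJ x₀) ∈ N := Subgroup.subset_normalClosure rfl
    have key := hrel (fun a b => ∃ g ∈ N, (g : G) • a = b) (fun a => ⟨1, one_mem _, one_smul G a⟩)
      (fun a b => by
        rintro ⟨g, hg, rfl⟩
        exact ⟨g⁻¹, inv_mem hg, inv_smul_smul (g : G) a⟩)
      (fun a b e => by
        rintro ⟨g, hg, rfl⟩ ⟨g', hg', rfl⟩
        exact ⟨g' * g, mul_mem hg' hg, mul_smul (g' : G) (g : G) a⟩)
      (by
        intro z hz a ha b hab
        obtain ⟨k, hk1, hk2⟩ := E.exists_pair hab.symm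
        refine ⟨⟨inc k, htr _ hz _ ha k hk1⟩ * ⟨c, hcH⟩ * ⟨inc k, htr _ hz _ ha k hk1⟩⁻¹,
          Subgroup.normalClosure_normal.conj_mem _ hcN _, ?_⟩
        change (inc k * c * (inc k)⁻¹) • a = b
        rw [← hk1, ← E.smul k z, mul_smul, mul_smul, inv_smul_smul, E.smul, hk2])
    intro a b
    obtain ⟨g, hg, hgab⟩ := key a a.2 b b.2
    exact ⟨g, hg, Subtype.ext hgab⟩
  · obtain ⟨a, ha, hne⟩ := hmv'
    exact ⟨⟨a, ha⟩, fun h1 => hne (congrArg Subtype.val h1)⟩

/-- **The kill for elements moving all the types of `J`.** -/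
theorem false_of_rot [Finite G] [hp : Fact p.Prime] {Ssub : Subgroup G} {𝒞 𝒟 : Set G} (h : Cfg p Ssub 𝒞 𝒟) {J : Set I}
    (hJ : ∀ (g : G), ∀ i ∈ J, σ g i ∈ J) {o : I} (ho : o ∉ J)
    {z₀ : C} {c d : G} (hc : c ∈ 𝒞) (hd : d ∈ 𝒟) (hdz : d • z₀ = z₀)
    (hmv : ∃ a ∈ Δ.Res J z₀, d • a ≠ a) (hrot : ∀ i ∈ J, σ c i ≠ i) : False := by
  have hne : Nonempty C := ⟨z₀⟩
  obtain ⟨x₀, hcx⟩ := E.exists_fixed_one (h.ordC c hc)
  have hWJ : ∀ (g : G), ∀ w ∈ WJ cs J, φ g w ∈ WJ cs J := by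
    intro g w hw
    unfold WJ at hw
    induction hw using Subgroup.closure_induction with
    | mem x hx =>
      obtain ⟨i, hi, rfl⟩ := hx
      rw [E.φ_simple]
      exact simple_mem_WJ cs (hJ g i hi)
    | one => rw [map_one]; exact one_mem _
    | mul x y _ _ hx hy => rw [map_mul]; exact mul_mem hx hy
    | inv x _ hx => rw [map_inv]; exact inv_mem hx
  refine E.false_of_res h (J := J) (fun g a b hab => by rw [E.δ_smul]; exact hWJ g _ hab) ho hc hd hcx hdz hmv ?_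
  intro R hr hs ht h0
  have l2 : ∀ {a b : I}, a ≠ b → cs.length (cs.simple a * cs.simple b) = 2 := fun h => H969.Rot.length_two cs h
  have ls : ∀ a : I, cs.length (cs.simple a) = 1 := cs.length_simple
  have hstep : ∀ {a b : C} {i : I}, i ∈ J → a ∈ Δ.Res J x₀ → Δ.δ a b = cs.simple i → b ∈ Δ.Res J x₀ := by
    intro a b i hi ha hab
    exact Δ.mem_Res_trans ha (by rw [mem_Res, hab]; exact simple_mem_WJ cs hi)
  -- (A)
  have hA : ∀ i ∈ J, ∀ a ∈ Δ.Res J x₀, ∀ b, Δ.δ a b = cs.simple i * cs.simple (σ c i) → R a b := by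
    intro i hi a ha b hab
    obtain ⟨z, hz⟩ := Δ.exists_δ x₀ (cs.simple i)
    have h1 : Δ.δ x₀ (c • z) = cs.simple (σ c i) := by
      rw [← E.φ_simple, ← hz, ← E.δ_smul, hcx]
    have h2 : Δ.δ z (c • z) = cs.simple i * cs.simple (σ c i) :=
      Δ.δ_mul_of (Δ.δ_symm_simple hz) h1 (by rw [l2 (hrot i hi).symm, ls, ls])
    exact h0 z (hstep hi (Δ.self_mem_Res J x₀) hz) a ha b (hab.trans h2.symm)
  -- (B)
  have hB : ∀ i ∈ J, ∀ a ∈ Δ.Res J x₀, ∀ b, Δ.δ a b = cs.simple i → R a b := by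
    intro i hi a ha b hab
    obtain ⟨a', haa', ha'b⟩ : ∃ a', Δ.δ a a' = cs.simple i ∧ a' ≠ b := by
      obtain ⟨y, z, hyz, hy, hz⟩ := E.thick a i
      by_cases h1 : y = b
      · exact ⟨z, hz, fun h2 => hyz (h1.trans h2.symm)⟩
      · exact ⟨y, hy, h1⟩
    have hba' : Δ.δ b a' = cs.simple i := by
      rcases Δ.step_left (z := a') (Δ.δ_symm_simple hab) with h1 | h1
      · exfalso
        rw [haa', cs.simple_mul_simple_self] at h1
        exact ha'b (Δ.eq_of_δ_eq_one h1).symm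
      · rw [h1, haa']
    obtain ⟨u, hu⟩ := Δ.exists_δ a' (cs.simple (σ c i))
    have h1 : Δ.δ a u = cs.simple i * cs.simple (σ c i) :=
      Δ.δ_mul_of haa' hu (by rw [l2 (hrot i hi).symm, ls, ls])
    have h2 : Δ.δ b u = cs.simple i * cs.simple (σ c i) :=
      Δ.δ_mul_of hba' hu (by rw [l2 (hrot i hi).symm, ls, ls])
    exact ht _ _ _ (hA i hi a ha u h1) (hs _ _ (hA i hi b (hstep hi ha hab) u h2))
  -- (C)
  have hC : ∀ ω : List I, (∀ i ∈ ω, i ∈ J) → ∀ a ∈ Δ.Res J x₀, ∀ b, Δ.δ a b = cs.wordProd ω → R a b := by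
    intro ω
    induction ω using List.reverseRecOn with
    | nil =>
      intro _ a _ b hab
      rw [cs.wordProd_nil] at hab
      rw [Δ.eq_of_δ_eq_one hab]
      exact hr b
    | append_singleton ω i ih =>
      intro hω a ha b hab
      obtain ⟨z, hz1, hz2⟩ := Δ.exists_step a b i
      rw [hab, cs.wordProd_append, cs.wordProd_singleton, mul_assoc, cs.simple_mul_simple_self, mul_one] at hz2
      have hi : i ∈ J := hω i (by simp)
      have h1 := ih (fun j hj => hω j (by simp [hj])) a ha z hz2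
      have hz : z ∈ Δ.Res J x₀ :=
        Δ.mem_Res_trans ha (by rw [mem_Res, hz2]; exact wordProd_mem_WJ cs fun j hj => hω j (by simp [hj]))
      exact ht _ _ _ h1 (hB i hi z hz b (Δ.δ_symm_simple hz1))
  intro a ha b hb
  have h1 : Δ.δ a b ∈ WJ cs J := Δ.δ_mem_of_mem_Res ha hb
  obtain ⟨ω, hω, h2⟩ := exists_word_of_mem_WJ cs h1
  exact hC ω hω a ha b h2.symm

/-- **The kill for a panel.** -/
theorem false_of_pan [Finite G] [hp : Fact p.Prime] {Ssub : Subgroup G} {𝒞 𝒟 : Set G} (h : Cfg p Ssub 𝒞 𝒟) {o i : I}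
    (hσ : ∀ g : G, σ g o = o) (hi : i ≠ o) {x₀ y₀ z₀ u₀ : C} {c d : G} (hc : c ∈ 𝒞) (hd : d ∈ 𝒟) (hcx : c • x₀ = x₀)
    (hxy : Δ.δ x₀ y₀ = cs.simple o) (hcy : c • y₀ ≠ y₀) (hdz : d • z₀ = z₀) (hzu : Δ.δ z₀ u₀ = cs.simple o)
    (hdu : d • u₀ ≠ u₀) : False := by
  have hne : Nonempty C := ⟨z₀⟩
  have hW : ∀ w ∈ WJ cs {o}, w = 1 ∨ w = cs.simple o := by
    intro w hw
    unfold WJ at hw
    rw [Set.image_singleton] at hw
    induction hw using Subgroup.closure_induction with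
    | mem x hx => exact Or.inr hx
    | one => exact Or.inl rfl
    | mul x y _ _ hx hy =>
      rcases hx with rfl | rfl <;> rcases hy with rfl | rfl <;> simp
    | inv x _ hx => rcases hx with rfl | rfl <;> simp
  have hWJ : ∀ (g : G), ∀ w ∈ WJ cs {o}, φ g w ∈ WJ cs {o} := by
    intro g w hw
    rcases hW w hw with rfl | rfl
    · rw [map_one]; exact one_mem _
    · rw [E.φ_simple, hσ]
      exact simple_mem_WJ cs (Set.mem_singleton o)
  have hso : cs.simple o ∈ WJ cs {o} := simple_mem_WJ cs (Set.mem_singleton o)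
  refine E.false_of_res h (J := {o}) (o := i) (fun g a b hab => by rw [E.δ_smul]; exact hWJ g _ hab) hi
    hc hd hcx hdz ⟨u₀, by rw [mem_Res, hzu]; exact hso, hdu⟩ ?_
  intro R hr hs ht h0 a ha b hb
  have h1 : Δ.δ x₀ (c • y₀) = cs.simple o := by rw [← hσ c, ← E.φ_simple, ← hxy, ← E.δ_smul, hcx]
  have h2 : Δ.δ y₀ (c • y₀) = cs.simple o := by
    rcases Δ.step_left (z := c • y₀) (Δ.δ_symm_simple hxy) with h3 | h3
    · exfalso
      rw [h1, cs.simple_mul_simple_self] at h3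
      exact hcy (Δ.eq_of_δ_eq_one h3).symm
    · rw [h3, h1]
  rcases hW _ (Δ.δ_mem_of_mem_Res ha hb) with h3 | h3
  · rw [Δ.eq_of_δ_eq_one h3]
    exact hr b
  · exact h0 y₀ (by rw [mem_Res, hxy]; exact hso) a ha b (h3.trans h2.symm)

end Ext

end Kill

end Cfsg.Agent.H885.Wf
end

-- part: H885/Dsp/Bld
section
/-!
# Maximal displacement: projections of the panels

helper885 (S2484). `x` a chamber with maximal displacement `w = δ(x, θ x)`, `s₀` a descent of `w`, `a` the projection of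
`θ x` on the `0`-panel of `x`, `b` the projection of `x` on the `0`-panel of `θ x`.

* `proj_eq` : `θ a = b`, if `w` has suitable neighbours `i`, `j` of the node `0`;
* `res_step` : for an ascent `j` of `w` commuting with `w` the `j`-panel of `x` is mapped by `θ` as by the projection.
-/

set_option autoImplicit false
set_option linter.unusedSectionVars false

namespace Cfsg.Agent.H885.Dsp

open Cfsg.Agent.Tits.Core Cfsg.Agent.Tits.Core.Bldg Cfsg.Agent.Tits.Exchange Cfsg.Agent.Tits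
open Cfsg.Agent.FixBN Cfsg.Agent.FixBN.Cox Cfsg.Agent.UGT.U2.FOne Cfsg.Agent.H523.Dsp

variable {I : Type*} {M : CoxeterMatrix I} {W : Type*} [Group W] {cs : CoxeterSystem M W} {C : Type*}
  {Δ : Bldg cs C}

local prefix:100 "ℓ" => cs.length

variable {θ : C → C}

end Cfsg.Agent.H885.Dsp
end

-- part: H885/Dsp/Apt
section
/-!
# The standard apartment of a root group datum and the automorphisms

helper885 (S2484). `R` a root group datum, `cs'` the Coxeter system of its (B, N)-pair, `ch g` the chamber `g B`.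

* `rgd_cs` : the root group datum with another Coxeter system;
* `δ_ch` : the Weyl distance of two chambers `a B`, `b B` with `a⁻¹ b ∈ N`;
* `fix_rg` : a type preserving automorphism fixing `B` and `g₀ B` maps every root group `X (sr o)` to itself;
* `map_conj` : if the type preserving automorphism `τ` maps `g B` to `h B` and `D` is a nontrivial element of a root group of order
  two, centralised by `B`, then `τ (g D g⁻¹) = h D h⁻¹`.
-/

set_option autoImplicit false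
set_option linter.unusedSectionVars false

namespace Cfsg.Agent.H885.Dsp

open CoxeterSystem Cfsg.Agent.ChevalleyStructure.CoxeterGeom Cfsg.Agent.Tits.Roots Cfsg.Agent.Tits.Core
  Cfsg.Agent.Tits.RootComb Cfsg.Agent.Nodes.Comb Cfsg.Agent.Nodes.Reps Cfsg.Agent.Nodes.BNOf Cfsg.Agent.Nodes.BNOf.RGD
  Cfsg.Agent.FixBN Cfsg.Agent.Tits.OfBN Cfsg.Agent.Tits.OppRes Cfsg.Agent.LieExceptional.BNPairCore
  Cfsg.Agent.OddHalf.Table.AutBldg Cfsg.Agent.OddHalf.Table.AutRGD Cfsg.Agent.OddHalf.Table.AutNorm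
  Cfsg.Agent.Tits.Core.Bldg Cfsg.Agent.UGT.U2.FOne Cfsg.Agent.Schreier.BNSch

section Change

variable {I : Type*} [Fintype I] [DecidableEq I] {M : CoxeterMatrix I} {W W' : Type*} [Group W] [Group W']
  (cs : CoxeterSystem M W) (cs' : CoxeterSystem M W') {A : I → I → ℤ} (h : IsCartan M A)

variable {cs h} {Y : Type*} [Group Y] {p : ℕ} {T : Subgroup Y} {n : I → Y} {X : (I → ℤ) → Subgroup Y}

end Change

variable {I W Y : Type*} [Fintype I] [DecidableEq I] [Group W] [Group Y] {M : CoxeterMatrix I}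
  {cs : CoxeterSystem M W} {A : I → I → ℤ} {h : IsCartan M A} {p : ℕ} {T : Subgroup Y} {n : I → Y}
  {X : (I → ℤ) → Subgroup Y} [Finite W]

variable (R : RGD cs h p T n X) (hgen : B cs h T X ⊔ NN cs R.nsys = ⊤)
  [hN : (((R.bnPair hgen).B ⊓ (R.bnPair hgen).N).subgroupOf (R.bnPair hgen).N).Normal]
  (cs' : CoxeterSystem M (WP (R.bnPair hgen)))
  (hcs : ∀ i, cs'.simple i = QuotientGroup.mk
    (⟨(eS R hgen i : Y), (R.bnPair hgen).subset (eS R hgen i).2⟩ : (R.bnPair hgen).N))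

/-- The generator `n i` in `N`. -/
def nn (i : I) : (R.bnPair hgen).N := ⟨n i, (R.bnPair hgen).subset ⟨i, rfl⟩⟩

section Auto

variable [Finite Y] [Fact p.Prime] (S : Split (R.bnPair hgen) p (Sup X (Pos cs h)))

include S

variable {R hgen cs' hcs}

end Auto

end Cfsg.Agent.H885.Dsp
end

-- part: H885/Dsp/Rel
section
/-!
# The relations of `SL₃(2)` and an automorphism of order three

helper885 (S2484). Pure group theory: the last step of the exclusion of the polar node.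
-/

set_option autoImplicit false

namespace Cfsg.Agent.H885.Dsp

end Cfsg.Agent.H885.Dsp
end

-- part: H885/Dsp/PRoot
section
/-!
# The polar node: the element `w_J w₀`, `J` the complement of the polar node

helper885 (S2484).
-/

set_option autoImplicit false
set_option linter.unusedSectionVars false

namespace Cfsg.Agent.H885.Dsp

open CoxeterSystem Cfsg.Agent.ChevalleyStructure.CoxeterGeom Cfsg.Agent.Tits.Roots Cfsg.Agent.Tits.Core
  Cfsg.Agent.Tits.RootComb Cfsg.Agent.Tits.OppRes Cfsg.Agent.Nodes.Reps Cfsg.Agent.Nodes.BNOf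

/-- The data of the polar node `o`: the highest root `ρ`, two further nodes `i`, `j`. -/
structure Polar {I : Type*} [Fintype I] [DecidableEq I] (M : CoxeterMatrix I) (A : I → I → ℤ) (o i j : I) (ρ : I → ℤ) :
    Prop where
  nonneg : 0 ≤ ρ
  perp : ∀ k, k ≠ o → pairing A k ρ = 0
  one : pairing A o ρ = 1
  two : ρ o = 2
  nd : ∀ z : I → ℤ, z o = 0 → (∀ k, k ≠ o → pairing A k z = 0) → z = 0
  io : i ≠ o
  jo : j ≠ o
  ij : i ≠ j
  Aoi : A o i < 0
  Aoj : A o j = 0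
  Moj : M o j = 2
  Mij : M i j ≠ 2
  Aij : A i j ≤ 0

variable {I : Type*} [Fintype I] [DecidableEq I] {M : CoxeterMatrix I} {W : Type*} [Group W] [Finite W]
  (cs : CoxeterSystem M W) {A : I → I → ℤ} (h : IsCartan M A) {o i j : I} {ρ : I → ℤ}

/-- The conclusions. -/
structure WPolar (w : W) (o i j : I) (ρ : I → ℤ) : Prop where
  sq : w * w = 1
  comm : ∀ k, k ≠ o → cs.simple k * w = w * cs.simple k
  fixJ : ∀ k, k ≠ o → rep cs h w (sr k) = sr k
  act_o : rep cs h w (sr o) = sr o - ρ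
  act_ρ : rep cs h w ρ = -ρ
  desc : cs.length (cs.simple o * w) < cs.length w
  h0' : cs.length (cs.simple o * w * cs.simple o) < cs.length (cs.simple o * w)
  h1 : cs.length (cs.simple i * (cs.simple o * w)) < cs.length (cs.simple o * w)
  h2 : cs.length (cs.simple o * w) < cs.length (cs.simple o * w * cs.simple i)
  h3 : cs.length (cs.simple o * w * cs.simple i) < cs.length (cs.simple o * w * cs.simple i * cs.simple j)
  h4 : cs.simple j * (cs.simple o * w * cs.simple i) ≠ cs.simple o * w * cs.simple i * cs.simple j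

end Cfsg.Agent.H885.Dsp
end

-- part: H885/Dsp/Polar
section
/-!
# The maximal displacement of an automorphism of order three is not the one of the polar node

helper885 (S2484). `R` a root group datum, `o` the polar node with `|X (sr o)| = 2`, `t` a type preserving automorphism
of order dividing three. `t` does not have the maximal displacement `w = w_J w₀ = s_ρ`, `J` the complement of `o`.
-/

set_option autoImplicit false
set_option linter.unusedSectionVars false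

namespace Cfsg.Agent.H885.Dsp

open CoxeterSystem Cfsg.Agent.ChevalleyStructure.CoxeterGeom Cfsg.Agent.Tits.Roots Cfsg.Agent.Tits.Core
  Cfsg.Agent.Tits.RootComb Cfsg.Agent.Nodes.Comb Cfsg.Agent.Nodes.Reps Cfsg.Agent.Nodes.BNOf Cfsg.Agent.Nodes.BNOf.RGD
  Cfsg.Agent.FixBN Cfsg.Agent.Tits.OfBN Cfsg.Agent.Tits.OppRes Cfsg.Agent.LieExceptional.BNPairCore
  Cfsg.Agent.OddHalf.Table.AutBldg Cfsg.Agent.OddHalf.Table.AutRGD Cfsg.Agent.OddHalf.Table.AutNorm
  Cfsg.Agent.Tits.Core.Bldg Cfsg.Agent.UGT.U2.FOne Cfsg.Agent.Schreier.BNSch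

variable {I W Y : Type*} [Fintype I] [DecidableEq I] [Group W] [Group Y] {M : CoxeterMatrix I}
  {cs : CoxeterSystem M W} {A : I → I → ℤ} {h : IsCartan M A} {p : ℕ} {T : Subgroup Y} {n : I → Y}
  {X : (I → ℤ) → Subgroup Y} [Finite W]

section Uniq

variable (R : RGD cs h p T n X) {o : I} {E : Y} (hE : E ∈ X (sr o)) (hE1 : E ≠ 1)
  (hE2 : ∀ x ∈ X (sr o), x = 1 ∨ x = E)

end Uniq

/-- The hypotheses on the root system (for the Coxeter system `cs`). -/
structure PRoots (cs : CoxeterSystem M W) (h : IsCartan M A) (o i j : I) (ρ : I → ℤ) (ωJ : List I) : Prop where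
  polar : Polar M A o i j ρ
  orb : ∃ κ : W, ρ = rep cs h κ (sr o)
  nb2 : ∀ z, Btwn cs h (ρ - sr o) (sr o) z → z = ρ
  memJ : ∀ k ∈ ωJ, k ≠ o
  actJ : rep cs h (cs.wordProd ωJ) (ρ - sr o) = sr o

variable {R : RGD cs h p T n X} {hgen : B cs h T X ⊔ NN cs R.nsys = ⊤}
  [hN : (((R.bnPair hgen).B ⊓ (R.bnPair hgen).N).subgroupOf (R.bnPair hgen).N).Normal]
  {cs' : CoxeterSystem M (WP (R.bnPair hgen))}
  {hcs : ∀ i, cs'.simple i = QuotientGroup.mk
    (⟨(eS R hgen i : Y), (R.bnPair hgen).subset (eS R hgen i).2⟩ : (R.bnPair hgen).N)}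
  [Finite Y] [Fact p.Prime] (S : Split (R.bnPair hgen) p (Sup X (Pos cs h)))

/-- The elements. -/
structure PElts (R : RGD cs h p T n X) (hgen : B cs h T X ⊔ NN cs R.nsys = ⊤)
    [hN : (((R.bnPair hgen).B ⊓ (R.bnPair hgen).N).subgroupOf (R.bnPair hgen).N).Normal]
    (cs' : CoxeterSystem M (WP (R.bnPair hgen))) (o : I) (ρ : I → ℤ) (ωJ : List I) (w : WP (R.bnPair hgen)) (E D : Y)
    (m nw gJ : (R.bnPair hgen).N) : Prop where
  E_mem : E ∈ X (sr o)
  E_ne : E ≠ 1
  E_uniq : ∀ x ∈ X (sr o), x = 1 ∨ x = E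
  m_act : rep cs' h (QuotientGroup.mk m) (sr o) = ρ
  D_eq : D = (m : Y) * E * (m : Y)⁻¹
  nw_mk : (QuotientGroup.mk nw : WP (R.bnPair hgen)) = w
  gJ_mk : (QuotientGroup.mk gJ : WP (R.bnPair hgen)) = cs'.wordProd ωJ
  gJ_eq : gJ = (ωJ.map (nn R hgen)).prod
  cB : ∀ b ∈ B cs h T X, b * D = D * b

section Facts

variable {o i j : I} {ρ : I → ℤ} {ωJ : List I} {w : WP (R.bnPair hgen)} {E D : Y} {m nw gJ : (R.bnPair hgen).N}
  (hP : PRoots cs' h o i j ρ ωJ) (hw : WPolar cs' h w o i j ρ) (hE : PElts R hgen cs' o ρ ωJ w E D m nw gJ)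

variable (t : Mv (Bl R hgen cs' hcs) Y) (hφ : ∀ v, t.φ v = v)
  (hmax : ∀ y, cs'.length ((Bl R hgen cs' hcs).δ y (t.θ y)) ≤ cs'.length w)

end Facts

end Cfsg.Agent.H885.Dsp
end

-- part: H885/Dsp/PolarEnd
section
/-!
# The maximal displacement of an automorphism of order three is not the one of the polar node (end)

helper885 (S2484). `polar_false` : the contradiction, for `t.θ (B) = n_w B`.
-/

set_option autoImplicit false
set_option linter.unusedSectionVars false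

namespace Cfsg.Agent.H885.Dsp

open CoxeterSystem Cfsg.Agent.ChevalleyStructure.CoxeterGeom Cfsg.Agent.Tits.Roots Cfsg.Agent.Tits.Core
  Cfsg.Agent.Tits.RootComb Cfsg.Agent.Nodes.Comb Cfsg.Agent.Nodes.Reps Cfsg.Agent.Nodes.BNOf Cfsg.Agent.Nodes.BNOf.RGD
  Cfsg.Agent.FixBN Cfsg.Agent.Tits.OfBN Cfsg.Agent.Tits.OppRes Cfsg.Agent.LieExceptional.BNPairCore
  Cfsg.Agent.OddHalf.Table.AutBldg Cfsg.Agent.OddHalf.Table.AutRGD Cfsg.Agent.OddHalf.Table.AutNorm
  Cfsg.Agent.Tits.Core.Bldg Cfsg.Agent.UGT.U2.FOne Cfsg.Agent.Schreier.BNSch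
  Cfsg.Agent.OddHalf.NI.FTwo.IdentRgd

/-- The elements of the relations. -/
structure Rels {Y : Type*} [Group Y] (no nw gJ D A A' C C' D' : Y) : Prop where
  a2 : A' * A' = 1
  c2 : C * C = 1
  d2' : D' * D' = 1
  r1 : A' * C = C * A'
  r2 : C * A * C = A * D
  r3 : A' * D * A' = D * C
  r4 : A' * C' * A' = C' * D'
  r5 : C * D' * C = D' * A'
  r6 : A' * A * A' = A * A' * A
  r7 : C * C' * C = C' * C * C'
  r8 : D' * C' = C' * D'
  r9 : D' * A' = A' * D'
  wA' : nw⁻¹ * A' * nw = C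
  wC : nw⁻¹ * C * nw = A'
  oA' : no⁻¹ * A' * no = A

variable {I W Y : Type*} [Fintype I] [DecidableEq I] [Group W] [Group Y] {M : CoxeterMatrix I}
  {cs : CoxeterSystem M W} {A : I → I → ℤ} {h : IsCartan M A} {p : ℕ} {T : Subgroup Y} {n : I → Y}
  {X : (I → ℤ) → Subgroup Y} [Finite W]

variable {R : RGD cs h p T n X} {hgen : B cs h T X ⊔ NN cs R.nsys = ⊤}
  [hN : (((R.bnPair hgen).B ⊓ (R.bnPair hgen).N).subgroupOf (R.bnPair hgen).N).Normal]
  {cs' : CoxeterSystem M (WP (R.bnPair hgen))}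
  {hcs : ∀ i, cs'.simple i = QuotientGroup.mk
    (⟨(eS R hgen i : Y), (R.bnPair hgen).subset (eS R hgen i).2⟩ : (R.bnPair hgen).N)}

open scoped commutatorElement

variable [Finite Y] [Fact p.Prime]

variable {o i j : I} {ρ : I → ℤ} {ωJ : List I} {w : WP (R.bnPair hgen)} {E D : Y} {m nw gJ : (R.bnPair hgen).N}
  (hP : PRoots cs' h o i j ρ ωJ) (hw : WPolar cs' h w o i j ρ) (hE : PElts R hgen cs' o ρ ωJ w E D m nw gJ)

section Final

variable (S : Split (R.bnPair hgen) p (Sup X (Pos cs h))) (t : Mv (Bl R hgen cs' hcs) Y) (hφ : ∀ v, t.φ v = v)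
  (hmax : ∀ y, cs'.length ((Bl R hgen cs' hcs).δ y (t.θ y)) ≤ cs'.length w)

end Final

end Cfsg.Agent.H885.Dsp
end

-- part: H885/Dsp/NoPolar
section
/-!
# The maximal displacement of an automorphism of order three is not the one of the polar node (wrapper)

helper885 (S2484).
* `to_base` : conjugate an automorphism such that `x = B` and `θ x = n_w B`;
* `no_polar`.
-/

set_option autoImplicit false
set_option linter.unusedSectionVars false

namespace Cfsg.Agent.H885.Dsp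

open CoxeterSystem Cfsg.Agent.ChevalleyStructure.CoxeterGeom Cfsg.Agent.Tits.Roots Cfsg.Agent.Tits.Core
  Cfsg.Agent.Tits.RootComb Cfsg.Agent.Nodes.Comb Cfsg.Agent.Nodes.Reps Cfsg.Agent.Nodes.BNOf Cfsg.Agent.Nodes.BNOf.RGD
  Cfsg.Agent.FixBN Cfsg.Agent.Tits.OfBN Cfsg.Agent.Tits.OppRes Cfsg.Agent.LieExceptional.BNPairCore
  Cfsg.Agent.OddHalf.Table.AutBldg Cfsg.Agent.OddHalf.Table.AutRGD Cfsg.Agent.OddHalf.Table.AutNorm
  Cfsg.Agent.Tits.Core.Bldg Cfsg.Agent.UGT.U2.FOne Cfsg.Agent.Schreier.BNSch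
  Cfsg.Agent.OddHalf.NI.FTwo.IdentRgd

variable {I W Y : Type*} [Fintype I] [DecidableEq I] [Group W] [Group Y] {M : CoxeterMatrix I}
  {cs : CoxeterSystem M W} {A : I → I → ℤ} {h : IsCartan M A} {p : ℕ} {T : Subgroup Y} {n : I → Y}
  {X : (I → ℤ) → Subgroup Y} [Finite W]

variable {R : RGD cs h p T n X} {hgen : B cs h T X ⊔ NN cs R.nsys = ⊤}
  [hN : (((R.bnPair hgen).B ⊓ (R.bnPair hgen).N).subgroupOf (R.bnPair hgen).N).Normal]
  {cs' : CoxeterSystem M (WP (R.bnPair hgen))}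
  {hcs : ∀ i, cs'.simple i = QuotientGroup.mk
    (⟨(eS R hgen i : Y), (R.bnPair hgen).subset (eS R hgen i).2⟩ : (R.bnPair hgen).N)}
  [Finite Y] [Fact p.Prime]

end Cfsg.Agent.H885.Dsp
end

-- part: H885/Dsp/Idx
section
/-!
# The size of the classes of automorphisms: the data of a chamber with maximal displacement

helper885 (S2484). `exists_dat` : the chamber of maximal displacement; `of_path` : the bound by a path.
-/

set_option autoImplicit false
set_option linter.unusedSectionVars false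

namespace Cfsg.Agent.H885.Dsp

open CoxeterSystem Cfsg.Agent.ChevalleyStructure.CoxeterGeom Cfsg.Agent.Tits.Roots Cfsg.Agent.Tits.Core
  Cfsg.Agent.Tits.RootComb Cfsg.Agent.Nodes.Comb Cfsg.Agent.Nodes.Reps Cfsg.Agent.Nodes.BNOf Cfsg.Agent.Nodes.BNOf.RGD
  Cfsg.Agent.FixBN Cfsg.Agent.Tits.OfBN Cfsg.Agent.Tits.OppRes Cfsg.Agent.LieExceptional.BNPairCore
  Cfsg.Agent.OddHalf.Table.AutBldg Cfsg.Agent.OddHalf.Table.AutRGD Cfsg.Agent.OddHalf.Table.AutNorm
  Cfsg.Agent.Tits.Exchange Cfsg.Agent.H612.WModel Cfsg.Agent.H81.PJSum Cfsg.Agent.H523.Dsp Cfsg.Agent.Tits.Core.Bldg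
  Cfsg.Agent.H905.DC Cfsg.Agent.UGT.U2.FOne Cfsg.Agent.Nodes.RGDLib Cfsg.Agent.Tits Cfsg.Agent.H523.DspRgd
  Cfsg.Agent.Schreier.BNSch

universe v

variable {I W : Type*} {Y : Type v} [Fintype I] [DecidableEq I] [Group W] [Group Y] {M : CoxeterMatrix I}
  {cs : CoxeterSystem M W} {A : I → I → ℤ} {h : IsCartan M A} {p : ℕ} {T : Subgroup Y} {n : I → Y}
  {X : (I → ℤ) → Subgroup Y} [Finite W] (R : RGD cs h p T n X)

/-- **The data of a chamber with maximal displacement.** -/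
structure Dat (hgen : B cs h T X ⊔ NN cs R.nsys = ⊤)
    [hN : (((R.bnPair hgen).B ⊓ (R.bnPair hgen).N).subgroupOf (R.bnPair hgen).N).Normal]
    (cs' : CoxeterSystem M (WP (R.bnPair hgen)))
    (hcs : ∀ i, cs'.simple i = QuotientGroup.mk
      (⟨(eS R hgen i : Y), (R.bnPair hgen).subset (eS R hgen i).2⟩ : (R.bnPair hgen).N))
    (τ : MulAut Y) (t : Mv (Bl R hgen cs' hcs) Y) (x : Y ⧸ (R.bnPair hgen).B) (J : Set I)
    (w : WP (R.bnPair hgen)) : Prop where
  S : Split (R.bnPair hgen) p (Sup X (Pos cs h))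
  τ_eq : t.τ = τ
  δ_eq : (Bl R hgen cs' hcs).δ x (t.θ x) = w
  ne : J ≠ Set.univ
  e1 : wJ cs' J * w = w0 cs'
  e2 : cs'.length (wJ cs' J) + cs'.length w = cs'.length (w0 cs')
  e3 : ∀ i ∈ J, cs'.simple i * w = w * cs'.simple (t.σ i)
  e4 : ∀ i ∈ J, cs'.length w < cs'.length (cs'.simple i * w)
  e5 : ∀ i, i ∉ J → cs'.length (w * cs'.simple (t.σ i)) < cs'.length w
  max : ∀ y, cs'.length ((Bl R hgen cs' hcs).δ y (t.θ y)) ≤ cs'.length w
  M_σ : ∀ i j, M (t.σ i) (t.σ j) = M i j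
  σ_iter : ∀ n : ℕ, τ ^ n = 1 → ∀ i, t.σ^[n] i = i

variable {R} {hgen : B cs h T X ⊔ NN cs R.nsys = ⊤}
  [hN : (((R.bnPair hgen).B ⊓ (R.bnPair hgen).N).subgroupOf (R.bnPair hgen).N).Normal]
  {cs' : CoxeterSystem M (WP (R.bnPair hgen))}
  {hcs : ∀ i, cs'.simple i = QuotientGroup.mk
    (⟨(eS R hgen i : Y), (R.bnPair hgen).subset (eS R hgen i).2⟩ : (R.bnPair hgen).N)}
  [Finite Y] [Fact p.Prime] {τ : MulAut Y} {t : Mv (Bl R hgen cs' hcs) Y} {x : Y ⧸ (R.bnPair hgen).B} {J : Set I}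
  {w : WP (R.bnPair hgen)}

end Cfsg.Agent.H885.Dsp
end

-- part: H885/Wf/Asm
section
/-!
# S3826: `D₄(q)` in characteristic three

helper885 (task 4270).
* `exists_ext` : `Γ ≤ Aut K` acts on the building of `K`, for a group `K` with a root group datum;
* `arow_D4`, `wfrow_D4`, `wfrow_tri` : the row of `D₄(3ᵏ) = PΩ⁺₈(3ᵏ)`, all automorphisms of order three.
-/

set_option autoImplicit false
set_option linter.unusedSectionVars false

namespace Cfsg.Agent.H885.Wf

open CoxeterSystem Cfsg.Agent.ChevalleyStructure.CoxeterGeom Cfsg.Agent.Tits.Roots Cfsg.Agent.Tits.Core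
  Cfsg.Agent.Tits.RootComb Cfsg.Agent.Nodes.Comb Cfsg.Agent.Nodes.Reps Cfsg.Agent.Nodes.BNOf Cfsg.Agent.Nodes.BNOf.RGD
  Cfsg.Agent.FixBN Cfsg.Agent.Tits.OfBN Cfsg.Agent.Tits.OppRes Cfsg.Agent.LieExceptional.BNPairCore
  Cfsg.Agent.OddHalf.Table.AutBldg Cfsg.Agent.OddHalf.Table.AutRGD Cfsg.Agent.OddHalf.Table.AutNorm
  Cfsg.Agent.Tits.Exchange Cfsg.Agent.H612.WModel Cfsg.Agent.H81.PJSum Cfsg.Agent.H523.Dsp Cfsg.Agent.Tits.Core.Bldg
  Cfsg.Agent.H905.DC Cfsg.Agent.UGT.U2.FOne Cfsg.Agent.Nodes.RGDLib Cfsg.Agent.Tits Cfsg.Agent.H523.DspRgd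
  Cfsg.Agent.Schreier.BNSch Cfsg.Agent.H533.Wf

universe u v

section Act

variable {I : Type*} [Fintype I] [DecidableEq I] {M : CoxeterMatrix I} {W : Type*} [Group W] {cs : CoxeterSystem M W} {C : Type*}
  {Δ : Bldg cs C} {K : Type v} [Group K] [MulAction K C] {p : ℕ} [Finite C] [Finite K] [Finite W] [F : OppRes.Cox cs]

/-- **The action of `Γ` on the building.** -/
theorem exists_ext [Nonempty C] (S : Sys Δ K p) (hth : Δ.Thick) (htr : ∀ x y : C, ∃ k : K, k • x = y)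
    (hfaith : FaithfulSMul K C)
    (hmv : ∀ τ : MulAut K, ∃ t : Mv Δ K, t.τ = τ) (Γ : Subgroup (MulAut K)) (inc : K →* Γ)
    (hinc : ∀ k, (inc k : MulAut K) = MulAut.conj k) :
    ∃ (_ : MulAction Γ C) (φ : Γ → (W ≃* W)) (σ : Γ → I → I), Ext S inc φ σ ∧
      (∀ g i j, M (σ g i) (σ g j) = M i j) ∧ ∀ g : Γ, (∀ x : C, g • x = x) → g = 1 := by
  choose t ht using hmv
  let act : MulAction Γ C :=
    { smul := fun g x => (t g).θ x
      one_smul := fun x => Mv.θ_eq S hth (t := t ((1 : Γ) : MulAut K)) (t' := Mv.one Δ K)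
        (fun g => by rw [ht]; rfl) x
      mul_smul := fun g g' x => Mv.θ_eq S hth (t := t ((g * g' : Γ) : MulAut K)) (t' := (t g).comp (t g'))
        (fun k => by
          change (t ((g * g' : Γ) : MulAut K)).τ k = (t g).τ ((t g').τ k)
          rw [ht, ht, ht]; rfl) x }
  refine ⟨act, fun g => (t g).φ, fun g => (t g).σ, ⟨hth, ?_, htr, ?_, ?_⟩, ?_, ?_⟩
  · intro k x
    exact Mv.θ_eq S hth (t := t (inc k : MulAut K)) (t' := Mv.inner S k) (fun g => by rw [ht, hinc]; rfl) x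
  · exact fun g x y => (t g).δ_θ x y
  · exact fun g i => (t g).φ_simple i
  · intro g i j
    rw [← LieRecognition.CoxForm.orderOf_eq cs, ← LieRecognition.CoxForm.orderOf_eq cs, ← (t g).φ_simple,
      ← (t g).φ_simple, ← map_mul]
    exact (t g).φ.orderOf_eq _
  · intro g hg
    apply Subtype.ext
    ext k
    have h1 : ∀ x : C, (g : MulAut K) k • x = k • x := by
      intro x
      have h2 := (t g).θ_smul k x
      have h3 : ∀ x, (t g).θ x = x := hg
      rw [h3, h3, ht] at h2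
      exact h2.symm
    exact hfaith.eq_of_smul_eq_smul h1

end Act

section Adj

variable {I : Type*} {M : CoxeterMatrix I} {W : Type*} [Group W] {cs : CoxeterSystem M W} {C : Type*}
  {Δ : Bldg cs C}

/-- a fixed chamber adjacent to a moved chamber -/
theorem exists_adj {θ : C → C} {x y : C} (hx : θ x = x) (hy : θ y ≠ y) :
    ∃ z w j, θ z = z ∧ Δ.δ z w = cs.simple j ∧ θ w ≠ w := by
  have key : ∀ ω : List I, ∀ y, Δ.δ x y = cs.wordProd ω → θ y ≠ y →
      ∃ z w j, θ z = z ∧ Δ.δ z w = cs.simple j ∧ θ w ≠ w := by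
    intro ω
    induction ω using List.reverseRecOn with
    | nil =>
      intro y hxy hy
      rw [cs.wordProd_nil] at hxy
      rw [← Δ.eq_of_δ_eq_one hxy] at hy
      exact absurd hx hy
    | append_singleton ω i ih =>
      intro b hab hb
      obtain ⟨z, hz1, hz2⟩ := Δ.exists_step x b i
      rw [hab, cs.wordProd_append, cs.wordProd_singleton, mul_assoc, cs.simple_mul_simple_self, mul_one] at hz2
      by_cases hz : θ z = z
      · exact ⟨z, b, i, hz, Δ.δ_symm_simple hz1, hb⟩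
      · exact ih z hz2 hz
  obtain ⟨ω, hω⟩ := cs.wordProd_surjective (Δ.δ x y)
  exact key ω y hω.symm hy

end Adj

section DFour

variable {W : Type*} [Group W] {cs : CoxeterSystem Lie.coxeterD4 W} {C : Type*}
  {Δ : Bldg cs C} {K : Type*} [Group K] [MulAction K C] {G : Type v} [Group G] [MulAction G C]
  [Finite C] [Finite G] [F : OppRes.Cox cs] {S : Sys Δ K 3} {inc : K →* G} {φ : G → (W ≃* W)}
  {σ : G → Fin 4 → Fin 4}

/-- the entries of a Coxeter matrix -/
def ent {l : ℕ} (M : CoxeterMatrix (Fin l)) (i j : Fin l) : ℕ := M i j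

/-- symmetries of the diagram -/
theorem symD4' : ∀ σ : Equiv.Perm (Fin 4), (∀ i j, ent Lie.coxeterD4 (σ i) (σ j) = ent Lie.coxeterD4 i j) →
    σ 1 = 1 ∧ (σ ^ 3 = 1 → (∀ i, σ i = i) ∨ ∀ i, i ≠ 1 → σ i ≠ i) := by
  decide +kernel

theorem bondD4 : ∀ i : Fin 4, i ≠ 1 → ent Lie.coxeterD4 1 i = 3 ∧ ent Lie.coxeterD4 i 1 = 3 := by
  decide +kernel

/-- **No configuration acts on a building of type `D₄` in characteristic three.** -/
theorem Ext.false_D4 [Nonempty C] (E : Ext S inc φ σ) (hM : ∀ g i j, Lie.coxeterD4 (σ g i) (σ g j) = Lie.coxeterD4 i j)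
    (hfaith : ∀ g : G, (∀ x : C, g • x = x) → g = 1) {Ssub : Subgroup G} {𝒞 𝒟 : Set G} (h : Cfg 3 Ssub 𝒞 𝒟) :
    False := by
  have h3p : Fact (Nat.Prime 3) := ⟨Nat.prime_three⟩
  -- the types
  let P : G → Equiv.Perm (Fin 4) := fun g =>
    Equiv.ofBijective (σ g) (Finite.injective_iff_bijective.1 (E.σ_injective g))
  have hPa : ∀ g i, P g i = σ g i := fun g i => rfl
  have hP : ∀ g, ∀ i j, ent Lie.coxeterD4 (P g i) (P g j) = ent Lie.coxeterD4 i j := fun g i j => hM g i j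
  have hσo : ∀ g, σ g 1 = 1 := fun g => (symD4' (P g) (hP g)).1
  have hσmul : ∀ g g' i, σ (g * g') i = σ g (σ g' i) := by
    intro g g' i
    apply F.inj
    rw [← E.φ_simple, E.φ_mul, E.φ_simple, E.φ_simple]
  have hσone : ∀ i, σ 1 i = i := by
    intro i
    apply F.inj
    rw [← E.φ_simple, ← map_one inc, E.φ_inc]
  have hP3 : ∀ c : G, c ^ 3 = 1 → (P c) ^ 3 = 1 := by
    intro c hc
    ext1 i
    rw [Equiv.Perm.one_apply, pow_succ, pow_two, Equiv.Perm.mul_apply, Equiv.Perm.mul_apply, hPa, hPa, hPa,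
      ← hσmul, ← hσmul, ← pow_two, ← pow_succ, hc, hσone]
  have htype : ∀ c : G, c ^ 3 = 1 → (∀ i, σ c i = i) ∨ ∀ i, i ≠ 1 → σ c i ≠ i :=
    fun c hc => (symD4' (P c) (hP c)).2 (hP3 c hc)
  have hφid : ∀ c : G, (∀ i, σ c i = i) → ∀ w, φ c w = w := by
    intro c hc w
    obtain ⟨ω, rfl⟩ := cs.wordProd_surjective w
    induction ω with
    | nil => rw [cs.wordProd_nil, map_one]
    | cons i ω ih => rw [cs.wordProd_cons, map_mul, ih, E.φ_simple, hc]
  have pw : ∀ {c : G}, orderOf c = 3 → c ^ 3 = 1 := fun {c} hc => by rw [← hc, pow_orderOf_eq_one]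
  -- a moved chamber next to a fixed one
  have hmv : ∀ d : G, orderOf d = 3 → ∃ z w j, d • z = z ∧ Δ.δ z w = cs.simple j ∧ d • w ≠ w := by
    intro d hd
    obtain ⟨x, hx⟩ := E.exists_fixed_one hd
    obtain ⟨y, hy⟩ : ∃ y : C, d • y ≠ y := by
      by_contra hcon
      push Not at hcon
      have h1 := hfaith d hcon
      rw [h1, orderOf_one] at hd
      norm_num at hd
    exact exists_adj (Δ := Δ) (θ := fun x => d • x) hx hy
  -- the types of the moved chambers
  have hmv' : ∀ d : G, orderOf d = 3 → (∀ i, σ d i = i) → ∀ i j, (i = 1 ∨ j = 1) → ∀ z w, d • z = z →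
      Δ.δ z w = cs.simple j → d • w ≠ w → ∃ z w, d • z = z ∧ Δ.δ z w = cs.simple i ∧ d • w ≠ w := by
    intro d hd hσd i j hij z w hz hzw hw
    by_cases h1 : i = j
    · subst h1; exact ⟨z, w, hz, hzw, hw⟩
    · refine exists_moved (Δ := Δ) (θ := fun x => d • x) (fun a b => ?_) h1 ?_ hz hzw hw
      · rw [E.δ_smul, hφid d hσd]
      · rcases hij with rfl | rfl
        · exact (bondD4 j (Ne.symm h1)).1
        · exact (bondD4 i h1).2
  -- elements rotating the types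
  have hrot : ∀ {𝒞 𝒟 : Set G}, Cfg 3 Ssub 𝒞 𝒟 → ∀ c ∈ 𝒞, ∀ d ∈ 𝒟, (∀ i, i ≠ 1 → σ c i ≠ i) → False := by
    intro 𝒞 𝒟 h c hc d hd hσc
    have hJ : ∀ (g : G), ∀ i ∈ ({1}ᶜ : Set (Fin 4)), σ g i ∈ ({1}ᶜ : Set (Fin 4)) := by
      intro g i hi h1
      apply hi
      apply E.σ_injective g
      rw [hσo]
      exact h1
    have h0 : (0 : Fin 4) ∈ ({1}ᶜ : Set (Fin 4)) := by decide
    obtain ⟨z₀, hz₀, a, ha, hne⟩ : ∃ z₀ : C, d • z₀ = z₀ ∧ ∃ a ∈ Δ.Res ({1}ᶜ : Set (Fin 4)) z₀, d • a ≠ a := by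
      obtain ⟨z, w, j, hz, hzw, hw⟩ := hmv d (h.ordD d hd)
      rcases htype d (pw (h.ordD d hd)) with h1 | h1
      · by_cases hj : j = 1
        · obtain ⟨z', w', hz', hzw', hw'⟩ := hmv' d (h.ordD d hd) h1 0 j (Or.inr hj) z w hz hzw hw
          exact ⟨z', hz', w', by rw [Δ.mem_Res, hzw']; exact _root_.Cfsg.Agent.Tits.Exchange.simple_mem_WJ cs h0, hw'⟩
        · exact ⟨z, hz, w, by rw [Δ.mem_Res, hzw]; exact _root_.Cfsg.Agent.Tits.Exchange.simple_mem_WJ cs hj, hw⟩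
      · obtain ⟨a, ha⟩ := Δ.exists_δ z (cs.simple 0)
        refine ⟨z, hz, a, by rw [Δ.mem_Res, ha]; exact _root_.Cfsg.Agent.Tits.Exchange.simple_mem_WJ cs h0, fun h2 => ?_⟩
        have h3 := E.δ_smul d z a
        rw [hz, h2, ha, E.φ_simple] at h3
        exact h1 0 (by decide) (F.inj h3).symm
    exact E.false_of_rot h hJ (o := 1) (fun h => h rfl) hc hd hz₀ ⟨a, ha, hne⟩ hσc
  obtain ⟨c, hc⟩ := h.neC
  obtain ⟨d, hd⟩ := h.neD
  rcases htype c (pw (h.ordC c hc)) with h1 | h1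
  · rcases htype d (pw (h.ordD d hd)) with h2 | h2
    · obtain ⟨z, w, j, hz, hzw, hw⟩ := hmv c (h.ordC c hc)
      obtain ⟨x₀, y₀, e1, e2, e3⟩ := hmv' c (h.ordC c hc) h1 1 j (Or.inl rfl) z w hz hzw hw
      obtain ⟨z, w, j, hz, hzw, hw⟩ := hmv d (h.ordD d hd)
      obtain ⟨z₀, u₀, f1, f2, f3⟩ := hmv' d (h.ordD d hd) h2 1 j (Or.inl rfl) z w hz hzw hw
      exact E.false_of_pan h (o := 1) (i := 0) hσo (by decide) hc hd e1 e2 e3 f1 f2 f3
    · exact hrot h.symm d hd c hc h2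
  · exact hrot h c hc d hd h1

end DFour

section Row

variable (F : Type) [Field F] [Finite F] [CharP F 3]

open Cfsg.Agent.Nodes.RGDChev Cfsg.Lie in
/-- **The row of `D₄(3ᵏ)`.** -/
theorem arow_D4 : ARow 3 ↥(chevD4.group F) := by
  intro Γ 𝒞 𝒟 h
  have h3p : Fact (Nat.Prime 3) := ⟨Nat.prime_three⟩
  have hs := h.simple
  have hp : IsType chevD4 4 coxeterD4 := by simp [IsType, typeList]
  have hW := finite_W hp coxeterD4.toCoxeterSystem
  have hfin : Finite ↥(chevD4.group F) := inferInstance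
  have R := rgd (K := F) hp coxeterD4.toCoxeterSystem 3
  have hG := G1_eq_top (K := F) hp coxeterD4.toCoxeterSystem
  have hgen := rgd_gen_of_G1 R hG
  have hne : ((R.bnPair hgen).S).Nonempty := ⟨_, ((eS R hgen) (0 : Fin 4)).2⟩
  have hcore := normalCore_eq_bot (R.bnPair hgen) hne
  obtain ⟨hN', cs', hcs, hfin', hS⟩ := exists_setup R hgen hcore
  have hth := Tits.OfBN.thick (R.bnPair hgen) (eS R hgen) cs' hcs
  have S := FixBN.OfBN.sys (eS R hgen) cs' hcs hS
  have hSA := strongAct (R.bnPair hgen) (eS R hgen) cs' hcs hcore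
  have hnc : Nonempty (↥(chevD4.group F) ⧸ (R.bnPair hgen).B) := ⟨QuotientGroup.mk 1⟩
  obtain ⟨act, φ, σ, E, hM, hf⟩ := exists_ext S hth (fun x y => (MulAction.exists_smul_eq _ x y : _)) (hSA.faithful :)
    (fun τ => exists_mv hS (eS R hgen) cs' hcs τ) Γ h.inc h.coe_inc
  exact (E.false_D4 hM hf h.toCfg :)

theorem wfrow_D4 : WfRow.{u, 0} 3 ↥(Lie.chevD4.group F) := WfRow.of_arow (arow_D4 F)

/-- **The row of `PΩ⁺₈(3ᵏ)`**, all automorphisms of order three. -/
theorem wfrow_tri : WfRow.{u, 0} 3 (Cfsg.POmega F (Cfsg.quadFormPlus 4 F)) := by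
  obtain ⟨f⟩ := S1082.result (F := F)
  exact (wfrow_D4 F).congr f

end Row

end Cfsg.Agent.H885.Wf
end
end
end
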